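import Mathlib.RingTheory.Flat.Equalizer
import Mathlib.RingTheory.Nilpotent.Basic
import Mathlib.LinearAlgebra.TensorProduct.RightExactness
import Mathlib.LinearAlgebra.TensorProduct.Quotient
import Mathlib.Algebra.Module.Projective

/-!
# Projectivity along nilpotent ideals
-/

universe u v w

open scoped TensorProduct

namespace Groth.Agent.CAlgOdd

variable {R : Type u} [CommRing R] (I : Ideal R)

theorem one_tmul_quot_eq_zero_iff {X : Type v} [AddCommGroup X] [Module R X] (x : X) :
    (1 : R ⧸ I) ⊗ₜ[R] x = 0 ↔ x ∈ I • (⊤ : Submodule R X) := by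
  rw [← (TensorProduct.quotTensorEquivQuotSMul X I).map_eq_zero_iff]
  erw [TensorProduct.quotTensorEquivQuotSMul_mk_tmul]
  rw [one_smul, Submodule.Quotient.mk_eq_zero]

variable {ι : Type w} {M : Type v} [AddCommGroup M] [Module R M]
variable {K : Type w} [AddCommGroup K] [Module R K]

/-- A flat module which is projective modulo a nilpotent ideal is a summand of any free module
mapping onto it. -/
theorem exists_section_of_flat_of_nilpotent [Module.Flat R M] (hI : IsNilpotent I)
    (π : (ι →₀ R) →ₗ[R] M) (hπ : Function.Surjective π) (j : K →ₗ[R] (ι →₀ R))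
    (hj : Function.Injective j) (hex : Function.Exact j π)
    (hproj : Module.Projective (R ⧸ I) ((R ⧸ I) ⊗[R] M)) :
    ∃ t : M →ₗ[R] (ι →₀ R), π ∘ₗ t = LinearMap.id := by
  classical
  have hπB : Function.Surjective (π.baseChange (R ⧸ I)) := LinearMap.lTensor_surjective _ hπ
  obtain ⟨s, hs⟩ := Module.projective_lifting_property (π.baseChange (R ⧸ I)) LinearMap.id hπB
  have hmk : ∀ (X : Type w) [AddCommGroup X] [Module R X],
      Function.Surjective (fun x : X => (1 : R ⧸ I) ⊗ₜ[R] x) :=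
    fun X _ _ => TensorProduct.mk_surjective R X (R ⧸ I) Ideal.Quotient.mk_surjective
  have hKB : Function.Injective (j.lTensor (R ⧸ I)) :=
    LinearMap.lTensor_injective_of_exact_of_flat π hπ j hj hex (R ⧸ I)
  have hexB := lTensor_exact (R ⧸ I) hex hπ
  have hk : ∀ i : ι, ∃ k : K, (1 : R ⧸ I) ⊗ₜ[R] j k =
      (1 : R ⧸ I) ⊗ₜ[R] (Finsupp.single i 1 : ι →₀ R) - s ((1 : R ⧸ I) ⊗ₜ[R] π (Finsupp.single i 1)) := by
    intro i
    have hz : π.baseChange (R ⧸ I) ((1 : R ⧸ I) ⊗ₜ[R] (Finsupp.single i 1 : ι →₀ R) -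
        s ((1 : R ⧸ I) ⊗ₜ[R] π (Finsupp.single i 1))) = 0 := by
      rw [map_sub, show π.baseChange (R ⧸ I) (s _) = _ from LinearMap.congr_fun hs _]
      simp
    obtain ⟨w, hw⟩ := (hexB _).mp hz
    obtain ⟨k, rfl⟩ := hmk K w
    exact ⟨k, hw⟩
  choose k hk using hk
  let r : (ι →₀ R) →ₗ[R] K := Finsupp.linearCombination R k
  have hr : ∀ f : ι →₀ R,
      (1 : R ⧸ I) ⊗ₜ[R] j (r f) = (1 : R ⧸ I) ⊗ₜ[R] f - s ((1 : R ⧸ I) ⊗ₜ[R] π f) := by
    intro f
    induction f using Finsupp.induction_linear with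
    | zero => simp
    | add a b ha hb =>
      simp only [map_add, TensorProduct.tmul_add, ha, hb]
      abel
    | single i c =>
      have e1 : r (Finsupp.single i c) = c • k i := by simp [r]
      rw [e1, ← Finsupp.smul_single_one i c]
      simp only [map_smul, TensorProduct.tmul_smul, hk, smul_sub]
      congr 1
      exact (LinearMap.map_smul_of_tower s c _).symm
  let N : Module.End R K := LinearMap.id - r ∘ₗ j
  have hN : ∀ x : K, N x ∈ I • (⊤ : Submodule R K) := by
    intro x
    rw [← one_tmul_quot_eq_zero_iff]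
    refine hKB ?_
    rw [map_zero, LinearMap.lTensor_tmul]
    simp only [N, LinearMap.sub_apply, LinearMap.id_apply, LinearMap.comp_apply, map_sub,
      TensorProduct.tmul_sub]
    rw [hr, hex.apply_apply_eq_zero, TensorProduct.tmul_zero, map_zero, sub_zero, sub_self]
  obtain ⟨n, hn⟩ := hI
  have hpow : ∀ m, LinearMap.range (N ^ m) ≤ I ^ m • (⊤ : Submodule R K) := by
    intro m
    induction m with
    | zero => simp
    | succ m ih =>
      rw [pow_succ N, Module.End.mul_eq_comp, LinearMap.range_comp]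
      refine (Submodule.map_mono (f := N ^ m)
        (show LinearMap.range N ≤ I • ⊤ by rintro _ ⟨x, rfl⟩; exact hN x)).trans ?_
      rw [Submodule.map_smul'', Submodule.map_top, pow_succ', Submodule.mul_smul]
      exact Submodule.smul_mono le_rfl ih
  have hnil : IsNilpotent N := ⟨n, LinearMap.range_eq_bot.mp (le_bot_iff.mp (by
    have h0 := hpow n
    rwa [hn, Ideal.zero_eq_bot, Submodule.bot_smul] at h0))⟩
  have hu : IsUnit (r ∘ₗ j : Module.End R K) := by
    have := hnil.isUnit_one_sub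
    simpa [N, Module.End.one_eq_id] using this
  obtain ⟨u, hu⟩ := hu
  let ρ : (ι →₀ R) →ₗ[R] K := (↑u⁻¹ : Module.End R K) ∘ₗ r
  have hρ : ∀ x : K, ρ (j x) = x := fun x => by
    have := LinearMap.congr_fun u.inv_mul x
    rw [hu] at this
    exact this
  let φ : (ι →₀ R) →ₗ[R] (ι →₀ R) := LinearMap.id - j ∘ₗ ρ
  have hφ : LinearMap.ker π ≤ LinearMap.ker φ := fun x hx => by
    obtain ⟨y, rfl⟩ := (hex x).mp (LinearMap.mem_ker.mp hx)
    simp [φ, hρ]
  refine ⟨(LinearMap.ker π).liftQ φ hφ ∘ₗ (LinearMap.quotKerEquivOfSurjective π hπ).symm.toLinearMap, ?_⟩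
  ext m
  obtain ⟨f, rfl⟩ := hπ m
  have he : (LinearMap.quotKerEquivOfSurjective π hπ).symm (π f) = Submodule.Quotient.mk f := by
    rw [LinearEquiv.symm_apply_eq]; rfl
  simp [he, φ, hex.apply_apply_eq_zero]

end Groth.Agent.CAlgOdd
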