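import Mathlib
import Groth.Prelude.Def_CAlgX

/-!
H1-regular sequences: the kernel of evaluation on homogeneous polynomials is generated by the
Koszul relations (linear type), hence quasi-regularity.
-/

universe u

namespace Groth.Agent.CAlgOdd.H1Regular

open MvPolynomial Finset

variable {c : ℕ} {R : Type u} [CommRing R]

/-- The elementary alternating matrix. -/
def w (a b i j : Fin c) : R :=
  (if i = a ∧ j = b then 1 else 0) - (if i = b ∧ j = a then 1 else 0)

theorem w_self (a b i : Fin c) : w a b i i = (0 : R) := by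
  by_cases h1 : i = a <;> by_cases h2 : i = b <;> simp [w, h1, h2]

theorem w_swap (a b i j : Fin c) : w a b j i = -(w a b i j : R) := by
  unfold w
  rw [neg_sub]
  congr 1 <;> exact if_congr and_comm rfl rfl

theorem sum_w_mul (a b i : Fin c) (v : Fin c → R) :
    ∑ j, w a b i j * v j = (if i = a then v b else 0) - (if i = b then v a else 0) := by
  simp only [w, sub_mul, Finset.sum_sub_distrib, ite_mul, one_mul, zero_mul, ite_and]
  congr 1 <;> · split_ifs <;> simp

/-- The triangle: boundary of a basis element of the third exterior power. -/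
def tri (v : Fin c → R) (a b l i j : Fin c) : R :=
  v l * w a b i j + v a * w b l i j + v b * w l a i j

theorem tri_self (v : Fin c → R) (a b l i : Fin c) : tri v a b l i i = 0 := by simp [tri, w_self]

theorem tri_swap (v : Fin c → R) (a b l i j : Fin c) : tri v a b l j i = -tri v a b l i j := by
  simp only [tri, w_swap _ _ i j]; ring

theorem sum_tri_mul (v : Fin c → R) (a b l i : Fin c) : ∑ j, tri v a b l i j * v j = 0 := by
  simp only [tri, add_mul, Finset.sum_add_distrib, mul_assoc, ← Finset.mul_sum, sum_w_mul]
  split_ifs <;> ring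

theorem map_w {S : Type*} [CommRing S] (φ : R →+* S) (a b i j : Fin c) :
    φ (w a b i j) = w a b i j := by
  simp [w, apply_ite φ]

/-- Alternating matrices. -/
def IsAlt (A : Fin c → Fin c → R) : Prop := (∀ i, A i i = 0) ∧ ∀ i j, A j i = -A i j

theorem IsAlt.sum_mul_mul {A : Fin c → Fin c → R} (hA : IsAlt A) (v : Fin c → R) :
    ∑ i, v i * ∑ j, A i j * v j = 0 := by
  simp only [Finset.mul_sum]
  rw [← Fintype.sum_prod_type']
  refine Finset.sum_involution (fun p _ => p.swap) (fun p _ => ?_) (fun p _ hp hsw => hp ?_)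
    (fun p _ => Finset.mem_univ _) fun p _ => Prod.swap_swap p
  · rw [Prod.fst_swap, Prod.snd_swap, hA.2 p.1 p.2]; ring
  · have : p.2 = p.1 := congrArg Prod.fst hsw
    rw [this, hA.1]; ring

theorem IsAlt.sum_w {A : Fin c → Fin c → R} (hA : IsAlt A) (i j : Fin c) :
    ∑ a, ∑ b, (if a < b then A a b else 0) * w a b i j = A i j := by
  simp only [w, mul_sub, mul_ite, mul_one, mul_zero, ite_and, Finset.sum_sub_distrib]
  simp only [Finset.sum_ite_irrel, Finset.sum_const_zero, Finset.sum_ite_eq, Finset.mem_univ, if_true]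
  rcases lt_trichotomy i j with h | h | h
  · simp [h, h.not_gt]
  · subst h; simp [hA.1]
  · simp [h, h.not_gt, hA.2 j i]

theorem isHomogeneous_divMonomial {p : MvPolynomial (Fin c) R} {k : ℕ} (hp : p.IsHomogeneous (k + 1))
    (i : Fin c) : (p.divMonomial (Finsupp.single i 1)).IsHomogeneous k := by
  intro d hd
  rw [coeff_divMonomial] at hd
  have := hp hd
  rw [map_add, Finsupp.weight_single, Pi.one_apply, smul_eq_mul, one_mul] at this
  omega

theorem modMonomial_eq_zero_of_mul_X {p : MvPolynomial (Fin c) R} (i : Fin c)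
    (h : p * X i = 0) : p = 0 := by
  have := congrArg (fun q => q.divMonomial (Finsupp.single i 1)) h
  simpa [mul_X_divMonomial] using this

theorem modMonomial_mul_of_ne {p : MvPolynomial (Fin c) R} {i j : Fin c} (hij : j ≠ i)
    (hp : p.modMonomial (Finsupp.single i 1) = p) :
    (p * X j).modMonomial (Finsupp.single i 1) = p * X j := by
  ext d
  by_cases hd : Finsupp.single i 1 ≤ d
  · rw [coeff_modMonomial_of_le _ hd, coeff_mul_X']
    split_ifs with hj
    · have hd' : Finsupp.single i 1 ≤ d - Finsupp.single j 1 := by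
        rw [Finsupp.single_le_iff] at hd ⊢
        simp [Finsupp.single_eq_of_ne hij.symm]
        omega
      rw [← hp, coeff_modMonomial_of_le _ hd']
    · rfl
  · rw [coeff_modMonomial_of_not_le _ hd]

theorem modMonomial_mul_self (p : MvPolynomial (Fin c) R) (i : Fin c) :
    (p * X i).modMonomial (Finsupp.single i 1) = 0 := mul_X_modMonomial p i

theorem modMonomial_modMonomial (p : MvPolynomial (Fin c) R) (i : Fin c) :
    (p.modMonomial (Finsupp.single i 1)).modMonomial (Finsupp.single i 1) =
      p.modMonomial (Finsupp.single i 1) := by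
  ext d
  by_cases hd : Finsupp.single i 1 ≤ d
  · rw [coeff_modMonomial_of_le _ hd, coeff_modMonomial_of_le _ hd]
  · rw [coeff_modMonomial_of_not_le _ hd]

theorem add_modMonomial (p q : MvPolynomial (Fin c) R) (s : Fin c →₀ ℕ) :
    (p + q).modMonomial s = p.modMonomial s + q.modMonomial s := by
  ext d
  by_cases hd : s ≤ d
  · simp [coeff_modMonomial_of_le _ hd]
  · simp [coeff_modMonomial_of_not_le _ hd]

theorem sum_modMonomial {ι : Type*} (t : Finset ι) (f : ι → MvPolynomial (Fin c) R) (s : Fin c →₀ ℕ) :
    (∑ i ∈ t, f i).modMonomial s = ∑ i ∈ t, (f i).modMonomial s :=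
  map_sum (AddMonoidHom.mk' (fun p : MvPolynomial (Fin c) R => p.modMonomial s)
    (fun p q => add_modMonomial p q s)) f t

/-- Second Koszul cycles over a polynomial ring are boundaries. -/
theorem exists_eq_sum_tri (s : Finset (Fin c)) : ∀ (k : ℕ) (A : Fin c → Fin c → MvPolynomial (Fin c) R),
    (∀ i j, (A i j).IsHomogeneous (k + 1)) → IsAlt A → (∀ i, ∑ j, A i j * X j = 0) →
    (∀ i j, i ∉ s ∨ j ∉ s → A i j = 0) →
    ∃ Q : Fin c → Fin c → Fin c → MvPolynomial (Fin c) R, (∀ a b l, (Q a b l).IsHomogeneous k) ∧
      ∀ i j, A i j = ∑ a, ∑ b, ∑ l, Q a b l * tri X a b l i j := by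
  classical
  induction s using Finset.induction with
  | empty =>
    intro k A _ _ _ hs
    exact ⟨0, fun _ _ _ => isHomogeneous_zero _ _ _, fun i j => by
      simp [hs i j (Or.inl (Finset.notMem_empty i))]⟩
  | insert v s hv ih =>
    intro k A hA halt hcyc hs
    let e := Finsupp.single v 1
    let B : Fin c → Fin c → MvPolynomial (Fin c) R := fun i j =>
      if i ∈ s ∧ j ∈ s then (A i j).divMonomial e else 0
    have hBalt : IsAlt B := by
      refine ⟨fun i => ?_, fun i j => ?_⟩
      · simp [B, halt.1]
      · simp only [B, and_comm (a := j ∈ s)]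
        split_ifs with h
        · have h0 : (A i j).divMonomial e + (A j i).divMonomial e = 0 := by
            rw [← add_divMonomial, halt.2 i j, add_neg_cancel, zero_divMonomial]
          linear_combination h0
        · simp
    have hBhom : ∀ i j, (B i j).IsHomogeneous k := fun i j => by
      simp only [B]
      split_ifs
      · exact isHomogeneous_divMonomial (hA i j) v
      · exact isHomogeneous_zero _ _ _
    let U : Fin c → Fin c → MvPolynomial (Fin c) R := fun a b => if a < b then B a b else 0
    let A' : Fin c → Fin c → MvPolynomial (Fin c) R := fun i j =>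
      A i j - ∑ a, ∑ b, U a b * tri X a b v i j
    have hU : ∀ a b, U a b = 0 ∨ (a ∈ s ∧ b ∈ s) := fun a b => by
      simp only [U, B]
      split_ifs with h h' <;> simp_all
    have htri : ∀ i j, i ∈ s → j ∈ s →
        ∑ a, ∑ b, U a b * tri X a b v i j = X v * B i j := by
      intro i j hi hj
      rw [← hBalt.sum_w i j, Finset.mul_sum]
      refine Finset.sum_congr rfl fun a _ => ?_
      rw [Finset.mul_sum]
      refine Finset.sum_congr rfl fun b _ => ?_
      have hiv : i ≠ v := fun h => hv (h ▸ hi)
      have hjv : j ≠ v := fun h => hv (h ▸ hj)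
      simp [tri, w, U, hiv, hjv]
      ring
    have htri0 : ∀ i j, (i ∉ insert v s ∨ j ∉ insert v s) →
        ∑ a, ∑ b, U a b * tri X a b v i j = 0 := by
      intro i j hij
      refine Finset.sum_eq_zero fun a _ => Finset.sum_eq_zero fun b _ => ?_
      rcases hU a b with h | ⟨ha, hb⟩
      · rw [h, zero_mul]
      · simp only [Finset.mem_insert, not_or] at hij
        rcases hij with ⟨h1, h2⟩ | ⟨h1, h2⟩
        · have e1 : i ≠ a := fun h => h2 (h ▸ ha)
          have e2 : i ≠ b := fun h => h2 (h ▸ hb)
          simp [tri, w, h1, e1, e2]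
        · have e1 : j ≠ a := fun h => h2 (h ▸ ha)
          have e2 : j ≠ b := fun h => h2 (h ▸ hb)
          simp [tri, w, h1, e1, e2]
    have halt' : IsAlt A' := by
      refine ⟨fun i => ?_, fun i j => ?_⟩
      · simp [A', halt.1, tri_self]
      · simp only [A', halt.2 i j, tri_swap X _ _ _ i j, mul_neg, Finset.sum_neg_distrib]
        ring
    have hcyc' : ∀ i, ∑ j, A' i j * X j = 0 := by
      intro i
      simp only [A', sub_mul, Finset.sum_sub_distrib, hcyc i, zero_sub, neg_eq_zero, Finset.sum_mul]
      rw [Finset.sum_comm]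
      refine Finset.sum_eq_zero fun a _ => ?_
      rw [Finset.sum_comm]
      refine Finset.sum_eq_zero fun b _ => ?_
      simp only [mul_assoc, ← Finset.mul_sum, sum_tri_mul, mul_zero]
    have hA'ij : ∀ i j, i ∈ s → j ∈ s → A' i j = (A i j).modMonomial e := by
      intro i j hi hj
      simp only [A', htri i j hi hj, B, hi, hj, and_self, if_true]
      rw [sub_eq_iff_eq_add]
      exact (modMonomial_add_divMonomial_single (A i j) v).symm
    have hA'0 : ∀ i j, (i ∉ insert v s ∨ j ∉ insert v s) → A' i j = 0 := fun i j h => by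
      simp only [A', hs i j h, htri0 i j h, sub_zero]
    have hA'v : ∀ i, A' i v = 0 := by
      intro i
      by_cases hi : i ∈ s
      · refine modMonomial_eq_zero_of_mul_X v ?_
        have h1 := hcyc' i
        rw [Fintype.sum_eq_add_sum_compl v] at h1
        have h2 := congrArg (fun p => p.modMonomial e) h1
        simp only [add_modMonomial, sum_modMonomial, e, modMonomial_mul_self, zero_add] at h2
        have h3 : ∀ j ∈ ({v}ᶜ : Finset (Fin c)),
            (A' i j * X j).modMonomial (Finsupp.single v 1) = A' i j * X j := by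
          intro j hj
          have hjv : j ≠ v := by simpa using hj
          refine modMonomial_mul_of_ne hjv ?_
          by_cases hjs : j ∈ s
          · rw [hA'ij i j hi hjs]; exact modMonomial_modMonomial _ _
          · rw [hA'0 i j (Or.inr (by simp [hjs, hjv]))]
            ext d
            by_cases hd : Finsupp.single v 1 ≤ d
            · simp [coeff_modMonomial_of_le _ hd]
            · simp [coeff_modMonomial_of_not_le _ hd]
        rw [Finset.sum_congr rfl h3] at h2
        have h4 : (0 : MvPolynomial (Fin c) R).modMonomial (Finsupp.single v 1) = 0 := by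
          ext d
          by_cases hd : Finsupp.single v 1 ≤ d
          · simp [coeff_modMonomial_of_le _ hd]
          · simp [coeff_modMonomial_of_not_le _ hd]
        rw [h4] at h2
        rwa [h2, add_zero] at h1
      · by_cases hiv : i = v
        · subst hiv; exact halt'.1 i
        · exact hA'0 i v (Or.inl (by simp [hi, hiv]))
    have hhom' : ∀ i j, (A' i j).IsHomogeneous (k + 1) := fun i j => by
      refine (hA i j).sub (IsHomogeneous.sum _ _ _ fun a _ => IsHomogeneous.sum _ _ _ fun b _ => ?_)
      simp only [U]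
      split_ifs
      · refine (hBhom a b).mul ?_
        simp only [tri, w]
        have h1 : ∀ (l : Fin c) (P Q : Prop) [Decidable P] [Decidable Q],
            (X l * ((if P then 1 else 0) - (if Q then 1 else 0)) :
              MvPolynomial (Fin c) R).IsHomogeneous 1 := fun l P Q _ _ => by
          split_ifs <;>
            simp [isHomogeneous_X, isHomogeneous_zero, IsHomogeneous.neg]
        exact ((h1 _ _ _).add (h1 _ _ _)).add (h1 _ _ _)
      · rw [zero_mul]; exact isHomogeneous_zero _ _ _
    have hs' : ∀ i j, i ∉ s ∨ j ∉ s → A' i j = 0 := by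
      intro i j h
      rcases h with h | h
      · by_cases hiv : i = v
        · subst hiv; rw [halt'.2 j i, hA'v, neg_zero]
        · exact hA'0 i j (Or.inl (by simp [h, hiv]))
      · by_cases hjv : j = v
        · subst hjv; exact hA'v i
        · exact hA'0 i j (Or.inr (by simp [h, hjv]))
    obtain ⟨Q, hQ, hQA⟩ := ih k A' hhom' halt' hcyc' hs'
    refine ⟨fun a b l => Q a b l + if l = v then U a b else 0, fun a b l => (hQ a b l).add ?_,
      fun i j => ?_⟩
    · simp only [U]
      split_ifs
      · exact hBhom a b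
      all_goals exact isHomogeneous_zero _ _ _
    · simp only [add_mul, Finset.sum_add_distrib, ← hQA]
      simp [A', ite_mul, Finset.sum_ite_eq']

variable (f : Fin c → R)

theorem exists_decomp {n : ℕ} (P : MvPolynomial (Fin c) R) (hP : P.IsHomogeneous (n + 1)) :
    ∃ Q : Fin c → MvPolynomial (Fin c) R, (∀ i, (Q i).IsHomogeneous n) ∧ P = ∑ i, X i * Q i := by
  classical
  have key : ∀ d ∈ P.support, ∃ i, Finsupp.single i 1 ≤ d := by
    intro d hd
    have hd0 : d ≠ 0 := fun h => by
      have := hP (mem_support_iff.mp hd)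
      simp [h] at this
    obtain ⟨i, hi⟩ := Finsupp.ne_iff.mp hd0
    refine ⟨i, Finsupp.single_le_iff.mpr ?_⟩
    simp at hi
    omega
  choose ch hch using key
  refine ⟨fun i => ∑ d ∈ P.support.attach with ch d.1 d.2 = i,
    monomial (d.1 - Finsupp.single i 1) (coeff d.1 P), fun i => IsHomogeneous.sum _ _ _ fun d hd => ?_, ?_⟩
  · rw [Finset.mem_filter] at hd
    refine isHomogeneous_monomial _ ?_
    have h1 := hP (mem_support_iff.mp d.2)
    have h2 := hch d.1 d.2
    rw [hd.2] at h2
    rw [← tsub_add_cancel_of_le h2, map_add, Finsupp.weight_single] at h1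
    rw [Finsupp.degree_eq_weight_one]
    simp only [smul_eq_mul, Pi.one_apply, mul_one] at h1
    change Finsupp.weight (1 : Fin c → ℕ) _ = n
    omega
  · conv_lhs => rw [P.as_sum, ← Finset.sum_attach]
    rw [← Finset.sum_fiberwise P.support.attach (fun d => ch d.1 d.2)
      (fun d => monomial d.1 (coeff d.1 P))]
    refine Finset.sum_congr rfl fun i _ => ?_
    rw [Finset.mul_sum]
    refine Finset.sum_congr rfl fun d hd => ?_
    rw [Finset.mem_filter] at hd
    have h2 := hch d.1 d.2
    rw [hd.2] at h2
    rw [X, monomial_mul, one_mul, add_tsub_cancel_of_le h2]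

theorem exists_coeff_mem_of_mem_pow {n : ℕ} {y : R} (hy : y ∈ Ideal.span (Set.range f) ^ (n + 1)) :
    ∃ P : MvPolynomial (Fin c) R, P.IsHomogeneous n ∧ eval f P = y ∧
      ∀ d, coeff d P ∈ Ideal.span (Set.range f) := by
  obtain ⟨Q, hQ, rfl⟩ := (Ideal.mem_span_pow_iff_exists_isHomogeneous f y).mp hy
  obtain ⟨G, hG, hQG⟩ := exists_decomp Q hQ
  refine ⟨∑ i, MvPolynomial.C (f i) * G i, IsHomogeneous.sum _ _ _ fun i _ => (hG i).C_mul _, ?_,
    fun d => ?_⟩
  · simp [hQG]
  · rw [coeff_sum]
    exact Ideal.sum_mem _ fun i _ => by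
      rw [coeff_C_mul]
      exact Ideal.mul_mem_right _ _ (Ideal.subset_span ⟨i, rfl⟩)

/-- The ideal of Koszul relations. -/
noncomputable def kosz : Ideal (MvPolynomial (Fin c) R) :=
  Ideal.span {q | ∃ a b, q = MvPolynomial.C (f b) * X a - MvPolynomial.C (f a) * X b}

theorem coeff_mem_of_mem_kosz {q : MvPolynomial (Fin c) R} (hq : q ∈ kosz f) :
    ∀ d, coeff d q ∈ Ideal.span (Set.range f) := by
  rw [← MvPolynomial.mem_map_C_iff]
  refine Ideal.span_le.mpr ?_ hq
  rintro _ ⟨a, b, rfl⟩
  exact Ideal.sub_mem _ (Ideal.mul_mem_right _ _ (Ideal.mem_map_of_mem _ (Ideal.subset_span ⟨b, rfl⟩)))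
    (Ideal.mul_mem_right _ _ (Ideal.mem_map_of_mem _ (Ideal.subset_span ⟨a, rfl⟩)))

theorem eval_eq_zero_of_mem_kosz {q : MvPolynomial (Fin c) R} (hq : q ∈ kosz f) : eval f q = 0 := by
  have : kosz f ≤ RingHom.ker (eval f) := Ideal.span_le.mpr (by
    rintro _ ⟨a, b, rfl⟩
    simp [mul_comm (f a) (f b)])
  exact this hq

theorem exists_alt {v : Fin c → R} (hf : CAlgX.IsH1Regular f) (hv : ∑ i, v i * f i = 0) :
    ∃ a : Fin c → Fin c → R, IsAlt a ∧ ∀ i, v i = ∑ j, a i j * f j := by
  classical
  have hmem := hf v hv
  clear hv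
  induction hmem using Submodule.span_induction with
  | mem x hx =>
    obtain ⟨a, b, rfl⟩ := hx
    refine ⟨w a b, ⟨w_self a b, w_swap a b⟩, fun i => ?_⟩
    rw [sum_w_mul]
    simp [Pi.single_apply]
  | zero => exact ⟨0, ⟨fun _ => rfl, fun _ _ => (neg_zero).symm⟩, fun i => by simp⟩
  | add x y _ _ hx hy =>
    obtain ⟨a, ha, hax⟩ := hx
    obtain ⟨b, hb, hby⟩ := hy
    refine ⟨a + b, ⟨fun i => by simp [ha.1, hb.1], fun i j => ?_⟩, fun i => ?_⟩
    · simp only [Pi.add_apply, ha.2 i j, hb.2 i j]; ring
    · simp [hax, hby, add_mul, Finset.sum_add_distrib]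
  | smul r x _ hx =>
    obtain ⟨a, ha, hax⟩ := hx
    refine ⟨r • a, ⟨fun i => by simp [ha.1], fun i j => ?_⟩, fun i => ?_⟩
    · simp [ha.2 i j]
    · simp [hax, Finset.mul_sum, mul_assoc]

theorem mem_kosz_of_alt {A : Fin c → Fin c → MvPolynomial (Fin c) R} (hA : IsAlt A) :
    ∑ i, X i * ∑ j, A i j * MvPolynomial.C (f j) ∈ kosz f := by
  classical
  conv => arg 2; arg 2; ext i; rw [Finset.mul_sum]
  conv => arg 2; arg 2; ext i; arg 2; ext j; rw [← hA.sum_w i j]
  simp only [Finset.sum_mul, Finset.mul_sum]
  rw [Finset.sum_congr rfl fun i _ => Finset.sum_comm]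
  rw [Finset.sum_comm]
  refine Ideal.sum_mem _ fun a _ => ?_
  rw [Finset.sum_congr rfl fun i _ => Finset.sum_comm]
  rw [Finset.sum_comm]
  refine Ideal.sum_mem _ fun b _ => ?_
  have e : ∑ i, ∑ j, X i * ((if a < b then A a b else 0) * w a b i j * MvPolynomial.C (f j)) =
      (if a < b then A a b else 0) * (MvPolynomial.C (f b) * X a - MvPolynomial.C (f a) * X b) := by
    have e1 : ∀ i, ∑ j, X i * ((if a < b then A a b else 0) * w a b i j * MvPolynomial.C (f j)) =
        (if a < b then A a b else 0) * (X i * ∑ j, w a b i j * MvPolynomial.C (f j)) := fun i => by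
      simp only [Finset.mul_sum]
      exact Finset.sum_congr rfl fun j _ => by ring
    simp only [e1, ← Finset.mul_sum, sum_w_mul, mul_sub, Finset.sum_sub_distrib, mul_ite, mul_zero,
      Finset.sum_ite_eq', Finset.mem_univ, if_true]
    ring
  rw [e]
  exact Ideal.mul_mem_left _ _ (Ideal.subset_span ⟨a, b, rfl⟩)

theorem exists_lift_alt {n : ℕ} {A : Fin c → Fin c → MvPolynomial (Fin c) R} (hA : IsAlt A)
    (hhom : ∀ i j, (A i j).IsHomogeneous n)
    (hmem : ∀ i j d, coeff d (A i j) ∈ Ideal.span (Set.range f)) :
    ∃ A' : Fin c → Fin c → MvPolynomial (Fin c) R, IsAlt A' ∧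
      (∀ i j, (A' i j).IsHomogeneous (n + 1)) ∧ ∀ i j, eval f (A' i j) = eval f (A i j) := by
  classical
  have h : ∀ i j, eval f (A i j) ∈ Ideal.span (Set.range f) ^ (n + 1) := fun i j => by
    conv => arg 2; rw [(A i j).as_sum, map_sum]
    refine Ideal.sum_mem _ fun d hd => ?_
    rw [eval_monomial, pow_succ']
    refine Ideal.mul_mem_mul (hmem i j d) ?_
    have h1 : Finsupp.weight 1 d = n := hhom i j (mem_support_iff.mp hd)
    have : eval f (monomial d 1) ∈ Ideal.span (Set.range f) ^ n :=
      (Ideal.mem_span_pow_iff_exists_isHomogeneous f _).mpr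
        ⟨monomial d 1, isHomogeneous_monomial _ (by rw [Finsupp.degree_eq_weight_one]; exact h1), rfl⟩
    simpa [eval_monomial] using this
  choose L hL hLe using fun i j => (Ideal.mem_span_pow_iff_exists_isHomogeneous f _).mp (h i j)
  refine ⟨fun i j => if i < j then L i j else if j < i then -L j i else 0, ⟨fun i => ?_, fun i j => ?_⟩,
    fun i j => ?_, fun i j => ?_⟩
  · simp
  · rcases lt_trichotomy i j with h' | h' | h'
    · simp [h', h'.not_gt]
    · subst h'; simp
    · simp [h', h'.not_gt]
  · beta_reduce
    split_ifs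
    · exact hL i j
    · exact (hL j i).neg
    · exact isHomogeneous_zero _ _ _
  · rcases lt_trichotomy i j with h' | h' | h'
    · simp [h', hLe]
    · subst h'; simp [hA.1]
    · simp [h', h'.not_gt, hLe, hA.2 j i]

/-- Linear type: homogeneous polynomials vanishing at an H1-regular sequence are Koszul relations. -/
theorem mem_kosz (hf : CAlgX.IsH1Regular f) : ∀ (n : ℕ) (P : MvPolynomial (Fin c) R),
    P.IsHomogeneous n → eval f P = 0 → P ∈ kosz f := by
  classical
  intro n
  induction n using Nat.strong_induction_on with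
  | _ n IH =>
  intro P hP h0
  let J := Ideal.span (Set.range f)
  have qr : ∀ r < n, ∀ S : MvPolynomial (Fin c) R, S.IsHomogeneous r → eval f S ∈ J ^ (r + 1) →
      ∀ d, coeff d S ∈ J := by
    intro r hr S hS hSJ d
    obtain ⟨S', hS', hev, hc'⟩ := exists_coeff_mem_of_mem_pow f hSJ
    have h1 := coeff_mem_of_mem_kosz f
      (IH r hr (S - S') (hS.sub hS') (by rw [map_sub, hev, sub_self])) d
    rw [coeff_sub] at h1
    simpa using J.add_mem h1 (hc' d)
  rcases n with _ | m
  · have hP0 : P = MvPolynomial.C (coeff 0 P) := by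
      ext d
      by_cases hd : d = 0
      · subst hd; simp
      · rw [coeff_C, if_neg (Ne.symm hd), hP.coeff_eq_zero]
        simpa [Finsupp.degree_eq_zero_iff] using hd
    rw [hP0, eval_C] at h0
    rw [hP0, h0, map_zero]
    exact Ideal.zero_mem _
  obtain ⟨Q, hQ, hPQ⟩ := exists_decomp P hP
  have hrel : ∑ i, eval f (Q i) * f i = 0 := by
    rw [hPQ] at h0
    simpa [map_sum, mul_comm] using h0
  obtain ⟨a, ha, haQ⟩ := exists_alt f hf hrel
  rcases m with _ | m
  · -- linear relations
    have hQC : ∀ i, Q i = MvPolynomial.C (eval f (Q i)) := fun i => by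
      have h1 : Q i = MvPolynomial.C (coeff 0 (Q i)) := by
        ext d
        by_cases hd : d = 0
        · subst hd; simp
        · rw [coeff_C, if_neg (Ne.symm hd), (hQ i).coeff_eq_zero]
          simpa [Finsupp.degree_eq_zero_iff] using hd
      conv_rhs => rw [h1, eval_C]
      exact h1
    have halt : IsAlt fun i j => (MvPolynomial.C (a i j) : MvPolynomial (Fin c) R) :=
      ⟨fun i => by simp [ha.1], fun i j => by simp [ha.2 i j]⟩
    have e : ∀ i, Q i = ∑ j, MvPolynomial.C (a i j) * MvPolynomial.C (f j) := fun i => by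
      rw [hQC i, haQ i, map_sum]
      simp only [map_mul]
    rw [hPQ, Finset.sum_congr rfl fun i _ => by rw [e i]]
    exact mem_kosz_of_alt f halt
  · -- raise the coefficients into higher powers
    have step : ∀ k ≤ m, ∃ A : Fin c → Fin c → MvPolynomial (Fin c) R, IsAlt A ∧
        (∀ i j, (A i j).IsHomogeneous k) ∧ ∀ i, eval f (Q i) = ∑ j, eval f (A i j) * f j := by
      intro k
      induction k with
      | zero =>
        exact fun _ => ⟨fun i j => MvPolynomial.C (a i j),
          ⟨fun i => by simp [ha.1], fun i j => by simp [ha.2 i j]⟩,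
          fun i j => isHomogeneous_C _ _, fun i => by simp [haQ i]⟩
      | succ k ih =>
        intro hk
        obtain ⟨A, hA, hAh, hAQ⟩ := ih (by omega)
        have hcoef : ∀ i d, coeff d (∑ j, A i j * X j) ∈ J := by
          intro i
          refine qr (k + 1) (by omega) _ (IsHomogeneous.sum _ _ _ fun j _ =>
            (hAh i j).mul (isHomogeneous_X _ j)) ?_
          have : eval f (Q i) ∈ J ^ (m + 1) :=
            (Ideal.mem_span_pow_iff_exists_isHomogeneous f _).mpr ⟨Q i, hQ i, rfl⟩
          rw [map_sum, Finset.sum_congr rfl fun j _ => by rw [map_mul, eval_X], ← hAQ i]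
          exact Ideal.pow_le_pow_right (by omega) this
        let π := MvPolynomial.map (σ := Fin c) (Ideal.Quotient.mk J)
        have hcyc : ∀ i, ∑ j, π (A i j) * X j = 0 := fun i => by
          have : π (∑ j, A i j * X j) = 0 := by
            ext d
            rw [coeff_map, Ideal.Quotient.eq_zero_iff_mem.mpr (hcoef i d), coeff_zero]
          simpa [π, map_sum] using this
        have hA₁ : ∃ A₁ : Fin c → Fin c → MvPolynomial (Fin c) R, IsAlt A₁ ∧
            (∀ i j, (A₁ i j).IsHomogeneous k) ∧ (∀ i j d, coeff d (A₁ i j) ∈ J) ∧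
            ∀ i, ∑ j, eval f (A₁ i j) * f j = ∑ j, eval f (A i j) * f j := by
          rcases k with _ | k
          · refine ⟨A, hA, hAh, fun i j d => ?_, fun i => rfl⟩
            by_cases hd : d = 0
            · subst hd
              have := hcoef i (Finsupp.single j 1)
              rw [coeff_sum, Finset.sum_eq_single j] at this
              · rw [coeff_mul_X'] at this
                simpa using this
              · intro b _ hb
                rw [coeff_mul_X']
                simp [hb]
              · simp
            · rw [(hAh i j).coeff_eq_zero (by simpa [Finsupp.degree_eq_zero_iff] using hd)]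
              exact J.zero_mem
          · obtain ⟨Qb, hQb, hQbA⟩ := exists_eq_sum_tri (R := R ⧸ J) Finset.univ k
              (fun i j => π (A i j)) (fun i j => (hAh i j).map _)
              ⟨fun i => by simp [hA.1], fun i j => by simp [hA.2 i j]⟩ hcyc
              (fun i j h => by simp at h)
            choose Q₀ hQ₀ using fun a b l =>
              MvPolynomial.map_surjective (σ := Fin c) _ Ideal.Quotient.mk_surjective (Qb a b l)
            let T : Fin c → Fin c → Fin c → MvPolynomial (Fin c) R := fun a b l =>
              homogeneousComponent k (Q₀ a b l)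
            have hT : ∀ a b l, π (T a b l) = Qb a b l := fun a b l => by
              ext d
              simp only [π, T, coeff_map, coeff_homogeneousComponent]
              split_ifs with hd
              · rw [← coeff_map, hQ₀]
              · rw [map_zero, (hQb a b l).coeff_eq_zero hd]
            let A₁ : Fin c → Fin c → MvPolynomial (Fin c) R := fun i j =>
              A i j - ∑ a, ∑ b, ∑ l, T a b l * tri X a b l i j
            refine ⟨A₁, ⟨fun i => ?_, fun i j => ?_⟩, fun i j => ?_, fun i j d => ?_, fun i => ?_⟩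
            · simp [A₁, hA.1, tri_self]
            · simp only [A₁, hA.2 i j, tri_swap X _ _ _ i j, mul_neg, Finset.sum_neg_distrib]
              ring
            · refine (hAh i j).sub (IsHomogeneous.sum _ _ _ fun a _ => IsHomogeneous.sum _ _ _
                fun b _ => IsHomogeneous.sum _ _ _ fun l _ => ?_)
              refine (homogeneousComponent_isHomogeneous k _).mul ?_
              simp only [tri, w]
              have h1 : ∀ (l : Fin c) (P Q : Prop) [Decidable P] [Decidable Q],
                  (X l * ((if P then 1 else 0) - (if Q then 1 else 0)) :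
                    MvPolynomial (Fin c) R).IsHomogeneous 1 := fun l P Q _ _ => by
                split_ifs <;> simp [isHomogeneous_X, isHomogeneous_zero, IsHomogeneous.neg]
              exact ((h1 _ _ _).add (h1 _ _ _)).add (h1 _ _ _)
            · have : π (A₁ i j) = 0 := by
                have e : ∀ a b l, π (tri X a b l i j) = tri X a b l i j := fun a b l => by
                  simp [π, tri, map_w]
                simp only [A₁, map_sub, map_sum, map_mul, hT, e]
                rw [hQbA i j, sub_self]
              rw [← Ideal.Quotient.eq_zero_iff_mem, ← coeff_map]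
              exact (congrArg (coeff d) this).trans (coeff_zero d)
            · have e : ∀ a b l j, eval f (tri X a b l i j) = tri f a b l i j := fun a b l j => by
                simp [tri, map_w]
              simp only [A₁, map_sub, map_sum, map_mul, e, sub_mul, Finset.sum_sub_distrib,
                Finset.sum_mul, mul_assoc]
              rw [sub_eq_self, Finset.sum_comm]
              refine Finset.sum_eq_zero fun a _ => ?_
              rw [Finset.sum_comm]
              refine Finset.sum_eq_zero fun b _ => ?_
              rw [Finset.sum_comm]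
              refine Finset.sum_eq_zero fun l _ => ?_
              rw [← Finset.mul_sum, sum_tri_mul, mul_zero]
        obtain ⟨A₁, hA₁, hA₁h, hA₁J, hA₁e⟩ := hA₁
        obtain ⟨A₂, hA₂, hA₂h, hA₂e⟩ := exists_lift_alt f hA₁ hA₁h hA₁J
        exact ⟨A₂, hA₂, hA₂h, fun i => by rw [hAQ i, ← hA₁e i]; simp [hA₂e]⟩
    obtain ⟨A, hA, hAh, hAQ⟩ := step m le_rfl
    let G : Fin c → MvPolynomial (Fin c) R := fun i => Q i - ∑ j, A i j * X j
    have hG : ∀ i, G i ∈ kosz f := fun i =>
      IH (m + 1) (by omega) (G i) ((hQ i).sub (IsHomogeneous.sum _ _ _ fun j _ =>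
        (hAh i j).mul (isHomogeneous_X _ j))) (by simp [G, hAQ i])
    have : P = ∑ i, X i * G i := by
      simp only [G, mul_sub, Finset.sum_sub_distrib, hA.sum_mul_mul, sub_zero, ← hPQ]
    rw [this]
    exact Ideal.sum_mem _ fun i _ => Ideal.mul_mem_left _ _ (hG i)

theorem isQuasiRegular (hf : CAlgX.IsH1Regular f) : CAlgX.IsQuasiRegular f := by
  intro n P hP hPJ d
  obtain ⟨P', hP', hev, hc'⟩ := exists_coeff_mem_of_mem_pow f hPJ
  have h1 := coeff_mem_of_mem_kosz f
    (mem_kosz f hf n (P - P') (hP.sub hP') (by rw [map_sub, hev, sub_self])) d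
  rw [coeff_sub] at h1
  simpa using Ideal.add_mem _ h1 (hc' d)

end Groth.Agent.CAlgOdd.H1Regular
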