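import Groth.Agent.LC.DepthLoc
import Groth.Agent.LC.GorLoc
import Groth.Agent.Hensel.DepthFlat
import Groth.Prelude.Def_Found

/-!
# Catenarity from Cohen–Macaulay modules with full support
-/

set_option linter.style.haveILetI false

universe u

open Order

namespace Groth.Agent.CAlgOdd.CMCatenary

open Groth.Agent.LC

/-- For a Cohen–Macaulay module `M` and `p` in its support, `dim M_p + coht p = dim M`. -/
theorem supportDim_localized_add_coheight {R : Type u} [CommRing R] [IsNoetherianRing R] [IsLocalRing R]
    (M : Type u) [AddCommGroup M] [Module R M] [Module.Finite R M]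
    (hM : LocCoh.IsCohenMacaulayModule R M) {p : PrimeSpectrum R} (hp : p ∈ Module.support R M) :
    Module.supportDim (Localization.AtPrime p.asIdeal) (LocalizedModule p.asIdeal.primeCompl M) +
      (Order.coheight p : WithBot ℕ∞) = Module.supportDim R M := by
  let A := Localization.AtPrime p.asIdeal
  let Mp := LocalizedModule p.asIdeal.primeCompl M
  haveI : Module.Finite A Mp :=
    Module.Finite.of_isLocalizedModule p.asIdeal.primeCompl (LocalizedModule.mkLinearMap _ M)
  haveI : Nontrivial Mp := Module.mem_support_iff.1 hp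
  haveI := nontrivial_of_isCM M hM
  refine le_antisymm (height_supp_add_coheight_le M hp) ?_
  rw [supportDim_eq_add_idealDepth M hM p.isPrime.ne_top, add_comm]
  refine add_le_add ?_ ?_
  · exact (WithBot.coe_le_coe.2 (idealDepth_le_depth_localized p.asIdeal M p.asIdeal le_rfl)).trans
      (depth_le_supportDim (R := A) Mp)
  · rw [Order.coheight_eq_krullDim_Ici]
    have hsub : Module.support R (M ⧸ (p.asIdeal • (⊤ : Submodule R M))) ⊆ Set.Ici p := by
      rw [Module.support_quotient]; exact fun q hq => hq.2
    exact Order.krullDim_le_of_strictMono (fun x => ⟨x.1, hsub x.2⟩) fun _ _ h => h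

theorem support_localized_eq_univ {R : Type u} [CommRing R] (M : Type u) [AddCommGroup M] [Module R M]
    [Module.Finite R M] (q : Ideal R) [q.IsPrime] (hs : Module.support R M = Set.univ) :
    Module.support (Localization.AtPrime q) (LocalizedModule q.primeCompl M) = Set.univ := by
  refine Set.eq_univ_of_forall fun P => ?_
  have h1 : Module.annihilator R M ≤ P.asIdeal.comap (algebraMap R (Localization.AtPrime q)) := by
    have := hs.ge (Set.mem_univ (PrimeSpectrum.comap (algebraMap R (Localization.AtPrime q)) P))
    rw [Module.support_eq_zeroLocus] at this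
    exact this
  haveI : Module.Finite (Localization.AtPrime q) (LocalizedModule q.primeCompl M) :=
    Module.Finite.of_isLocalizedModule q.primeCompl (LocalizedModule.mkLinearMap _ M)
  rw [Module.support_eq_zeroLocus]
  intro x hx
  rw [SetLike.mem_coe, Module.mem_annihilator] at hx
  obtain ⟨a, s, rfl⟩ := IsLocalization.exists_mk'_eq q.primeCompl x
  obtain ⟨G, hG⟩ := (Module.Finite.fg_top (R := R) (M := M))
  have hz : ∀ z : M, ∃ t : q.primeCompl, ((t : R) * a) • z = 0 := by
    intro z
    have h0 : a • LocalizedModule.mkLinearMap q.primeCompl M z = 0 := by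
      rw [← algebraMap_smul (Localization.AtPrime q) a, ← IsLocalization.mk'_spec (Localization.AtPrime q) a s,
        mul_comm, mul_smul, hx, smul_zero]
    rw [← map_smul] at h0
    obtain ⟨t, ht⟩ := (IsLocalizedModule.eq_zero_iff q.primeCompl _).1 h0
    exact ⟨t, by rw [mul_smul]; exact ht⟩
  choose t ht using hz
  have hann : (↑(∏ z ∈ G, t z) : R) * a ∈ Module.annihilator R M := by
    rw [← Submodule.annihilator_top, ← hG, Submodule.mem_annihilator_span]
    intro z
    obtain ⟨c, hc⟩ := Finset.dvd_prod_of_mem (fun w => (t w : R)) z.2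
    rw [Submonoid.coe_finsetProd, hc, mul_comm _ c, mul_assoc, mul_smul, ht, smul_zero]
  have h2 := h1 hann
  rw [Ideal.mem_comap, map_mul] at h2
  rcases P.isPrime.mem_or_mem h2 with h' | h'
  · exact absurd (Ideal.eq_top_of_isUnit_mem _ h' (IsLocalization.map_units (Localization.AtPrime q) (∏ z ∈ G, t z)))
      P.isPrime.ne_top
  · rw [IsLocalization.mk'_eq_mul_mk'_one]
    exact Ideal.mul_mem_right _ _ h'

theorem height_add_coheight {R : Type u} [CommRing R] [IsNoetherianRing R] [IsLocalRing R]
    (M : Type u) [AddCommGroup M] [Module R M] [Module.Finite R M]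
    (hM : LocCoh.IsCohenMacaulayModule R M) (hs : Module.support R M = Set.univ) (p : PrimeSpectrum R) :
    (p.asIdeal.height : WithBot ℕ∞) + (Order.coheight p : WithBot ℕ∞) = ringKrullDim R := by
  let A := Localization.AtPrime p.asIdeal
  let Mp := LocalizedModule p.asIdeal.primeCompl M
  have hA : Module.support A Mp = Set.univ := support_localized_eq_univ M p.asIdeal hs
  have h := supportDim_localized_add_coheight M hM (p := p) (hs.ge (Set.mem_univ p))
  have e1 : Module.supportDim A Mp = (p.asIdeal.height : WithBot ℕ∞) := by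
    rw [Module.supportDim, hA, ← IsLocalization.AtPrime.ringKrullDim_eq_height p.asIdeal A, ringKrullDim]
    exact Order.krullDim_eq_of_orderIso (OrderIso.Set.univ)
  rw [e1] at h
  rw [h, Module.supportDim, hs, ringKrullDim]
  exact Order.krullDim_eq_of_orderIso (OrderIso.Set.univ)

/-- Heights jump by one along coverings. -/
theorem height_covBy {R : Type u} [CommRing R] [IsNoetherianRing R]
    (M : Type u) [AddCommGroup M] [Module R M] [Module.Finite R M]
    {p q : PrimeSpectrum R}
    (hM : LocCoh.IsCohenMacaulayModule (Localization.AtPrime q.asIdeal) (LocalizedModule q.asIdeal.primeCompl M))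
    (hs : Module.support R M = Set.univ) (h : p ⋖ q) :
    q.asIdeal.height = p.asIdeal.height + 1 := by
  let A := Localization.AtPrime q.asIdeal
  let Mq := LocalizedModule q.asIdeal.primeCompl M
  haveI : IsNoetherianRing A := IsLocalization.isNoetherianRing q.asIdeal.primeCompl A inferInstance
  haveI : Module.Finite A Mq :=
    Module.Finite.of_isLocalizedModule q.asIdeal.primeCompl (LocalizedModule.mkLinearMap _ M)
  have hA : Module.support A Mq = Set.univ := support_localized_eq_univ M q.asIdeal hs
  obtain ⟨p', hp'⟩ : p ∈ Set.range (PrimeSpectrum.comap (algebraMap R A)) := by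
    rw [PrimeSpectrum.localization_comap_range A q.asIdeal.primeCompl]
    exact Set.disjoint_left.2 fun x hx hx' => hx (h.le hx')
  have hmax : PrimeSpectrum.comap (algebraMap R A) (IsLocalRing.closedPoint A) = q :=
    PrimeSpectrum.ext Localization.AtPrime.under_maximalIdeal
  have emb : ∀ x y : PrimeSpectrum A,
      PrimeSpectrum.comap (algebraMap R A) x ≤ PrimeSpectrum.comap (algebraMap R A) y ↔ x ≤ y := fun x y => by
    rw [PrimeSpectrum.le_iff_specializes, PrimeSpectrum.le_iff_specializes]
    exact (PrimeSpectrum.localization_comap_isEmbedding A q.asIdeal.primeCompl).specializes_iff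
  have hcov : p' ⋖ IsLocalRing.closedPoint A := by
    have e : ∀ x y : PrimeSpectrum A,
        PrimeSpectrum.comap (algebraMap R A) x < PrimeSpectrum.comap (algebraMap R A) y ↔ x < y := fun x y => by
      rw [lt_iff_le_not_ge, lt_iff_le_not_ge, emb, emb]
    refine ⟨(e _ _).1 (hp'.trans_lt (h.lt.trans_eq hmax.symm)), fun c h1 h2 => ?_⟩
    exact h.2 (hp'.symm.trans_lt ((e _ _).2 h1)) (((e _ _).2 h2).trans_eq hmax)
  have hco : Order.coheight p' = 1 := by
    refine le_antisymm (Order.coheight_le fun l hl => ?_) (Order.length_le_coheight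
      (x := p') (p := (RelSeries.singleton _ p').snoc (IsLocalRing.closedPoint A) hcov.lt) (by simp))
    by_contra hlt
    have h2 : 2 ≤ l.length := by
      have : ¬ l.length ≤ 1 := fun h' => hlt (by exact_mod_cast h')
      omega
    have h01 : l ⟨0, by omega⟩ < l ⟨1, by omega⟩ := l.strictMono (show (0 : ℕ) < 1 from Nat.zero_lt_one)
    have h12 : l ⟨1, by omega⟩ < l ⟨2, by omega⟩ := l.strictMono (show (1 : ℕ) < 2 from one_lt_two)
    exact hcov.2 (lt_of_eq_of_lt hl.symm h01)
      (h12.trans_le (IsLocalRing.le_maximalIdeal (l ⟨2, by omega⟩).isPrime.ne_top))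
  have key := height_add_coheight Mq hM hA p'
  rw [hco, IsLocalization.AtPrime.ringKrullDim_eq_height q.asIdeal A] at key
  have hpc : Ideal.comap (algebraMap R A) p'.asIdeal = p.asIdeal := congrArg PrimeSpectrum.asIdeal hp'
  have hht : p'.asIdeal.height = p.asIdeal.height := by
    rw [← hpc]
    exact (IsLocalization.height_under q.asIdeal.primeCompl p'.asIdeal).symm
  rw [hht] at key
  exact_mod_cast key.symm

/-- Length of a saturated chain is the difference of heights, if heights jump by one. -/
theorem length_eq {R : Type u} [CommRing R] [IsNoetherianRing R]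
    (hcov : ∀ p q : PrimeSpectrum R, p ⋖ q → q.asIdeal.height = p.asIdeal.height + 1)
    (s : LTSeries (PrimeSpectrum R)) (hs : ∀ i : Fin s.length, s (Fin.castSucc i) ⋖ s (Fin.succ i)) :
    s.last.asIdeal.height = s.head.asIdeal.height + s.length := by
  have : ∀ i : Fin (s.length + 1), (s i).asIdeal.height = s.head.asIdeal.height + (i : ℕ) := by
    intro i
    induction i using Fin.induction with
    | zero => simp [RelSeries.head]
    | succ i ih =>
      rw [hcov _ _ (hs i), ih]
      simp [add_assoc]
  simpa [RelSeries.last] using this (Fin.last _)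

/-- If heights jump by one along coverings the ring is catenary. -/
theorem isCatenary_of_covBy {R : Type u} [CommRing R] [IsNoetherianRing R]
    (hcov : ∀ p q : PrimeSpectrum R, p ⋖ q → q.asIdeal.height = p.asIdeal.height + 1) :
    CAlg.IsCatenary R := by
  refine ⟨fun p q _ => ?_, fun s t h1 h2 hs ht => ?_⟩
  · obtain ⟨n, hn⟩ := ENat.ne_top_iff_exists.1 (Ideal.height_ne_top q.isPrime.ne_top)
    refine ⟨n, fun s _ hq => ?_⟩
    have := Order.length_le_height (x := q) (p := s) hq.le
    rw [← PrimeSpectrum.height_eq_orderHeight, ← hn] at this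
    exact_mod_cast this
  · have e1 := length_eq hcov s hs
    have e2 := length_eq hcov t ht
    rw [h1, h2, e2] at e1
    obtain ⟨n, hn⟩ := ENat.ne_top_iff_exists.1 (Ideal.height_ne_top t.head.isPrime.ne_top)
    rw [← hn] at e1
    have e1' : n + t.length = n + s.length := by exact_mod_cast e1
    omega

/-- Cohen–Macaulay rings are catenary. -/
theorem isCatenary_of_isCM (R : Type u) [CommRing R] [LocCoh.IsCohenMacaulayRing R] : CAlg.IsCatenary R := by
  refine isCatenary_of_covBy fun p q h => height_covBy R ?_ ?_ h
  · let A := Localization.AtPrime q.asIdeal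
    haveI : LocCoh.IsCohenMacaulayLocalRing A := LocCoh.IsCohenMacaulayRing.isCohenMacaulayLocalRing_localization q.asIdeal
    have hA : LocCoh.IsCohenMacaulayModule A A := LocCoh.IsCohenMacaulayLocalRing.supportDim_eq_depth
    show Module.supportDim A _ = _
    rw [Module.supportDim_eq_of_equiv (selfLoc q.asIdeal.primeCompl),
      Groth.Agent.Hensel.depth_congr (selfLoc q.asIdeal.primeCompl)]
    exact hA
  · rw [Module.support_eq_zeroLocus, (Module.annihilator_eq_bot (R := R) (M := R)).2 inferInstance]
    simp

end Groth.Agent.CAlgOdd.CMCatenary
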