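import Groth.Prelude.Def_Found
import Groth.Agent.N12Aux.Basic
import Mathlib

/-!
# The locus where a lattice is saturated; normal locus and N-1
-/

namespace Groth.Agent.CAlgOdd.NormalLocus

universe u

variable {R : Type u} [CommRing R] {K : Type u} [AddCommGroup K] [Module R K]

/-- The primes at which `T` is contained in the localization of `S`. -/
def sat (S T : Submodule R K) : Set (PrimeSpectrum R) :=
  {p | ∀ x ∈ T, ∃ t, t ∉ p.asIdeal ∧ t • x ∈ S}

theorem sat_mono {S S' T : Submodule R K} (h : S ≤ S') : sat S T ⊆ sat S' T := fun _ hp x hx => by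
  obtain ⟨t, ht, hts⟩ := hp x hx
  exact ⟨t, ht, h hts⟩

theorem isOpen_sat [IsNoetherianRing R] (S T : Submodule R K) (hS : S.FG) (f : R)
    (hf : Function.Injective fun x : K => f • x)
    (hT : ∀ x ∈ T, ∃ n : ℕ, f ^ n • x ∈ S) : IsOpen (sat S T) := by
  haveI : Module.Finite R S := Module.Finite.iff_fg.2 hS
  let Q := S ⧸ (Ideal.span {f} • ⊤ : Submodule R S)
  let B : Set (PrimeSpectrum R) := {P | P.asIdeal ∈ associatedPrimes R Q ∧ P ∉ sat S T}
  have hB : B.Finite :=
    ((associatedPrimes.finite R Q).preimage (fun a _ b _ h => PrimeSpectrum.ext h)).subset fun P hP => hP.1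
  have heq : sat S T = (⋃ P ∈ B, PrimeSpectrum.zeroLocus (P.asIdeal : Set R))ᶜ := by
    ext q
    simp only [Set.mem_compl_iff, Set.mem_iUnion, not_exists, PrimeSpectrum.mem_zeroLocus,
      SetLike.coe_subset_coe]
    constructor
    · intro hq P hP hle
      exact hP.2 fun x hx => (hq x hx).imp fun t ht => ⟨fun h => ht.1 (hle h), ht.2⟩
    · intro hq
      by_contra hnot
      obtain ⟨x, hxT, hx⟩ : ∃ x ∈ T, ∀ t, t ∉ q.asIdeal → t • x ∉ S := by
        simpa [sat] using hnot
      let D : K → Ideal R := fun y => S.comap (LinearMap.toSpanSingleton R K y)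
      have hD : ∀ y c, c ∈ D y ↔ c • y ∈ S := fun y c => Iff.rfl
      let F : Set (Ideal R) := {J | ∃ a : R, J = D (a • x) ∧ J ≤ q.asIdeal}
      have hF : (D x) ∈ F := ⟨1, by rw [one_smul], fun t ht => by
        by_contra h
        exact hx t h ht⟩
      obtain ⟨J, ⟨a, rfl, hJq⟩, hmax⟩ := (wellFounded_gt (α := Ideal R)).has_min F ⟨_, hF⟩
      have hprime : (D (a • x)).IsPrime := by
        refine ⟨fun h => q.isPrime.ne_top (top_le_iff.1 (h ▸ hJq)), fun {b c} hbc => ?_⟩
        have hsub : ∀ b : R, D (a • x) ≤ D ((b * a) • x) := fun b d hd => by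
          rw [hD, mul_smul, smul_comm]; exact S.smul_mem b hd
        have hc : c ∈ D ((b * a) • x) := by
          rw [hD, mul_smul, smul_smul, mul_comm c b]; exact hbc
        by_cases hb : D ((b * a) • x) ≤ q.asIdeal
        · right
          have he : D ((b * a) • x) = D (a • x) :=
            ((hsub b).eq_of_not_lt fun hlt => hmax _ ⟨_, rfl, hb⟩ hlt).symm
          exact he ▸ hc
        · left
          obtain ⟨t, ht, htq⟩ := SetLike.not_le_iff_exists.1 hb
          have htb : b ∈ D ((t * a) • x) := by
            rw [hD, mul_smul, smul_comm, ← mul_smul b a]; exact ht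
          have hle : D ((t * a) • x) ≤ q.asIdeal := fun s hs => by
            have h2 : s * t ∈ q.asIdeal := hJq (show (s * t) • a • x ∈ S by
              rw [mul_smul, ← mul_smul t a]; exact hs)
            exact (q.isPrime.mem_or_mem h2).resolve_right htq
          have he : D ((t * a) • x) = D (a • x) :=
            ((hsub t).eq_of_not_lt fun hlt => hmax _ ⟨_, rfl, hle⟩ hlt).symm
          exact he ▸ htb
      let y := a • x
      obtain ⟨n, hn⟩ := hT x hxT
      have hfy : f ∈ D y := hprime.mem_of_pow_mem n (by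
        rw [hD, smul_comm]; exact S.smul_mem a hn)
      let b : S := ⟨f • y, hfy⟩
      have hass : D y ∈ associatedPrimes R Q := by
        refine AssociatedPrimes.mem_iff.2 (isAssociatedPrime_iff.2 ⟨hprime, Submodule.Quotient.mk b, ?_⟩)
        ext c
        rw [Submodule.mem_colon_singleton, Submodule.mem_bot, ← Submodule.Quotient.mk_smul,
          Submodule.Quotient.mk_eq_zero, Submodule.ideal_span_singleton_smul, Submodule.mem_smul_pointwise_iff_exists, hD]
        constructor
        · intro hc
          exact ⟨⟨c • y, hc⟩, Submodule.mem_top, Subtype.ext (smul_comm f c y)⟩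
        · rintro ⟨z, -, hz⟩
          have h2 : f • (z : K) = c • f • y := congrArg Subtype.val hz
          rw [smul_comm c f y] at h2
          rw [← hf h2]; exact z.2
      refine hq ⟨D y, hprime⟩ ⟨hass, fun hP => ?_⟩ hJq
      obtain ⟨t, ht, hts⟩ := hP y (T.smul_mem a hxT)
      exact ht hts
  rw [heq, isOpen_compl_iff]
  exact hB.isClosed_biUnion fun P _ => PrimeSpectrum.isClosed_zeroLocus _

section Domain

variable {A : Type u} [CommRing A] [IsDomain A]

/-- The integral closure, as a submodule. -/
noncomputable abbrev closure (A : Type u) [CommRing A] : Submodule A (FractionRing A) :=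
  (integralClosure A (FractionRing A)).toSubmodule

theorem isIntegrallyClosed_localization_iff (M : Submonoid A) (hM : M ≤ nonZeroDivisors A) (S : Type u)
    [CommRing S] [Algebra A S] [IsLocalization M S] :
    IsIntegrallyClosed S ↔ ∀ x ∈ closure A, ∃ t : M, (t : A) • x ∈ (1 : Submodule A (FractionRing A)) := by
  obtain ⟨_, hT, hF⟩ := N12Aux.isFractionRing_trans A M hM S (FractionRing A)
  rw [isIntegrallyClosed_iff (FractionRing A)]
  constructor
  · intro h x hx
    obtain ⟨y, rfl⟩ := h (IsIntegral.tower_top (A := S) hx)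
    obtain ⟨⟨a, t⟩, ha⟩ := IsLocalization.surj M y
    refine ⟨t, Submodule.mem_one.2 ⟨a, ?_⟩⟩
    rw [Algebra.smul_def, IsScalarTower.algebraMap_apply A S, IsScalarTower.algebraMap_apply A S (FractionRing A) (t : A), ← map_mul, ← ha, mul_comm]
  · intro h x hx
    obtain ⟨s, hs⟩ := IsIntegral.exists_multiple_integral_of_isLocalization M x hx
    obtain ⟨t, ht⟩ := h _ hs
    obtain ⟨a, ha⟩ := Submodule.mem_one.1 ht
    refine ⟨IsLocalization.mk' S a (t * s), ?_⟩
    have hu : algebraMap A (FractionRing A) ((t * s : M) : A) ≠ 0 :=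
      (map_ne_zero_iff _ (IsFractionRing.injective A (FractionRing A))).2 (nonZeroDivisors.ne_zero (hM (t * s).2))
    refine mul_left_cancel₀ hu ?_
    rw [IsScalarTower.algebraMap_apply A S (FractionRing A) _, ← map_mul, IsLocalization.mk'_spec',
      ← IsScalarTower.algebraMap_apply, ha, Submonoid.smul_def, Algebra.smul_def, Algebra.smul_def,
      ← mul_assoc, ← map_mul, Submonoid.coe_mul, ← IsScalarTower.algebraMap_apply]

theorem pow_torsion {f : A} (hf : f ≠ 0) (hn : IsIntegrallyClosed (Localization.Away f))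
    {S : Submodule A (FractionRing A)} (hS : 1 ≤ S) : ∀ x ∈ closure A, ∃ n : ℕ, f ^ n • x ∈ S := fun x hx => by
  obtain ⟨⟨_, n, rfl⟩, ht⟩ := (isIntegrallyClosed_localization_iff (Submonoid.powers f)
    (powers_le_nonZeroDivisors_of_noZeroDivisors hf) (Localization.Away f)).1 hn x hx
  exact ⟨n, hS ht⟩

theorem smul_injective {f : A} (hf : f ≠ 0) : Function.Injective fun x : FractionRing A => f • x := by
  intro x y h
  simp only [Algebra.smul_def] at h
  exact mul_left_cancel₀ ((map_ne_zero_iff _ (IsFractionRing.injective A (FractionRing A))).2 hf) h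

theorem isOpen_normal [IsNoetherianRing A] {f : A} (hf : f ≠ 0)
    (hn : IsIntegrallyClosed (Localization.Away f)) :
    IsOpen {p : PrimeSpectrum A | IsIntegrallyClosed (Localization.AtPrime p.asIdeal)} := by
  convert isOpen_sat (1 : Submodule A (FractionRing A)) (closure A)
    (Submodule.one_eq_span (R := A) (A := FractionRing A) ▸ Submodule.fg_span_singleton 1) f (smul_injective hf)
    (pow_torsion hf hn le_rfl) using 1
  ext p
  rw [Set.mem_ofPred_eq, isIntegrallyClosed_localization_iff p.asIdeal.primeCompl p.asIdeal.primeCompl_le_nonZeroDivisors]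
  exact forall₂_congr fun x _ => ⟨fun ⟨t, ht⟩ => ⟨t, t.2, ht⟩, fun ⟨t, ht, h⟩ => ⟨⟨t, ht⟩, h⟩⟩

theorem exists_normal_away [IsNoetherianRing A] (h : CAlg.IsN1 A) :
    ∃ f : A, f ≠ 0 ∧ IsIntegrallyClosed (Localization.Away f) := by
  haveI : Module.Finite A (integralClosure A (FractionRing A)) := h
  obtain ⟨s, hs⟩ := (Module.Finite.iff_fg (N := closure A)).1 h
  classical
  obtain ⟨⟨f, hf⟩, hb⟩ := IsLocalization.exist_integer_multiples_of_finset (nonZeroDivisors A) s
  refine ⟨f, nonZeroDivisors.ne_zero hf, (isIntegrallyClosed_localization_iff (Submonoid.powers f)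
    (powers_le_nonZeroDivisors_of_noZeroDivisors (nonZeroDivisors.ne_zero hf)) _).2 fun x hx =>
    ⟨⟨f, Submonoid.mem_powers f⟩, ?_⟩⟩
  change f • x ∈ _
  rw [← hs] at hx
  induction hx using Submodule.span_induction with
  | mem z hz =>
    obtain ⟨a, ha⟩ := hb z hz
    exact Submodule.mem_one.2 ⟨a, ha⟩
  | zero => simp
  | add y z _ _ hy hz => rw [smul_add]; exact Submodule.add_mem _ hy hz
  | smul r y _ hy => rw [smul_comm]; exact Submodule.smul_mem _ r hy

theorem isN1_of_local [IsNoetherianRing A] {f : A} (hf : f ≠ 0)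
    (hn : IsIntegrallyClosed (Localization.Away f))
    (h : ∀ (m : Ideal A) [m.IsMaximal], CAlg.IsN1 (Localization.AtPrime m)) : CAlg.IsN1 A := by
  classical
  have hpt : ∀ m : MaximalSpectrum A, ∃ S : Submodule A (FractionRing A), S.FG ∧ 1 ≤ S ∧ S ≤ closure A ∧
      (⟨m.asIdeal, m.isMaximal.isPrime⟩ : PrimeSpectrum A) ∈ sat S (closure A) := by
    intro m
    haveI := m.isMaximal
    let M := m.asIdeal.primeCompl
    obtain ⟨_, hT, hF⟩ := N12Aux.isFractionRing_trans A M m.asIdeal.primeCompl_le_nonZeroDivisors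
      (Localization.AtPrime m.asIdeal) (FractionRing A)
    haveI := N12Aux.finite_of_isN1 (h m.asIdeal) (FractionRing A)
    obtain ⟨s, hs⟩ := (Module.Finite.iff_fg
      (N := (integralClosure (Localization.AtPrime m.asIdeal) (FractionRing A)).toSubmodule)).1 inferInstance
    choose t ht using fun z : s => IsIntegral.exists_multiple_integral_of_isLocalization M (z : FractionRing A)
      (show IsIntegral _ (z : FractionRing A) from (hs ▸ Submodule.subset_span z.2 :
        (z : FractionRing A) ∈ (integralClosure (Localization.AtPrime m.asIdeal) (FractionRing A)).toSubmodule))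
    let G : Set (FractionRing A) := insert 1 (Set.range fun z : s => (t z : A) • (z : FractionRing A))
    refine ⟨Submodule.span A G, Submodule.fg_span ((Set.finite_range _).insert _), ?_, ?_, ?_⟩
    · rw [Submodule.one_eq_span]
      exact Submodule.span_mono (Set.singleton_subset_iff.2 (Set.mem_insert _ _))
    · rw [Submodule.span_le]
      rintro z (rfl | ⟨z, rfl⟩)
      · exact (integralClosure A (FractionRing A)).one_mem
      · exact ht z
    · intro x hx
      have hx' : x ∈ Submodule.span (Localization.AtPrime m.asIdeal) (s : Set (FractionRing A)) :=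
        hs.symm ▸ (IsIntegral.tower_top (A := Localization.AtPrime m.asIdeal) hx)
      suffices ∀ y ∈ Submodule.span (Localization.AtPrime m.asIdeal) (s : Set (FractionRing A)),
          ∃ u, u ∉ m.asIdeal ∧ u • y ∈ Submodule.span A G from this x hx'
      intro y hy
      induction hy using Submodule.span_induction with
      | mem z hz =>
        exact ⟨t ⟨z, hz⟩, (t ⟨z, hz⟩).2, Submodule.subset_span (Set.mem_insert_of_mem _ ⟨⟨z, hz⟩, rfl⟩)⟩
      | zero => exact ⟨1, m.isMaximal.isPrime.one_notMem, by simp⟩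
      | add y z _ _ hy hz =>
        obtain ⟨a, ha, hay⟩ := hy
        obtain ⟨b, hb, hbz⟩ := hz
        refine ⟨a * b, fun hab => (m.isMaximal.isPrime.mem_or_mem hab).elim ha hb, ?_⟩
        rw [smul_add, mul_smul, smul_comm a b y, mul_smul]
        exact Submodule.add_mem _ (Submodule.smul_mem _ b hay) (Submodule.smul_mem _ a hbz)
      | smul r y _ hy =>
        obtain ⟨a, ha, hay⟩ := hy
        obtain ⟨⟨c, u⟩, hc⟩ := IsLocalization.surj M r
        refine ⟨u * a, fun hab => (m.isMaximal.isPrime.mem_or_mem hab).elim u.2 ha, ?_⟩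
        rw [mul_smul, smul_comm a r y, ← IsScalarTower.algebraMap_smul (Localization.AtPrime m.asIdeal) (u : A), smul_smul,
          mul_comm _ r, hc, algebraMap_smul]
        exact Submodule.smul_mem _ c hay
  choose S hSfg hS1 hSle hmem using hpt
  obtain ⟨b, hb⟩ : ∃ b : Finset (MaximalSpectrum A), ∀ q : PrimeSpectrum A, ∃ m ∈ b, q ∈ sat (S m) (closure A) := by
    obtain ⟨b, hb⟩ := isCompact_univ.elim_finite_subcover (fun m => sat (S m) (closure A))
      (fun m => isOpen_sat _ _ (hSfg m) f (smul_injective hf) (pow_torsion hf hn (hS1 m))) fun q _ => by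
        obtain ⟨n, hmax, hqn⟩ := Ideal.exists_le_maximal q.asIdeal q.isPrime.ne_top
        refine Set.mem_iUnion.2 ⟨⟨n, hmax⟩, fun x hx => ?_⟩
        exact (hmem ⟨n, hmax⟩ x hx).imp fun t ht => ⟨fun h => ht.1 (hqn h), ht.2⟩
    exact ⟨b, fun q => by simpa using hb (Set.mem_univ q)⟩
  have heq : closure A = b.sup S := by
    refine le_antisymm (fun x hx => ?_) (Finset.sup_le fun m _ => hSle m)
    by_contra hnot
    obtain ⟨n, hmax, hn'⟩ := Ideal.exists_le_maximal ((b.sup S).comap (LinearMap.toSpanSingleton A _ x))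
      fun htop => hnot (by
        have h1 := htop.symm ▸ (Submodule.mem_top : (1 : A) ∈ (⊤ : Ideal A))
        rwa [Submodule.mem_comap, LinearMap.toSpanSingleton_apply, one_smul] at h1)
    obtain ⟨m, hm, hq⟩ := hb ⟨n, hmax.isPrime⟩
    obtain ⟨t, ht, hts⟩ := hq x hx
    exact ht (hn' (Finset.le_sup (f := S) hm hts))
  exact (Module.Finite.iff_fg (N := closure A)).2 (heq ▸ Submodule.fg_finset_sup b S fun m _ => hSfg m)

end Domain

end Groth.Agent.CAlgOdd.NormalLocus
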