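import Mathlib
import Groth.Agent.CAlgOdd.H1Regular

/-!
Appending H1-regular sequences.
-/

universe u

namespace Groth.Agent.CAlgOdd.H1Append

open MvPolynomial H1Regular

attribute [local instance] MvPolynomial.gradedAlgebra

variable {A : Type u} [CommRing A]

theorem mem_span_of_alt {c : ℕ} {h v : Fin c → A} {M : Fin c → Fin c → A} (hM : IsAlt M)
    (hv : ∀ i, v i = ∑ j, M i j * h j) :
    v ∈ Submodule.span A
      {v : Fin c → A | ∃ i j : Fin c, v = Pi.single i (h j) - Pi.single j (h i)} := by
  classical
  have e : v = ∑ a, ∑ b, (if a < b then M a b else 0) •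
      ((Pi.single a (h b) - Pi.single b (h a)) : Fin c → A) := by
    funext i
    rw [hv i]
    simp only [Finset.sum_apply, Pi.smul_apply, smul_eq_mul, Pi.sub_apply, Pi.single_apply]
    conv_lhs => arg 2; ext j; rw [← hM.sum_w i j, Finset.sum_mul]
    rw [Finset.sum_comm]
    refine Finset.sum_congr rfl fun a _ => ?_
    conv_lhs => arg 2; ext j; rw [Finset.sum_mul]
    rw [Finset.sum_comm]
    refine Finset.sum_congr rfl fun b _ => ?_
    simp only [mul_assoc, ← Finset.mul_sum, sum_w_mul]
  rw [e]
  exact Submodule.sum_mem _ fun a _ => Submodule.sum_mem _ fun b _ =>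
    Submodule.smul_mem _ _ (Submodule.subset_span ⟨a, b, rfl⟩)

theorem exists_alt_lift {m : ℕ} {B : Type u} [CommRing B] (π : A →+* B) (hπ : Function.Surjective π)
    {b : Fin m → Fin m → B} (hb : IsAlt b) :
    ∃ a : Fin m → Fin m → A, IsAlt a ∧ ∀ i j, π (a i j) = b i j := by
  choose L hL using fun i j => hπ (b i j)
  refine ⟨fun i j => if i < j then L i j else if j < i then -L j i else 0,
    ⟨fun i => by simp, fun i j => ?_⟩, fun i j => ?_⟩
  · rcases lt_trichotomy i j with h | h | h
    · simp [h, h.not_gt]
    · subst h; simp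
    · simp [h, h.not_gt]
  · rcases lt_trichotomy i j with h | h | h
    · simp [h, hL]
    · subst h; simp [hb.1]
    · simp [h, h.not_gt, hL, hb.2 j i]

variable {n m : ℕ} (f : Fin n → A) (g : Fin m → A)

theorem isH1Regular_append (hf : CAlgX.IsH1Regular f)
    (hg : CAlgX.IsH1Regular fun j => Ideal.Quotient.mk (Ideal.span (Set.range f)) (g j)) :
    CAlgX.IsH1Regular (Fin.append f g) := by
  classical
  intro a ha
  let π := Ideal.Quotient.mk (Ideal.span (Set.range f))
  let α : Fin n → A := fun i => a (Fin.castAdd m i)
  let β : Fin m → A := fun k => a (Fin.natAdd n k)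
  have hab : ∑ i, α i * f i + ∑ k, β k * g k = 0 := by
    rw [Fin.sum_univ_add] at ha
    simpa [α, β] using ha
  have hred : ∑ k, π (β k) * π (g k) = 0 := by
    have := congrArg π hab
    rw [map_add, map_sum, map_sum, map_zero] at this
    have h0 : ∑ i, π (α i * f i) = 0 := Finset.sum_eq_zero fun i _ =>
      Ideal.Quotient.eq_zero_iff_mem.mpr (Ideal.mul_mem_left _ _ (Ideal.subset_span ⟨i, rfl⟩))
    rw [h0, zero_add] at this
    simpa using this
  obtain ⟨bq, hbq, hbβ⟩ := exists_alt _ hg hred
  obtain ⟨b, hb, hbl⟩ := exists_alt_lift π Ideal.Quotient.mk_surjective hbq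
  have hmem : ∀ k, β k - ∑ l, b k l * g l ∈ Ideal.span (Set.range f) := fun k => by
    rw [← Ideal.Quotient.eq_zero_iff_mem, map_sub, map_sum]
    simp only [map_mul]
    rw [hbβ k]
    simp [hbl, π]
  choose s hs using fun k => (Ideal.mem_span_range_iff_exists_fun.mp (hmem k))
  have hα : ∑ i, (α i + ∑ k, s k i * g k) * f i = 0 := by
    have h1 : ∑ i, (∑ k, s k i * g k) * f i = ∑ k, (β k - ∑ l, b k l * g l) * g k := by
      simp only [← hs, Finset.sum_mul]
      rw [Finset.sum_comm]
      exact Finset.sum_congr rfl fun k _ => Finset.sum_congr rfl fun i _ => by ring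
    simp only [add_mul, Finset.sum_add_distrib, h1, sub_mul, Finset.sum_sub_distrib]
    have h2 := hb.sum_mul_mul g
    simp only [mul_comm (g _)] at h2
    rw [h2, sub_zero]
    exact hab
  obtain ⟨a', ha', haα⟩ := exists_alt f hf hα
  let M : Fin (n + m) → Fin (n + m) → A := Fin.addCases
    (fun i => Fin.addCases (fun j => a' i j) (fun k => -s k i))
    (fun k => Fin.addCases (fun i => s k i) (fun l => b k l))
  have hM : IsAlt M := by
    refine ⟨fun i => ?_, fun i j => ?_⟩
    · refine Fin.addCases (fun i => ?_) (fun k => ?_) i <;> simp [M, ha'.1, hb.1]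
    · refine Fin.addCases (fun i => ?_) (fun k => ?_) i <;>
        refine Fin.addCases (fun j => ?_) (fun l => ?_) j <;> simp [M]
      · exact ha'.2 i j
      · exact hb.2 k l
  refine mem_span_of_alt hM fun i => ?_
  refine Fin.addCases (fun i => ?_) (fun k => ?_) i
  · rw [Fin.sum_univ_add]
    simp [M, ← haα i, Finset.sum_neg_distrib, mul_comm (g _)]
    simp [α]
  · rw [Fin.sum_univ_add]
    simp [M]
    rw [hs k]
    simp [β]

/-- Iterated evaluation. -/
noncomputable def val : MvPolynomial (Fin n) (MvPolynomial (Fin m) A) →+* A :=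
  (eval f).comp (MvPolynomial.map (eval g))

/-- Separate the variables. -/
noncomputable def sep (n m : ℕ) (B : Type u) [CommRing B] :
    MvPolynomial (Fin (n + m)) B →+* MvPolynomial (Fin n) (MvPolynomial (Fin m) B) :=
  eval₂Hom (MvPolynomial.C.comp MvPolynomial.C)
    (Fin.addCases (fun i => X i) (fun k => MvPolynomial.C (X k)))

theorem val_sep (P : MvPolynomial (Fin (n + m)) A) :
    val f g (sep n m A P) = eval (Fin.append f g) P := by
  have : (val f g).comp (sep n m A) = eval (Fin.append f g) :=
    MvPolynomial.ringHom_ext (fun r => by simp [val, sep]) fun i => by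
      refine Fin.addCases (fun i => ?_) (fun k => ?_) i <;> simp [val, sep]
  exact RingHom.congr_fun this P

theorem sep_monomial (d : Fin (n + m) →₀ ℕ) (r : A) :
    sep n m A (monomial d r) =
      monomial (Finsupp.equivFunOnFinite.symm fun i => d (Fin.castAdd m i))
        (monomial (Finsupp.equivFunOnFinite.symm fun k => d (Fin.natAdd n k)) r) := by
  rw [sep, eval₂Hom_monomial, Finsupp.prod_fintype _ _ (fun i => pow_zero _), Fin.prod_univ_add,
    monomial_eq, monomial_eq, Finsupp.prod_fintype _ _ (fun i => pow_zero _),
    Finsupp.prod_fintype _ _ (fun i => pow_zero _)]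
  simp [map_mul, map_prod, map_pow]
  ring

theorem isHomogeneous_coeff_sep {N : ℕ} (P : MvPolynomial (Fin (n + m)) A) (hP : P.IsHomogeneous N)
    (α : Fin n →₀ ℕ) :
    (coeff α (sep n m A P)).IsHomogeneous (N - α.degree) ∧
      (N < α.degree → coeff α (sep n m A P) = 0) := by
  classical
  rw [P.as_sum, map_sum, coeff_sum]
  have hterm : ∀ d ∈ P.support,
      (coeff α (sep n m A (monomial d (coeff d P)))).IsHomogeneous (N - α.degree) ∧
      (N < α.degree → coeff α (sep n m A (monomial d (coeff d P))) = 0) := by
    intro d hd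
    rw [sep_monomial, coeff_monomial]
    split_ifs with h
    · have h1 : d.degree = N := by
        rw [Finsupp.degree_eq_weight_one]; exact hP (mem_support_iff.mp hd)
      rw [Finsupp.degree_eq_sum, Fin.sum_univ_add] at h1
      have h2 : α.degree = ∑ i, d (Fin.castAdd m i) := by
        rw [← h, Finsupp.degree_eq_sum]; simp
      refine ⟨isHomogeneous_monomial _ ?_, fun hN => by omega⟩
      rw [Finsupp.degree_eq_sum]
      simp
      omega
    · exact ⟨isHomogeneous_zero _ _ _, fun _ => rfl⟩
  exact ⟨IsHomogeneous.sum _ _ _ fun d hd => (hterm d hd).1,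
    fun hN => Finset.sum_eq_zero fun d hd => (hterm d hd).2 hN⟩

theorem kosz_isHomogeneous : (kosz g).IsHomogeneous (homogeneousSubmodule (Fin m) A) := by
  refine Ideal.homogeneous_span _ _ ?_
  rintro _ ⟨a, b, rfl⟩
  exact ⟨1, ((isHomogeneous_C_mul_X _ _).sub (isHomogeneous_C_mul_X _ _))⟩

theorem isQuasiRegular_append (hf : CAlgX.IsQuasiRegular f)
    (hg : CAlgX.IsH1Regular fun j => Ideal.Quotient.mk (Ideal.span (Set.range f)) (g j)) :
    CAlgX.IsQuasiRegular (Fin.append f g) := by
  classical
  intro N P₁ hP₁ hPJ d₀
  obtain ⟨P₂, hP₂, hev, hcoef⟩ := exists_coeff_mem_of_mem_pow _ hPJ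
  let Jh := Ideal.span (Set.range (Fin.append f g))
  suffices hmain : ∀ P : MvPolynomial (Fin (n + m)) A, P.IsHomogeneous N →
      eval (Fin.append f g) P = 0 → ∀ d, coeff d P ∈ Jh by
    have := hmain (P₁ - P₂) (hP₁.sub hP₂) (by rw [map_sub, hev, sub_self]) d₀
    rw [coeff_sub] at this
    simpa using Jh.add_mem this (hcoef d₀)
  intro P hP h0
  let J := Ideal.span (Set.range f)
  have hfh : ∀ i, f i ∈ Jh := fun i => Ideal.subset_span ⟨Fin.castAdd m i, by simp⟩
  have hgh : ∀ k, g k ∈ Jh := fun k => Ideal.subset_span ⟨Fin.natAdd n k, by simp⟩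
  let π := Ideal.Quotient.mk Jh
  let Z := MvPolynomial.map (σ := Fin n) (MvPolynomial.map (σ := Fin m) π)
  have hstep : ∀ e ≤ N, ∃ T : MvPolynomial (Fin n) (MvPolynomial (Fin m) A),
      (∀ α, (coeff α T).IsHomogeneous (N - α.degree)) ∧
      (∀ α, α.degree < e ∨ N < α.degree → coeff α T = 0) ∧
      val f g T = 0 ∧ Z T = Z (sep n m A P) := by
    intro e
    induction e with
    | zero =>
      exact fun _ => ⟨sep n m A P, fun α => (isHomogeneous_coeff_sep P hP α).1,
        fun α h => (isHomogeneous_coeff_sep P hP α).2 (by omega), by rw [val_sep, h0], rfl⟩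
    | succ e ih =>
      intro he
      obtain ⟨T, hT, hT0, hTv, hTZ⟩ := ih (by omega)
      let S := T.support.filter fun α => α.degree = e
      let T0 := ∑ α ∈ S, monomial α (eval g (coeff α T))
      have hT0h : T0.IsHomogeneous e := IsHomogeneous.sum _ _ _ fun α hα =>
        isHomogeneous_monomial _ (Finset.mem_filter.mp hα).2
      have hhigh : eval f T0 ∈ J ^ (e + 1) := by
        have h1 : val f g T = eval f T0 +
            ∑ α ∈ T.support.filter (fun α => ¬ α.degree = e), eval f (monomial α (eval g (coeff α T))) := by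
          conv_lhs => rw [T.as_sum]
          rw [map_sum, ← Finset.sum_filter_add_sum_filter_not T.support (fun α => α.degree = e)]
          simp [val, T0, S, map_sum]
        rw [hTv, eq_comm, add_eq_zero_iff_eq_neg] at h1
        rw [h1]
        refine neg_mem (Ideal.sum_mem _ fun α hα => ?_)
        rw [Finset.mem_filter, mem_support_iff] at hα
        have hdeg : e + 1 ≤ α.degree := by
          have : ¬(α.degree < e ∨ N < α.degree) := fun h => hα.1 (hT0 α h)
          omega
        refine Ideal.pow_le_pow_right hdeg ((Ideal.mem_span_pow_iff_exists_isHomogeneous f _).mpr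
          ⟨_, isHomogeneous_monomial _ rfl, rfl⟩)
      have hSJ : ∀ α, α.degree = e → eval g (coeff α T) ∈ J := by
        intro α hα
        have := hf e T0 hT0h hhigh α
        rw [coeff_sum, Finset.sum_eq_single α (fun b _ hb => by rw [coeff_monomial, if_neg hb])
          (fun hαS => by
            have : coeff α T = 0 := by simpa [S, hα] using hαS
            rw [this, map_zero, map_zero, coeff_zero]), coeff_monomial, if_pos rfl] at this
        exact this
      have hrep : ∀ α : Fin n →₀ ℕ, α.degree = e → ∃ (q : MvPolynomial (Fin m) A)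
          (G : Fin n → Fin m → MvPolynomial (Fin m) A), eval g q = 0 ∧
          (∀ i k, (G i k).IsHomogeneous (N - e - 1)) ∧ (∀ d, coeff d q ∈ Jh) ∧
          coeff α T = q + ∑ i, MvPolynomial.C (f i) * ∑ k, X k * G i k := by
        intro α hα
        have hk : MvPolynomial.map (Ideal.Quotient.mk J) (coeff α T) ∈
            kosz (fun j => Ideal.Quotient.mk J (g j)) := by
          refine mem_kosz _ hg (N - α.degree) _ ((hT α).map _) ?_
          rw [eval_map]
          have h3 := (eval₂_comp_left (Ideal.Quotient.mk J) (RingHom.id A) g (coeff α T)).symm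
          rw [RingHom.comp_id] at h3
          exact h3.trans (Ideal.Quotient.eq_zero_iff_mem.mpr (hSJ α hα))
        have hkosz : kosz (fun j => Ideal.Quotient.mk J (g j)) ≤
            (kosz g).map (MvPolynomial.map (Ideal.Quotient.mk J)) := by
          refine Ideal.span_le.mpr ?_
          rintro _ ⟨a, b, rfl⟩
          have hgen : MvPolynomial.C (g b) * X a - MvPolynomial.C (g a) * X b ∈ kosz g :=
            Ideal.subset_span ⟨a, b, rfl⟩
          simpa using Ideal.mem_map_of_mem (MvPolynomial.map (σ := Fin m) (Ideal.Quotient.mk J)) hgen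
        obtain ⟨q₀, hq₀, hq₀'⟩ := (Ideal.mem_map_iff_of_surjective _
          (MvPolynomial.map_surjective _ Ideal.Quotient.mk_surjective)).mp (hkosz hk)
        let q := homogeneousComponent (N - e) q₀
        have hq : q ∈ kosz g := homogeneousComponent_mem_of_mem (kosz_isHomogeneous g) hq₀ _
        have hr : coeff α T - q ∈ (Ideal.span (Set.range f)).map MvPolynomial.C := by
          rw [MvPolynomial.mem_map_C_iff]
          intro d
          rw [coeff_sub, ← Ideal.Quotient.eq_zero_iff_mem, map_sub, coeff_homogeneousComponent]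
          split_ifs with hd
          · rw [← coeff_map (Ideal.Quotient.mk J) (coeff α T) d, ← coeff_map (Ideal.Quotient.mk J) q₀ d,
              hq₀', sub_self]
          · rw [(hT α).coeff_eq_zero (hα ▸ hd), map_zero, sub_zero]
        rw [Ideal.map_span, ← Set.range_comp, Ideal.mem_span_range_iff_exists_fun] at hr
        obtain ⟨R₀, hR₀⟩ := hr
        have hR : coeff α T - q = ∑ i, MvPolynomial.C (f i) * homogeneousComponent (N - e) (R₀ i) := by
          have h2 : homogeneousComponent (N - e) (coeff α T - q) = coeff α T - q :=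
            homogeneousComponent_eq_self
              ((hα ▸ hT α).sub (homogeneousComponent_isHomogeneous _ _))
          rw [← h2, ← hR₀, map_sum]
          simp only [Function.comp_apply, mul_comm (R₀ _), homogeneousComponent_C_mul]
        choose G hG hGeq using fun i => exists_decomp (n := N - e - 1)
          (homogeneousComponent (N - e) (R₀ i))
          (by rw [show N - e - 1 + 1 = N - e by omega]; exact homogeneousComponent_isHomogeneous _ _)
        refine ⟨q, G, eval_eq_zero_of_mem_kosz g hq, hG, fun d => ?_, ?_⟩
        · refine Ideal.span_le.mpr ?_ (coeff_mem_of_mem_kosz g hq d)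
          rintro _ ⟨k, rfl⟩
          exact hgh k
        · rw [← sub_eq_iff_eq_add', hR]
          simp only [← hGeq]
      choose! q G hq0 hGh hqJ hrepr using hrep
      let ins : (Fin n →₀ ℕ) → MvPolynomial (Fin n) (MvPolynomial (Fin m) A) := fun α =>
        ∑ i, ∑ k, monomial (α + Finsupp.single i 1) (MvPolynomial.C (g k) * G α i k)
      let T' := T - ∑ α ∈ S, monomial α (coeff α T) + ∑ α ∈ S, ins α
      have hSdeg : ∀ α ∈ S, α.degree = e := fun α hα => (Finset.mem_filter.mp hα).2
      refine ⟨T', fun β => ?_, fun β hβ => ?_, ?_, ?_⟩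
      · simp only [T', ins, coeff_add, coeff_sub, coeff_sum, coeff_monomial]
        refine ((hT β).sub (IsHomogeneous.sum _ _ _ fun α _ => ?_)).add
          (IsHomogeneous.sum _ _ _ fun α hα => IsHomogeneous.sum _ _ _ fun i _ =>
            IsHomogeneous.sum _ _ _ fun k _ => ?_)
        · split_ifs with h
          · exact h ▸ hT α
          · exact isHomogeneous_zero _ _ _
        · split_ifs with h
          · have : N - β.degree = N - e - 1 := by
              rw [← h, map_add, Finsupp.degree_single, hSdeg α hα]; omega
            rw [this]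
            exact (hGh α (hSdeg α hα) i k).C_mul _
          · exact isHomogeneous_zero _ _ _
      · simp only [T', ins, coeff_add, coeff_sub, coeff_sum, coeff_monomial]
        have h3 : ∑ α ∈ S, ∑ i, ∑ k, (if α + Finsupp.single i 1 = β then
            MvPolynomial.C (g k) * G α i k else 0) = 0 :=
          Finset.sum_eq_zero fun α hα => Finset.sum_eq_zero fun i _ => Finset.sum_eq_zero fun k _ => by
            rw [if_neg]
            intro h
            have := congrArg Finsupp.degree h
            rw [map_add, Finsupp.degree_single, hSdeg α hα] at this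
            omega
        rw [h3, add_zero, Finset.sum_ite_eq']
        split_ifs with h
        · exact sub_self _
        · rw [sub_zero]
          by_contra hne
          have h4 : ¬ (β.degree < e ∨ N < β.degree) := fun h' => hne (hT0 β h')
          refine h (Finset.mem_filter.mpr ⟨mem_support_iff.mpr hne, ?_⟩)
          omega
      · simp only [T', map_add, map_sub, hTv, zero_sub, map_sum]
        rw [neg_add_eq_zero]
        refine Finset.sum_congr rfl fun α hα => ?_
        have h1 : val f g (monomial α (coeff α T)) =
            (∑ i, ∑ k, f i * (g k * eval g (G α i k))) * eval f (monomial α 1) := by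
          simp only [val, RingHom.comp_apply, map_monomial]
          rw [hrepr α (hSdeg α hα)]
          simp [map_sum, hq0 α (hSdeg α hα), eval_monomial, Finset.mul_sum, mul_comm]
        rw [h1, Finset.sum_mul]
        simp only [ins, map_sum, Finset.sum_mul]
        refine Finset.sum_congr rfl fun i _ => Finset.sum_congr rfl fun k _ => ?_
        simp only [val, RingHom.comp_apply, map_monomial, map_mul, eval_C]
        rw [← one_mul (g k * eval g (G α i k)), add_comm α, ← monomial_mul, map_mul]
        simp [eval_monomial]
        ring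
      · rw [← hTZ]
        simp only [T', map_add, map_sub, map_sum]
        have h1 : ∀ α ∈ S, Z (monomial α (coeff α T)) = 0 := fun α hα => by
          simp only [Z, map_monomial]
          rw [monomial_eq_zero]
          rw [hrepr α (hSdeg α hα), map_add, map_sum]
          rw [Finset.sum_eq_zero fun i _ => by
            rw [map_mul, map_C, Ideal.Quotient.eq_zero_iff_mem.mpr (hfh i), map_zero, zero_mul],
            add_zero]
          ext d
          rw [coeff_map, coeff_zero]
          exact Ideal.Quotient.eq_zero_iff_mem.mpr (hqJ α (hSdeg α hα) d)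
        have h2 : ∀ α ∈ S, Z (ins α) = 0 := fun α _ => by
          simp only [Z, ins, map_sum, map_monomial, map_mul, map_C]
          refine Finset.sum_eq_zero fun i _ => Finset.sum_eq_zero fun k _ => ?_
          rw [Ideal.Quotient.eq_zero_iff_mem.mpr (hgh k), map_zero, zero_mul, map_zero]
        rw [Finset.sum_eq_zero h1, Finset.sum_eq_zero h2]
        simp
  obtain ⟨T, hT, hT0, hTv, hTZ⟩ := hstep N le_rfl
  have hZ : Z T = 0 := by
    have hT1 : ∀ α, coeff α T = MvPolynomial.C (coeff 0 (coeff α T)) := by
      intro α
      by_cases hα : α.degree = N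
      · ext d
        by_cases hd : d = 0
        · subst hd; simp
        · rw [coeff_C, if_neg (Ne.symm hd), (hT α).coeff_eq_zero]
          rw [hα, Nat.sub_self]
          simpa [Finsupp.degree_eq_zero_iff] using hd
      · rw [hT0 α (by omega), coeff_zero, map_zero]
    let T1 := MvPolynomial.map (eval g) T
    have hT1h : T1.IsHomogeneous N := by
      intro α hα
      rw [coeff_map] at hα
      change Finsupp.weight (1 : Fin n → ℕ) α = N
      have e1 : Finsupp.weight (1 : Fin n → ℕ) α = α.degree := by
        rw [Finsupp.degree_eq_weight_one]; rfl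
      rw [e1]
      by_contra hne
      exact hα (by rw [hT0 α (by omega), map_zero])
    have hv : eval f T1 ∈ J ^ (N + 1) := by
      rw [show eval f T1 = val f g T from rfl, hTv]; exact Ideal.zero_mem _
    refine MvPolynomial.ext _ _ fun α => ?_
    rw [coeff_zero, coeff_map]
    have := hf N T1 hT1h hv α
    rw [coeff_map, hT1 α, eval_C] at this
    rw [hT1 α, map_C, Ideal.Quotient.eq_zero_iff_mem.mpr
      (Ideal.span_le.mpr (by rintro _ ⟨i, rfl⟩; exact hfh i) this), map_zero]
  intro d
  rw [← Ideal.Quotient.eq_zero_iff_mem, ← coeff_map]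
  let join : MvPolynomial (Fin n) (MvPolynomial (Fin m) (A ⧸ Jh)) →+* MvPolynomial (Fin (n + m)) (A ⧸ Jh) :=
    eval₂Hom (rename (Fin.natAdd n)).toRingHom (fun i => X (Fin.castAdd m i))
  have hnat : (MvPolynomial.map π : MvPolynomial (Fin (n + m)) A →+* _) = (join.comp Z).comp (sep n m A) :=
    MvPolynomial.ringHom_ext (fun r => by simp [join, Z, sep]) fun i => by
      refine Fin.addCases (fun i => ?_) (fun k => ?_) i <;> simp [join, Z, sep]
  rw [hnat, RingHom.comp_apply, RingHom.comp_apply, ← hTZ, hZ, map_zero, coeff_zero]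

end Groth.Agent.CAlgOdd.H1Append
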