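import Groth.Agent.LC.DepthExt
import Groth.Agent.LC.ExtDim
import Groth.Agent.Hensel.DepthFlat
import Groth.Agent.FlatLoc6.NormFlat
import Groth.Agent.RegLoc6.Pd

/-!
# The Auslander–Buchsbaum formula
-/

set_option linter.style.haveILetI false

universe u

open CategoryTheory IsLocalRing Groth.Agent.RegLoc6

namespace Groth.Agent.CAlgOdd.AB

open Groth.Agent.LC

variable {R : Type u} [CommRing R] [IsLocalRing R] [IsNoetherianRing R]

/-- A minimal presentation: every relation has coefficients in the maximal ideal. -/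
theorem exists_minimal (M : Type u) [AddCommGroup M] [Module R M] [Module.Finite R M] :
    ∃ (n : ℕ) (g : (Fin n → R) →ₗ[R] M), Function.Surjective g ∧
      ∀ c ∈ LinearMap.ker g, ∀ i, c i ∈ maximalIdeal R := by
  classical
  have h : ∃ n, ∃ g : (Fin n → R) →ₗ[R] M, Function.Surjective g := Module.Finite.exists_fin' R M
  obtain ⟨g, hg⟩ := Nat.find_spec h
  refine ⟨Nat.find h, g, hg, ?_⟩
  suffices H : ∀ (n : ℕ) (g : (Fin n → R) →ₗ[R] M), Function.Surjective g → n = Nat.find h →
      ∀ c ∈ LinearMap.ker g, ∀ i, c i ∈ maximalIdeal R from H _ g hg rfl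
  intro n g hg hn c hc i
  rcases n with _ | n
  · exact i.elim0
  by_contra hu
  obtain ⟨w, hw⟩ := IsLocalRing.notMem_maximalIdeal.1 hu
  refine Nat.find_min h (show n < Nat.find h by omega)
    ⟨g ∘ₗ Function.ExtendByZero.linearMap R i.succAbove, fun y => ?_⟩
  obtain ⟨v, rfl⟩ := hg y
  refine ⟨fun j => (v - (v i * ↑w⁻¹) • c) (i.succAbove j), ?_⟩
  have e : Function.extend i.succAbove (fun j => (v - (v i * ↑w⁻¹) • c) (i.succAbove j)) 0 =
      v - (v i * ↑w⁻¹) • c := by
    funext k
    rcases Fin.eq_self_or_eq_succAbove i k with rfl | ⟨j, rfl⟩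
    · rw [Function.extend_apply' _ _ _ (fun ⟨a, ha⟩ => Fin.succAbove_ne k a ha)]
      simp [← hw]
    · rw [Fin.succAbove_right_injective.extend_apply]
  rw [LinearMap.comp_apply, show ∀ f : Fin n → R, Function.ExtendByZero.linearMap R i.succAbove f = Function.extend i.succAbove f 0 from fun f => rfl, e, map_sub, map_smul, LinearMap.mem_ker.1 hc, smul_zero, sub_zero]

/-- Maps with entries in the maximal ideal induce zero on `Ext` out of the residue field. -/
theorem ext_comp_eq_zero {X Y : ModuleCat.{u} R} (φ : X ⟶ Y)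
    (h : φ ∈ (maximalIdeal R) • (⊤ : Submodule R (X ⟶ Y))) {i : ℕ}
    (z : Abelian.Ext (ModuleCat.of R (R ⧸ maximalIdeal R)) X i) :
    z.comp (Abelian.Ext.mk₀ φ) (add_zero i) = 0 := by
  refine Submodule.smul_induction_on (p := fun χ => z.comp (Abelian.Ext.mk₀ χ) (add_zero i) = 0) h
    (fun x hx ψ _ => ?_) (fun a b ha hb => ?_)
  ·
    rw [show x • ψ = (x • 𝟙 X) ≫ ψ by rw [Linear.smul_comp, Category.id_comp],
      ← Abelian.Ext.mk₀_comp_mk₀, ← Abelian.Ext.comp_assoc _ _ _ (add_zero i) (add_zero 0) (by omega),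
      ext_comp_smul_eq_zero (maximalIdeal R) hx z, Abelian.Ext.zero_comp]
  · rw [Abelian.Ext.mk₀_add, Abelian.Ext.comp_add, ha, hb, add_zero]

theorem subtype_mem_smul_top {n : ℕ} (K : Submodule R (Fin n → R)) [Module.Free R K]
    (h : ∀ c ∈ K, ∀ i, c i ∈ maximalIdeal R) :
    ModuleCat.ofHom K.subtype ∈
      (maximalIdeal R) • (⊤ : Submodule R (ModuleCat.of R K ⟶ ModuleCat.of R (Fin n → R))) := by
  let b := Module.Free.chooseBasis R K
  haveI : Fintype (Module.Free.ChooseBasisIndex R K) :=
    Module.Free.ChooseBasisIndex.fintype R K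
  have e : ModuleCat.ofHom K.subtype = ∑ p : Module.Free.ChooseBasisIndex R K × Fin n,
      ((b p.1 : Fin n → R) p.2) • ModuleCat.ofHom
        ((LinearMap.single R (fun _ : Fin n => R) p.2) ∘ₗ (b.coord p.1)) := by
    refine ModuleCat.hom_ext (b.ext fun j => ?_)
    rw [ModuleCat.hom_sum, LinearMap.sum_apply, Fintype.sum_prod_type, Finset.sum_eq_single j]
    · funext k
      simp [Finset.sum_apply, Pi.single_apply]
    · intro a _ ha
      refine Finset.sum_eq_zero fun k _ => ?_
      simp [Finsupp.single_eq_of_ne' ha.symm]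
    · simp
  rw [e]
  exact Submodule.sum_mem _ fun p _ => Submodule.smul_mem_smul (h _ (b p.1).2 p.2) Submodule.mem_top

/-- One step: `depth M + 1 = depth K` for `0 → K → F → M → 0` minimal enough. -/
theorem depth_step {F M : Type u} [AddCommGroup F] [Module R F] [Module.Finite R F]
    [AddCommGroup M] [Module R M] [Module.Finite R M] (g : F →ₗ[R] M) (hg : Function.Surjective g)
    (k : ℕ) (hF : (k : ℕ∞) ≤ LocCoh.depth R F) (hK : LocCoh.depth R (LinearMap.ker g) = k)
    (hzero : ∀ z : Abelian.Ext (ModuleCat.of R (R ⧸ maximalIdeal R)) (ModuleCat.of R (LinearMap.ker g)) k,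
      z.comp (Abelian.Ext.mk₀ (ModuleCat.ofHom (LinearMap.ker g).subtype)) (add_zero k) = 0) :
    LocCoh.depth R M + 1 = k := by
  have hS := LinearMap.shortExact_shortComplexKer hg
  let κ := ModuleCat.of R (R ⧸ maximalIdeal R)
  have hExtK : ∀ i < k, Subsingleton (Abelian.Ext κ (ModuleCat.of R (LinearMap.ker g)) i) :=
    (le_idealDepth_iff_ext (maximalIdeal R) (LinearMap.ker g) k).1 hK.ge
  have hExtF : ∀ i < k, Subsingleton (Abelian.Ext κ (ModuleCat.of R F) i) :=
    (le_idealDepth_iff_ext (maximalIdeal R) F k).1 hF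
  have hne : ¬ Subsingleton (Abelian.Ext κ (ModuleCat.of R (LinearMap.ker g)) k) := fun hs => by
    have h : ((k + 1 : ℕ) : ℕ∞) ≤ LocCoh.depth R (LinearMap.ker g) :=
      (le_idealDepth_iff_ext (maximalIdeal R) (LinearMap.ker g) (k + 1)).2 fun i hi => by
        rcases Nat.lt_succ_iff_lt_or_eq.1 hi with hi | rfl
        · exact hExtK i hi
        · exact hs
    rw [hK] at h
    have : k + 1 ≤ k := by exact_mod_cast h
    omega
  rcases k with _ | k
  · refine absurd (ext_zero_subsingleton fun h => ?_) hne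
    have h0 := hzero (Abelian.Ext.mk₀ h)
    rw [Abelian.Ext.mk₀_comp_mk₀] at h0
    have h1 := (Abelian.Ext.mk₀_bijective _ _).1 (h0.trans (Abelian.Ext.mk₀_zero _ _).symm)
    haveI : Mono (ModuleCat.ofHom (LinearMap.ker g).subtype) :=
      (ModuleCat.mono_iff_injective _).2 Subtype.val_injective
    rw [← cancel_mono (ModuleCat.ofHom (LinearMap.ker g).subtype), h1, Limits.zero_comp]
  have hlow : (k : ℕ∞) ≤ LocCoh.depth R M :=
    (le_idealDepth_iff_ext (maximalIdeal R) M k).2 fun i hi =>
      ext_subsingleton_X₃ hS κ i (hExtF i (by omega)) (hExtK (i + 1) (by omega))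
  have hup : ¬ ((k + 1 : ℕ) : ℕ∞) ≤ LocCoh.depth R M := fun h => hne <| by
    refine subsingleton_of_forall_eq 0 fun z => ?_
    obtain ⟨y, hy⟩ := Abelian.Ext.covariant_sequence_exact₁ κ hS z (hzero z) (n₀ := k) rfl
    have := (le_idealDepth_iff_ext (maximalIdeal R) M (k + 1)).1 h k (by omega)
    rw [← hy, show y = 0 from @Subsingleton.elim _ this _ _, Abelian.Ext.zero_comp]
  have : LocCoh.depth R M = k := by
    refine le_antisymm ?_ hlow
    rw [not_le, Nat.cast_add, Nat.cast_one, ENat.lt_add_one_iff (ENat.natCast_ne_top k)] at hup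
    exact hup
  rw [this, Nat.cast_add, Nat.cast_one]

/-- The Auslander–Buchsbaum formula. -/
theorem depth_add_eq : ∀ (e : ℕ) (M : Type u) [AddCommGroup M] [Module R M] [Module.Finite R M] [Nontrivial M],
    PdLE R e M → (∀ e' < e, ¬ PdLE R e' M) → LocCoh.depth R M + e = LocCoh.depth R R := by
  intro e
  induction e with
  | zero =>
    intro M _ _ _ _ h _
    haveI : Module.Projective R M := pdLE_zero_iff.1 h
    haveI : Module.Free R M := Module.free_of_flat_of_isLocalRing
    let b := Module.finBasis R M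
    obtain ⟨k, hk⟩ : ∃ k, Module.finrank R M = k + 1 := Nat.exists_eq_succ_of_ne_zero fun h0 => by
      haveI : IsEmpty (Fin (Module.finrank R M)) := by rw [h0]; exact Fin.isEmpty
      exact not_subsingleton M b.repr.toEquiv.subsingleton
    rw [Nat.cast_zero, add_zero, Hensel.depth_congr (b.reindex (finCongr hk)).equivFun,
      FlatLoc6.depth_pi R k]
  | succ e ih =>
    intro M _ _ _ _ h hmin
    obtain ⟨n, g, hg, hm⟩ := exists_minimal (R := R) M
    have hKpd : PdLE R e (LinearMap.ker g) := (pdLE_succ_iff g hg).1 h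
    have hKne : Nontrivial (LinearMap.ker g) := by
      refine Submodule.nontrivial_iff_ne_bot.2 fun hbot => hmin 0 (by omega) ?_
      exact pdLE_zero_iff.2 (Module.Projective.of_equiv (LinearEquiv.ofBijective g ⟨LinearMap.ker_eq_bot.1 hbot, hg⟩))
    have hKmin : ∀ e' < e, ¬ PdLE R e' (LinearMap.ker g) := fun e' he' hpd =>
      hmin (e' + 1) (by omega) ((pdLE_succ_iff g hg).2 hpd)
    have hIH := ih (LinearMap.ker g) hKpd hKmin
    obtain ⟨k, hk⟩ := exists_depth_eq_nat (R := R) (LinearMap.ker g)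
    have hn : ∃ j, n = j + 1 := Nat.exists_eq_succ_of_ne_zero fun h0 => by
      subst h0
      exact not_subsingleton (LinearMap.ker g) inferInstance
    obtain ⟨j, rfl⟩ := hn
    have hF : LocCoh.depth R (Fin (j + 1) → R) = LocCoh.depth R R := FlatLoc6.depth_pi R j
    have hle : (k : ℕ∞) ≤ LocCoh.depth R (Fin (j + 1) → R) := by
      rw [hF, ← hIH, hk]; exact le_self_add
    have hz : ∀ z : Abelian.Ext (ModuleCat.of R (R ⧸ maximalIdeal R)) (ModuleCat.of R (LinearMap.ker g)) k,
        z.comp (Abelian.Ext.mk₀ (ModuleCat.ofHom (LinearMap.ker g).subtype)) (add_zero k) = 0 := by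
      intro z
      rcases Nat.eq_zero_or_pos e with he | he
      · subst he
        haveI : Module.Projective R (LinearMap.ker g) := pdLE_zero_iff.1 hKpd
        haveI : Module.Free R (LinearMap.ker g) := Module.free_of_flat_of_isLocalRing
        exact ext_comp_eq_zero _ (subtype_mem_smul_top (LinearMap.ker g) hm) z
      · have hlt : ((k + 1 : ℕ) : ℕ∞) ≤ LocCoh.depth R (Fin (j + 1) → R) := by
          rw [hF, ← hIH, hk, Nat.cast_add, Nat.cast_one]
          exact add_le_add le_rfl (by exact_mod_cast he)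
        exact @Subsingleton.elim _ ((le_idealDepth_iff_ext (maximalIdeal R) (Fin (j + 1) → R) (k + 1)).1 hlt k (by omega)) _ _
    rw [← hIH, hk, ← depth_step g hg k hle hk hz, Nat.cast_add, Nat.cast_one]
    ring

end Groth.Agent.CAlgOdd.AB
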