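import Groth.Agent.S1004
import Groth.Agent.KFlatLib.Scheme.TildePC
import Groth.Agent.QCoh.Tilde
import Groth.Agent.QCoh.SpecFT
import Groth.Agent.QCoh.Pullback

/-!
# Pseudo-coherent objects of `D(A)` through `Spec A`
-/

set_option linter.style.haveILetI false

universe u

open CategoryTheory CategoryTheory.Limits AlgebraicGeometry

attribute [local instance] HasDerivedCategory.standard

namespace Groth.Agent.CAlgOdd

open Groth.Agent.KFlatLib

theorem finite_homology {R : CommRingCat.{u}} {m : ℤ} (M : DerivedCategory (ModuleCat.{u} R))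
    (hM : DCoh.IsPseudoCoherentD m ((DCoh.tildeD R).obj M)) :
    ((∀ i : ℤ, m < i → IsZero ((DerivedCategory.homologyFunctor (ModuleCat.{u} R) i).obj M)) →
        Module.Finite R ((DerivedCategory.homologyFunctor (ModuleCat.{u} R) m).obj M)) ∧
      ((∀ i : ℤ, m + 1 < i → IsZero ((DerivedCategory.homologyFunctor (ModuleCat.{u} R) i).obj M)) →
        Module.FinitePresentation R ((DerivedCategory.homologyFunctor (ModuleCat.{u} R) (m + 1)).obj M)) := by
  rw [isPseudoCoherentD_iff] at hM
  have hz : ∀ n : ℤ, (∀ i : ℤ, n < i → IsZero ((DerivedCategory.homologyFunctor (ModuleCat.{u} R) i).obj M)) →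
      ∀ i, n < i → IsZero (DCoh.HD ((DCoh.tildeD R).obj M) i) := fun n h i hi =>
    ((tilde.functor R).map_isZero (h i hi)).of_iso ((mapDCHomologyIso (tilde.functor R) i).app M)
  constructor
  · intro h
    exact (QCoh.isFT_tilde_iff _).1
      (isFT_of_iso' ((mapDCHomologyIso (tilde.functor R) m).app M) (isFT_top hM (hz m h)))
  · intro h
    have hq := isQCohD_tildeD R M (m + 1)
    haveI := (QCoh.isFP_iff_finitePresentation _ hq).1 (isFP_top hM (hz (m + 1) h))
    exact Module.FinitePresentation.of_equiv (M := moduleSpecΓFunctor.obj (DCoh.HD ((DCoh.tildeD R).obj M) (m + 1))) ((moduleSpecΓFunctor.mapIso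
      ((mapDCHomologyIso (tilde.functor R) (m + 1)).app M)).toLinearEquiv ≪≫ₗ
      (tilde.toTildeΓNatIso.app _).toLinearEquiv.symm)

theorem rho_tilde_iso {R S : CommRingCat.{u}} (g : R ⟶ S) [IsOpenImmersion (Spec.map g)]
    (K : CochainComplex (ModuleCat.{u} R) ℤ) :
    Nonempty ((DCoh.tildeD S).obj (DerivedCategory.Q.obj
        (((ModuleCat.extendScalars.{u, u, u} g.hom).mapHomologicalComplex (ComplexShape.up ℤ)).obj K)) ≅
      (rho (Spec.map g)).obj ((DCoh.tildeD R).obj (DerivedCategory.Q.obj K))) := by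
  let e : ModuleCat.extendScalars.{u, u, u} g.hom ⋙ tilde.functor S ≅
      tilde.functor R ⋙ Scheme.Modules.restrictFunctor (Spec.map g) :=
    (QCoh.tildePullbackIso g).symm ≪≫
      Functor.isoWhiskerLeft _ (Scheme.Modules.restrictFunctorIsoPullback (Spec.map g)).symm
  exact ⟨(tilde.functor S).mapDerivedCategoryFactors.app _ ≪≫
    DerivedCategory.Q.mapIso (show _ ≅ (rCx (Spec.map g)).obj
        (((tilde.functor R).mapHomologicalComplex (ComplexShape.up ℤ)).obj K) from
      HomologicalComplex.Hom.isoOfComponents (fun n => e.app (K.X n))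
        (fun i j _ => (e.hom.naturality (K.d i j)).symm)) ≪≫
    ((rhoQ (Spec.map g)).app _).symm ≪≫
    (rho (Spec.map g)).mapIso ((tilde.functor R).mapDerivedCategoryFactors.app K).symm⟩

end Groth.Agent.CAlgOdd
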