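import Groth.Agent.AssFiber.Basic
import Mathlib

/-!
# Associated primes of a flat tensor product
-/

universe u

open TensorProduct

namespace Groth.Agent.CAlgOdd.AssTensor

variable {R S : Type u} [CommRing R] [CommRing S] [Algebra R S]

theorem mem_rad_colon {A : Type u} [AddCommGroup A] [Module S A] {x : A} {r : S} :
    r ∈ ((⊥ : Submodule S A).colon {x}).radical ↔ ∃ n : ℕ, r ^ n • x = 0 := by
  simp [Ideal.mem_radical_iff, Submodule.mem_colon_singleton]

theorem ass_union {A B C : Type u} [AddCommGroup A] [Module S A] [AddCommGroup B] [Module S B]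
    [AddCommGroup C] [Module S C] (f : A →ₗ[S] B) (g : B →ₗ[S] C) (hf : Function.Injective f)
    (hfg : Function.Exact f g) {q : Ideal S} (h : q ∈ associatedPrimes S B) :
    q ∈ associatedPrimes S A ∨ q ∈ associatedPrimes S C := by
  obtain ⟨hq, x, hx⟩ := h
  by_cases hc : ∃ s ∉ q, g (s • x) = 0
  · left
    obtain ⟨s, hs, hgs⟩ := hc
    obtain ⟨a, ha⟩ := (hfg _).1 hgs
    refine ⟨hq, a, le_antisymm (fun r hr => ?_) (fun r hr => ?_)⟩
    · rw [hx, mem_rad_colon] at hr
      obtain ⟨n, hn⟩ := hr
      rw [mem_rad_colon]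
      exact ⟨n, hf (by rw [map_smul, ha, map_zero, smul_comm, hn, smul_zero])⟩
    · rw [mem_rad_colon] at hr
      obtain ⟨n, hn⟩ := hr
      have h1 : r ^ n * s ∈ q := by
        rw [hx, mem_rad_colon]
        exact ⟨1, by rw [pow_one, mul_smul, ← ha, ← map_smul, hn, map_zero]⟩
      exact hq.mem_of_pow_mem n ((hq.mem_or_mem h1).resolve_right hs)
  · right
    refine ⟨hq, g x, le_antisymm (fun r hr => ?_) (fun r hr => ?_)⟩
    · rw [hx, mem_rad_colon] at hr
      obtain ⟨n, hn⟩ := hr
      rw [mem_rad_colon]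
      exact ⟨n, by rw [← map_smul, hn, map_zero]⟩
    · rw [mem_rad_colon] at hr
      obtain ⟨n, hn⟩ := hr
      by_contra hrq
      exact hc ⟨r ^ n, fun h => hrq (hq.mem_of_pow_mem n h), by rw [map_smul, hn]⟩

variable (N : Type u) [AddCommGroup N] [Module S N] [Module R N] [IsScalarTower R S N]

theorem exists_equiv (p : Ideal R) [p.IsPrime] :
    Nonempty ((N ⧸ p.map (algebraMap R S) • (⊤ : Submodule S N)) ≃ₗ[S] N ⊗[R] (R ⧸ p)) := by
  let π : N →ₗ[S] N ⊗[R] (R ⧸ p) := (TensorProduct.AlgebraTensorModule.mk R S N (R ⧸ p)).flip 1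
  have hker : LinearMap.ker π = AssFiber.pN p (S := S) N := by
    ext n
    rw [LinearMap.mem_ker]
    show (n ⊗ₜ[R] (1 : R ⧸ p)) = 0 ↔ _
    rw [← LinearEquiv.map_eq_zero_iff (TensorProduct.tensorQuotEquivQuotSMul N p),
      ← map_one (Ideal.Quotient.mk p), TensorProduct.tensorQuotEquivQuotSMul_tmul_mk, one_smul,
      Submodule.Quotient.mk_eq_zero]
    exact ⟨fun h => AssFiber.smul_mem_pN p N h, fun h => AssFiber.mem_smul_top_of_mem_pN p N h⟩
  have hπ : Function.Surjective π := by
    intro z
    induction z with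
    | zero => exact ⟨0, map_zero π⟩
    | tmul n c =>
      obtain ⟨c, rfl⟩ := Ideal.Quotient.mk_surjective c
      refine ⟨algebraMap R S c • n, ?_⟩
      show (algebraMap R S c • n) ⊗ₜ[R] (1 : R ⧸ p) = _
      rw [algebraMap_smul, smul_tmul, Algebra.smul_def, mul_one, Ideal.Quotient.algebraMap_eq]
    | add a b ha hb => obtain ⟨a', rfl⟩ := ha; obtain ⟨b', rfl⟩ := hb; exact ⟨a' + b', map_add π _ _⟩
  exact ⟨(Submodule.quotEquivOfEq _ _ hker.symm).trans (LinearMap.quotKerEquivOfSurjective π hπ)⟩

variable [IsNoetherianRing R] [Module.Flat R N]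

theorem exists_prime_of_mem (M : Type u) [AddCommGroup M] [Module R M] [Module.Finite R M] {q : Ideal S}
    (h : q ∈ associatedPrimes S (N ⊗[R] M)) :
    q ∈ associatedPrimes S (N ⧸ (q.comap (algebraMap R S)).map (algebraMap R S) • (⊤ : Submodule S N)) := by
  induction ‹Module.Finite R M› using IsNoetherianRing.induction_on_isQuotientEquivQuotientPrime R with
  | subsingleton L =>
    exact absurd h not_isAssociatedPrime_of_subsingleton
  | quotient L p e =>
    let E := TensorProduct.AlgebraTensorModule.lTensor S N e.toLinearMap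
    have hE : Function.Injective E := Module.Flat.lTensor_preserves_injective_linearMap (M := N) _ e.injective
    obtain ⟨θ⟩ := exists_equiv (S := S) N p.asIdeal
    have h2 := θ.isAssociatedPrime_iff.2 (h.map_of_injective E hE)
    haveI := h2.isPrime
    suffices hp : q.comap (algebraMap R S) = p.asIdeal by rw [hp]; exact h2
    obtain ⟨x, hx⟩ := h2.2
    refine le_antisymm (fun r hr => ?_) (fun r hr => ?_)
    · by_contra hrp
      rw [Ideal.mem_comap, hx, mem_rad_colon] at hr
      obtain ⟨n, hn⟩ := hr
      rw [← map_pow] at hn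
      have h0 := (AssFiber.isSMulRegular_quot p.asIdeal N (s := algebraMap R S (r ^ n))
        ⟨r ^ n, fun h => hrp (p.isPrime.mem_of_pow_mem n h), rfl⟩).right_eq_zero_of_smul hn
      refine h2.isPrime.ne_top ((Ideal.eq_top_iff_one _).2 ?_)
      rw [hx, mem_rad_colon]
      exact ⟨1, by rw [h0, smul_zero]⟩
    · rw [Ideal.mem_comap, hx, mem_rad_colon]
      obtain ⟨n, rfl⟩ := Submodule.Quotient.mk_surjective _ x
      refine ⟨1, ?_⟩
      rw [pow_one, ← Submodule.Quotient.mk_smul, Submodule.Quotient.mk_eq_zero]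
      exact Submodule.smul_mem_smul (Ideal.mem_map_of_mem _ hr) Submodule.mem_top
  | exact L₁ L₂ L₃ f g hf hg hfg h₁ h₃ =>
    exact (ass_union (TensorProduct.AlgebraTensorModule.lTensor S N f) (TensorProduct.AlgebraTensorModule.lTensor S N g)
      (Module.Flat.lTensor_preserves_injective_linearMap (M := N) f hf) (lTensor_exact N hfg hg) h).elim h₁ h₃

theorem mem_ass_of_mem (M : Type u) [AddCommGroup M] [Module R M] [Module.Finite R M] {q : Ideal S}
    (h : q ∈ associatedPrimes S (N ⊗[R] M)) : q.comap (algebraMap R S) ∈ associatedPrimes R M := by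
  classical
  haveI := h.isPrime
  obtain ⟨x, hx⟩ := h.2
  set p := q.comap (algebraMap R S)
  obtain ⟨gs, hgs⟩ := IsNoetherian.noetherian p
  have hrad : ∀ a ∈ p, ∃ n : ℕ, a ^ n • x = 0 := fun a ha => by
    have h1 : algebraMap R S a ∈ q := ha
    rw [hx, mem_rad_colon] at h1
    obtain ⟨n, hn⟩ := h1
    exact ⟨n, by rwa [← map_pow, algebraMap_smul] at hn⟩
  have hgp : ∀ g ∈ gs, g ∈ p := fun g hg => hgs ▸ Submodule.subset_span hg
  choose! n hn using fun g hg => hrad g (hgp g hg)
  let T : M →ₗ[R] gs → M := LinearMap.pi fun g => LinearMap.lsmul R M ((g : R) ^ n g)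
  have hTx : T.lTensor N x = 0 := by
    let e := TensorProduct.piRight R R N (fun _ : gs => M)
    refine e.injective ?_
    rw [map_zero]
    funext g
    have hcomm : ∀ z, e (T.lTensor N z) g = ((g : R) ^ n g) • z := by
      intro z
      induction z using TensorProduct.induction_on with
      | zero => simp
      | tmul a m => simp [e, T]
      | add a b ha hb => simp [ha, hb, smul_add]
    rw [hcomm, hn g g.2, Pi.zero_apply]
  obtain ⟨z, hz⟩ := (Module.Flat.lTensor_exact N (LinearMap.exact_subtype_ker_map T) x).1 hTx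
  let M' := LinearMap.ker T
  have hle : p ≤ (Module.annihilator R M').radical := by
    rw [← hgs]
    refine Submodule.span_le.2 fun g hg => ?_
    refine ⟨n g, Module.mem_annihilator.2 fun m => Subtype.ext ?_⟩
    exact congrFun (LinearMap.mem_ker.1 m.2) ⟨g, hg⟩
  have hann : Module.annihilator R M' ≤ p := by
    intro a ha
    show algebraMap R S a ∈ q
    rw [hx, mem_rad_colon]
    refine ⟨1, ?_⟩
    rw [pow_one, algebraMap_smul, ← hz, ← map_smul]
    rw [show a • z = 0 from ?_, map_zero]
    clear hz
    induction z using TensorProduct.induction_on with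
    | zero => simp
    | tmul b m => rw [← tmul_smul, Module.mem_annihilator.1 ha m, tmul_zero]
    | add b c hb hc => rw [smul_add, hb, hc, add_zero]
  obtain ⟨P, hP, hPp⟩ := Ideal.exists_minimalPrimes_le hann
  have hpP : p ≤ P := hle.trans (hP.1.1.radical_le_iff.2 hP.1.2)
  obtain rfl : P = p := le_antisymm hPp hpP
  exact associatedPrimes.subset_of_injective (f := M'.subtype) Subtype.val_injective
    (Module.associatedPrimes.minimalPrimes_annihilator_subset_associatedPrimes R M' hP)

theorem associatedPrimes_eq (M : Type u) [AddCommGroup M] [Module R M] :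
    associatedPrimes S (N ⊗[R] M) =
      ⋃ p ∈ associatedPrimes R M, associatedPrimes S (N ⧸ p.map (algebraMap R S) • (⊤ : Submodule S N)) := by
  ext q
  simp only [Set.mem_iUnion, exists_prop]
  constructor
  · intro h
    obtain ⟨x, hx⟩ := h.2
    obtain ⟨M', _, hfin⟩ := TensorProduct.exists_finite_submodule_right_of_setFinite ({x} : Set (N ⊗[R] M)) (Set.finite_singleton x)
    obtain ⟨z, hz⟩ := hfin rfl
    haveI : Module.Finite R M' := by assumption
    let E := TensorProduct.AlgebraTensorModule.lTensor S N M'.subtype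
    have hE : Function.Injective E := Module.Flat.lTensor_preserves_injective_linearMap (M := N) _ M'.subtype_injective
    have h' : q ∈ associatedPrimes S (N ⊗[R] M') := by
      refine ⟨h.isPrime, z, ?_⟩
      rw [hx, ← hz]
      ext r
      rw [mem_rad_colon, mem_rad_colon]
      exact exists_congr fun k => ⟨fun hk => hE (by rw [map_smul, map_zero]; exact hk),
        fun hk => by
          show r ^ k • E z = 0
          rw [← map_smul, hk, map_zero]⟩
    exact ⟨_, associatedPrimes.subset_of_injective (f := M'.subtype) Subtype.val_injective (mem_ass_of_mem N M' h'),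
      exists_prime_of_mem N M' h'⟩
  · rintro ⟨p, hp, hq⟩
    obtain ⟨hpp, y, hy⟩ := isAssociatedPrime_iff.1 hp
    let ι : (R ⧸ p) →ₗ[R] M := Submodule.liftQ p (LinearMap.toSpanSingleton R M y) (fun a ha => by
      rw [hy, Submodule.mem_colon_singleton, Submodule.mem_bot] at ha
      simpa using ha)
    have hι : Function.Injective ι := by
      rw [injective_iff_map_eq_zero]
      intro a ha
      obtain ⟨a, rfl⟩ := Submodule.Quotient.mk_surjective _ a
      rw [Submodule.Quotient.mk_eq_zero, hy, Submodule.mem_colon_singleton, Submodule.mem_bot]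
      exact ha
    haveI := hpp
    obtain ⟨θ⟩ := exists_equiv (S := S) N p
    exact (θ.isAssociatedPrime_iff.1 hq).map_of_injective (TensorProduct.AlgebraTensorModule.lTensor S N ι)
      (Module.Flat.lTensor_preserves_injective_linearMap (M := N) ι hι)

end Groth.Agent.CAlgOdd.AssTensor
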