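import Mathlib

/-!
# Artin–Rees for congruent complexes
-/

namespace Groth.Agent.CAlgOdd.ARCongruent

universe u

variable {A : Type u} [CommRing A] (I : Ideal A) {L M N : Type u} [AddCommGroup L] [Module A L]
  [AddCommGroup M] [Module A M] [AddCommGroup N] [Module A N]

/-- `f x - f' x` lies in a deeper step of the filtration. -/
theorem sub_mem {f f' : L →ₗ[A] M} {c a : ℕ} (hff' : ∀ x : L, f x - f' x ∈ I ^ (c + 1) • (⊤ : Submodule A M))
    {x : L} (hx : x ∈ I ^ a • (⊤ : Submodule A L)) : f x - f' x ∈ I ^ (a + (c + 1)) • (⊤ : Submodule A M) := by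
  have h := Submodule.mem_map_of_mem (f := f - f') hx
  rw [Submodule.map_smul'', LinearMap.sub_apply] at h
  rw [pow_add, Submodule.mul_smul]
  refine Submodule.smul_mono le_rfl ?_ h
  rintro _ ⟨z, -, rfl⟩
  exact hff' z

theorem pow_le {P : Type*} [AddCommGroup P] [Module A P] {i j : ℕ} (h : i ≤ j) {x : P}
    (hx : x ∈ I ^ j • (⊤ : Submodule A P)) : x ∈ I ^ i • (⊤ : Submodule A P) :=
  Submodule.smul_mono_left (Ideal.pow_le_pow_right h) hx

variable {f f' : L →ₗ[A] M} {g g' : M →ₗ[A] N} {c : ℕ}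

theorem approx (hgf' : g'.comp f' = 0)
    (hf : ∀ n : ℕ, c ≤ n → LinearMap.range f ⊓ (I ^ n • (⊤ : Submodule A M)) ≤ Submodule.map f (I ^ (n - c) • (⊤ : Submodule A L)))
    (hg : ∀ n : ℕ, c ≤ n → LinearMap.range g ⊓ (I ^ n • (⊤ : Submodule A N)) ≤ Submodule.map g (I ^ (n - c) • (⊤ : Submodule A M)))
    (hex : Function.Exact f g)
    (hff' : ∀ x : L, f x - f' x ∈ I ^ (c + 1) • (⊤ : Submodule A M))
    (hgg' : ∀ y : M, g y - g' y ∈ I ^ (c + 1) • (⊤ : Submodule A N)) (n : ℕ) :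
    ∀ a : ℕ, a + c ≤ n → ∀ y : M, g' y ∈ I ^ n • (⊤ : Submodule A N) →
      ∃ y' ∈ I ^ a • (⊤ : Submodule A M), ∃ x : L, y = y' + f' x := by
  intro a
  induction a with
  | zero => intro _ y _; exact ⟨y, by simp, 0, by simp⟩
  | succ a ih =>
    intro ha y hy
    obtain ⟨y₁, hy₁, x₁, hx₁⟩ := ih (by omega) y hy
    have hg'f : ∀ x, g' (f' x) = 0 := fun x => LinearMap.congr_fun hgf' x
    have hy₁' : g' y₁ ∈ I ^ n • (⊤ : Submodule A N) := by
      rw [hx₁, map_add, hg'f, add_zero] at hy; exact hy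
    have h1 : g y₁ ∈ I ^ (a + 1 + c) • (⊤ : Submodule A N) := by
      rw [show g y₁ = g' y₁ + (g y₁ - g' y₁) by abel]
      exact Submodule.add_mem _ (pow_le I ha hy₁') (pow_le I (by omega) (sub_mem I hgg' hy₁))
    obtain ⟨y₂, hy₂, he⟩ := hg (a + 1 + c) (by omega) ⟨⟨y₁, rfl⟩, h1⟩
    rw [Nat.add_sub_cancel] at hy₂
    obtain ⟨x, hx⟩ := (hex (y₁ - y₂)).1 (by rw [map_sub, he, sub_self])
    have hfx : f x ∈ I ^ a • (⊤ : Submodule A M) := by
      rw [hx]; exact Submodule.sub_mem _ hy₁ (pow_le I (Nat.le_succ a) hy₂)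
    obtain ⟨x₂, hx₂, hf₂⟩ : ∃ x₂, f x₂ - f' x₂ ∈ I ^ (a + 1) • (⊤ : Submodule A M) ∧ f x₂ = f x := by
      by_cases hca : c ≤ a
      · obtain ⟨x₂, hx₂, he₂⟩ := hf a hca ⟨⟨x, rfl⟩, hfx⟩
        exact ⟨x₂, pow_le I (by omega) (sub_mem I hff' hx₂), he₂⟩
      · exact ⟨x, pow_le I (by omega) (hff' x), rfl⟩
    refine ⟨y₂ + (f x₂ - f' x₂), Submodule.add_mem _ hy₂ hx₂, x₁ + x₂, ?_⟩
    rw [hx₁, map_add, hf₂, hx]
    abel

theorem works (hgf' : g'.comp f' = 0)
    (hf : ∀ n : ℕ, c ≤ n → LinearMap.range f ⊓ (I ^ n • (⊤ : Submodule A M)) ≤ Submodule.map f (I ^ (n - c) • (⊤ : Submodule A L)))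
    (hg : ∀ n : ℕ, c ≤ n → LinearMap.range g ⊓ (I ^ n • (⊤ : Submodule A N)) ≤ Submodule.map g (I ^ (n - c) • (⊤ : Submodule A M)))
    (hex : Function.Exact f g)
    (hff' : ∀ x : L, f x - f' x ∈ I ^ (c + 1) • (⊤ : Submodule A M))
    (hgg' : ∀ y : M, g y - g' y ∈ I ^ (c + 1) • (⊤ : Submodule A N)) (n : ℕ) (hn : c ≤ n) :
    LinearMap.range g' ⊓ (I ^ n • (⊤ : Submodule A N)) ≤ Submodule.map g' (I ^ (n - c) • (⊤ : Submodule A M)) := by
  rintro _ ⟨⟨y, rfl⟩, hy⟩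
  obtain ⟨y', hy', x, rfl⟩ := approx I hgf' hf hg hex hff' hgg' n (n - c) (by omega) y hy
  refine ⟨y', hy', ?_⟩
  rw [map_add, show g' (f' x) = 0 from LinearMap.congr_fun hgf' x, add_zero]

theorem exact [IsNoetherianRing A] [Module.Finite A M] (hI : I ≤ Ideal.jacobson (⊥ : Ideal A))
    (hgf' : g'.comp f' = 0)
    (hf : ∀ n : ℕ, c ≤ n → LinearMap.range f ⊓ (I ^ n • (⊤ : Submodule A M)) ≤ Submodule.map f (I ^ (n - c) • (⊤ : Submodule A L)))
    (hg : ∀ n : ℕ, c ≤ n → LinearMap.range g ⊓ (I ^ n • (⊤ : Submodule A N)) ≤ Submodule.map g (I ^ (n - c) • (⊤ : Submodule A M)))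
    (hex : Function.Exact f g)
    (hff' : ∀ x : L, f x - f' x ∈ I ^ (c + 1) • (⊤ : Submodule A M))
    (hgg' : ∀ y : M, g y - g' y ∈ I ^ (c + 1) • (⊤ : Submodule A N)) : Function.Exact f' g' := by
  intro y
  refine ⟨fun hy => ?_, ?_⟩
  · have h : (LinearMap.range f').mkQ y ∈ (⨅ i : ℕ, I ^ i • ⊤ : Submodule A (M ⧸ LinearMap.range f')) := by
      refine (Submodule.mem_iInf _).2 fun i => ?_
      obtain ⟨y', hy', x, rfl⟩ := approx I hgf' hf hg hex hff' hgg' (i + c) i le_rfl y (by rw [hy]; exact Submodule.zero_mem _)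
      have h2 := Submodule.mem_map_of_mem (f := (LinearMap.range f').mkQ) hy'
      rw [Submodule.map_smul''] at h2
      rw [map_add, show (LinearMap.range f').mkQ (f' x) = 0 from
        (Submodule.Quotient.mk_eq_zero _).2 ⟨x, rfl⟩, add_zero]
      exact Submodule.smul_mono le_rfl le_top h2
    rw [Ideal.iInf_pow_smul_eq_bot_of_le_jacobson I hI, Submodule.mem_bot] at h
    exact (Submodule.Quotient.mk_eq_zero _).1 h
  · rintro ⟨x, rfl⟩
    exact (LinearMap.congr_fun hgf' x).trans (LinearMap.zero_apply x)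

theorem coker_le (hgg' : ∀ y : M, g y - g' y ∈ I ^ (c + 1) • (⊤ : Submodule A N))
    (hg : ∀ n : ℕ, c ≤ n → LinearMap.range g ⊓ (I ^ n • (⊤ : Submodule A N)) ≤ Submodule.map g (I ^ (n - c) • (⊤ : Submodule A M)))
    (n : ℕ) :
    I ^ (n + 1) • (⊤ : Submodule A N) ⊔ (LinearMap.range g ⊓ I ^ n • (⊤ : Submodule A N)) ≤
      I ^ (n + 1) • (⊤ : Submodule A N) ⊔ (LinearMap.range g' ⊓ I ^ n • (⊤ : Submodule A N)) := by
  refine sup_le le_sup_left ?_
  rintro z ⟨⟨y, rfl⟩, hy⟩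
  obtain ⟨y', hy', he⟩ : ∃ y', g y' - g' y' ∈ I ^ (n + 1) • (⊤ : Submodule A N) ∧ g y' = g y := by
    by_cases hn : c ≤ n
    · obtain ⟨y', hy', he⟩ := hg n hn ⟨⟨y, rfl⟩, hy⟩
      exact ⟨y', pow_le I (by omega) (sub_mem I hgg' hy'), he⟩
    · exact ⟨y, pow_le I (by omega) (hgg' y), rfl⟩
  refine Submodule.mem_sup.2 ⟨_, hy', g' y', ⟨⟨y', rfl⟩, ?_⟩, by rw [← he]; abel⟩
  rw [show g' y' = g y - (g y' - g' y') by rw [← he]; abel]
  exact Submodule.sub_mem _ hy (pow_le I (Nat.le_succ n) hy')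

open TensorProduct in
theorem baseChange {B : Type u} [CommRing B] [Algebra A B] [Module.Flat A B] (f : L →ₗ[A] M) (n k : ℕ)
    (hf : LinearMap.range f ⊓ (I ^ n • (⊤ : Submodule A M)) ≤ Submodule.map f (I ^ k • (⊤ : Submodule A L))) :
    LinearMap.range (f.baseChange B) ⊓ ((I.map (algebraMap A B)) ^ n • (⊤ : Submodule B (B ⊗[A] M))) ≤
      Submodule.map (f.baseChange B) ((I.map (algebraMap A B)) ^ k • (⊤ : Submodule B (B ⊗[A] L))) := by
  have hbc : ∀ {Q : Type u} [AddCommGroup Q] [Module A Q] (j : ℕ) (b : B) (q : Q),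
      q ∈ I ^ j • (⊤ : Submodule A Q) →
      b ⊗ₜ[A] q ∈ (I.map (algebraMap A B)) ^ j • (⊤ : Submodule B (B ⊗[A] Q)) := by
    intro Q _ _ j b q hq
    refine Submodule.smul_induction_on hq (fun a ha q _ => ?_) (fun q q' hq hq' => ?_)
    · rw [TensorProduct.tmul_smul, ← IsScalarTower.algebraMap_smul B a, ← Ideal.map_pow]
      exact Submodule.smul_mem_smul (Ideal.mem_map_of_mem _ ha) Submodule.mem_top
    · rw [TensorProduct.tmul_add]; exact Submodule.add_mem _ hq hq'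
  rintro _ ⟨⟨y, rfl⟩, hy⟩
  let π : M →ₗ[A] M ⧸ (I ^ n • (⊤ : Submodule A M)) := Submodule.mkQ _
  have h0 : (π.baseChange B) (f.baseChange B y) = 0 := by
    refine Submodule.smul_induction_on hy (fun a ha q _ => ?_)
      (fun q q' hq hq' => by rw [map_add, hq, hq', add_zero])
    · rw [map_smul]
      rw [← Ideal.map_pow] at ha
      induction ha using Submodule.span_induction with
      | mem x hx =>
        obtain ⟨a, ha, rfl⟩ := hx
        rw [IsScalarTower.algebraMap_smul]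
        induction q using TensorProduct.induction_on with
        | zero => simp
        | tmul b m =>
          rw [LinearMap.baseChange_tmul, ← TensorProduct.tmul_smul, ← map_smul,
            show π (a • m) = 0 from (Submodule.Quotient.mk_eq_zero _).2 (Submodule.smul_mem_smul ha Submodule.mem_top),
            TensorProduct.tmul_zero]
        | add q q' hq hq' => rw [map_add, smul_add, hq Submodule.mem_top, hq' Submodule.mem_top, add_zero]
      | zero => simp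
      | add x x' _ _ hx hx' => rw [add_smul, hx, hx', add_zero]
      | smul r x _ hx => rw [smul_assoc, hx, smul_zero]
  have hex := Module.Flat.lTensor_exact B
    (LinearMap.exact_subtype_ker_map (π ∘ₗ f))
  have hy0 : (π ∘ₗ f).lTensor B y = 0 := by
    rw [LinearMap.lTensor_comp]
    exact h0
  obtain ⟨w, rfl⟩ := (hex y).1 hy0
  clear hy0 hy h0
  induction w using TensorProduct.induction_on with
  | zero => simp
  | tmul b p =>
    obtain ⟨m', hm', he⟩ := hf ⟨⟨p.1, rfl⟩, (Submodule.Quotient.mk_eq_zero _).1 p.2⟩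
    refine ⟨b ⊗ₜ m', hbc k b m' hm', ?_⟩
    simp [he]
  | add w w' hw hw' =>
    rw [map_add, map_add]
    exact Submodule.add_mem _ hw hw'

end Groth.Agent.CAlgOdd.ARCongruent
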