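import Groth.Agent.LC.DepthExt
import Mathlib.Algebra.Homology.ShortComplex.ModuleCat
import Mathlib.Algebra.Homology.HomologicalComplex
import Mathlib.Algebra.Homology.ShortComplex.Exact

/-!
# The acyclicity lemma
-/

universe u

open CategoryTheory CategoryTheory.Limits IsLocalRing

namespace Groth.Agent.CAlgOdd.Acyclicity

variable {R : Type u} [CommRing R] [IsLocalRing R] [IsNoetherianRing R]

/-- `Ext` from the residue field vanishes below `n`. -/
def DepthGE (n : ℕ) (X : ModuleCat.{u} R) : Prop :=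
  ∀ t < n, Subsingleton (Abelian.Ext (ModuleCat.of R (R ⧸ maximalIdeal R)) X t)

theorem depthGE_iff (n : ℕ) (X : ModuleCat.{u} R) [Module.Finite R X] :
    DepthGE n X ↔ (n : ℕ∞) ≤ LocCoh.depth R X :=
  (LC.le_idealDepth_iff_ext (maximalIdeal R) X n).symm

theorem depthGE_of_isZero (n : ℕ) {X : ModuleCat.{u} R} (hX : IsZero X) : DepthGE n X := fun t _ =>
  subsingleton_of_forall_eq 0 fun x => by
    rw [← Abelian.Ext.comp_mk₀_id x, hX.eq_of_src (𝟙 X) 0, Abelian.Ext.mk₀_zero, Abelian.Ext.comp_zero]

variable (C : ChainComplex (ModuleCat.{u} R) ℕ)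

/-- The boundaries in degree `j`. -/
abbrev bnd (j : ℕ) : ModuleCat.{u} R := ModuleCat.of R (LinearMap.range (C.d (j + 1) j).hom)

/-- The sequence `0 → B_{j+1} → X_{j+1} → B_j → 0`. -/
noncomputable abbrev bndSeq (j : ℕ) : ShortComplex (ModuleCat.{u} R) :=
  ShortComplex.mk (X₁ := bnd C (j + 1)) (X₂ := C.X (j + 1)) (X₃ := bnd C j)
    (ModuleCat.ofHom (LinearMap.range (C.d (j + 1 + 1) (j + 1)).hom).subtype)
    (ModuleCat.ofHom (C.d (j + 1) j).hom.rangeRestrict)
    (by
      ext ⟨y, x, rfl⟩
      exact congrArg (fun φ => φ.hom x) (C.d_comp_d (j + 1 + 1) (j + 1) j))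

theorem bndSeq_shortExact (j : ℕ) (h : C.ExactAt (j + 1)) : (bndSeq C j).ShortExact where
  exact := by
    rw [ShortComplex.moduleCat_exact_iff]
    intro x hx
    rw [HomologicalComplex.exactAt_iff' C (j + 1 + 1) (j + 1) j (by simp) (by simp),
      ShortComplex.moduleCat_exact_iff] at h
    obtain ⟨y, hy⟩ := h x (congrArg Subtype.val hx)
    exact ⟨⟨_, y, rfl⟩, hy⟩
  mono_f := (ModuleCat.mono_iff_injective _).mpr Subtype.val_injective
  epi_g := (ModuleCat.epi_iff_surjective _).mpr (LinearMap.surjective_rangeRestrict _)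

variable (e : ℕ) (hzero : ∀ j, e < j → IsZero (C.X j))
  (hdepth : ∀ j, j ≤ e → DepthGE j (C.X j)) (i : ℕ) (habove : ∀ j, i < j → C.ExactAt j)

include hzero hdepth habove in
theorem depthGE_bnd : ∀ j, i ≤ j → DepthGE (j + 1) (bnd C j) := by
  suffices H : ∀ k j, e - j = k → i ≤ j → DepthGE (j + 1) (bnd C j) from fun j => H _ j rfl
  intro k
  induction k with
  | zero =>
    intro j hj _
    refine depthGE_of_isZero _ ?_
    have hz := hzero (j + 1) (by omega)
    have := ModuleCat.subsingleton_of_isZero hz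
    have : Subsingleton (LinearMap.range (C.d (j + 1) j).hom) := by
      refine subsingleton_of_forall_eq 0 ?_
      rintro ⟨_, x, rfl⟩
      apply Subtype.ext
      show (C.d (j + 1) j).hom x = 0
      rw [Subsingleton.elim x 0, map_zero]
    exact ModuleCat.isZero_of_subsingleton _
  | succ k ih =>
    intro j hj hij t ht
    exact LC.ext_subsingleton_X₃ (bndSeq_shortExact C j (habove (j + 1) (by omega))) _ t
      (hdepth (j + 1) (by omega) t ht) (ih (j + 1) (by omega) (by omega) (t + 1) (by omega))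

include hzero hdepth habove in
theorem depthGE_one_homology (hi : 0 < i) : DepthGE 1 (C.homology i) := by
  intro t ht
  obtain rfl : t = 0 := by omega
  let inj : C.cycles i →ₗ[R] C.X i := (C.iCycles i).hom
  have hinj : Function.Injective inj := (ModuleCat.mono_iff_injective _).mp inferInstance
  let T := LinearMap.range (C.toCycles (i + 1) i).hom
  have hT : T.map inj = LinearMap.range (C.d (i + 1) i).hom := by
    rw [← LinearMap.range_comp]
    exact congrArg (fun φ => LinearMap.range φ.hom) (C.toCycles_i (i + 1) i)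
  let eq : LinearMap.range (C.d (i + 1) i).hom ≃ₗ[R] T :=
    (LinearEquiv.ofEq _ _ hT.symm).trans (Submodule.equivMapOfInjective inj hinj T).symm
  let S : ShortComplex (ModuleCat.{u} R) :=
    ShortComplex.mk (X₁ := bnd C i) (X₂ := C.cycles i) (X₃ := C.homology i)
      (ModuleCat.ofHom (T.subtype ∘ₗ eq.toLinearMap)) (C.homologyπ i) (by
        ext x
        obtain ⟨y, hy⟩ := (eq x).2
        show (C.homologyπ i).hom (eq x : C.cycles i) = 0
        rw [← hy]
        exact congrArg (fun φ => φ.hom y) (C.toCycles_comp_homologyπ (i + 1) i))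
  have hex : (ShortComplex.mk _ _ (C.toCycles_comp_homologyπ (i + 1) i)).Exact :=
    ShortComplex.exact_of_g_is_cokernel _ (C.homologyIsCokernel (i + 1) i (by simp))
  have hS : S.ShortExact :=
    { exact := by
        rw [ShortComplex.moduleCat_exact_iff] at hex ⊢
        intro x hx
        obtain ⟨y, hy⟩ := hex x hx
        refine ⟨eq.symm ⟨x, y, hy⟩, ?_⟩
        show (eq (eq.symm ⟨x, y, hy⟩) : C.cycles i) = x
        rw [LinearEquiv.apply_symm_apply]
      mono_f := (ModuleCat.mono_iff_injective _).mpr (Subtype.val_injective.comp eq.injective)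
      epi_g := inferInstanceAs (Epi (C.homologyπ i)) }
  refine LC.ext_subsingleton_X₃ hS _ 0 ?_ (depthGE_bnd C e hzero hdepth i habove i le_rfl 1 (by omega))
  refine LC.ext_zero_subsingleton_of_injective _ (C.iCycles i) ?_
  by_cases h : i ≤ e
  · exact hdepth i h 0 hi
  · exact depthGE_of_isZero 1 (hzero i (by omega)) 0 one_pos

end Groth.Agent.CAlgOdd.Acyclicity
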