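import Mathlib.CategoryTheory.Abelian.Projective.Resolution

/-!
# Comparison of a projective complex with a resolution
-/

universe v u

open CategoryTheory CategoryTheory.Limits Category HomologicalComplex

namespace Groth.Agent.CAlgOdd.Comparison

variable {C : Type u} [Category.{v} C] [Abelian C]
variable {M N : C} {F Q : ChainComplex C ℕ} (εQ : Q ⟶ (ChainComplex.single₀ C).obj N) [QuasiIso εQ]

include εQ in
theorem exact_succ (n : ℕ) : (ShortComplex.mk _ _ (Q.d_comp_d (n + 2) (n + 1) n)).Exact := by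
  have h : Q.ExactAt (n + 1) := by
    rw [← quasiIsoAt_iff_exactAt' εQ (n + 1) (ChainComplex.exactAt_succ_single_obj _ _)]
    infer_instance
  exact ((HomologicalComplex.exactAt_iff' _ (n + 2) (n + 1) n) (by simp only [ChainComplex.prev]; rfl)
    (by simp)).1 h

@[reassoc (attr := simp)]
theorem d_comp_aug : Q.d 1 0 ≫ εQ.f 0 = 0 := by
  rw [← εQ.comm 1 0, HomologicalComplex.single_obj_d, comp_zero]

set_option backward.isDefEq.respectTransparency.types false in
set_option backward.defeqAttrib.useBackward true in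
/-- The augmentation is a cokernel. -/
noncomputable def isColimitAug : IsColimit (CokernelCofork.ofπ _ (d_comp_aug εQ)) := by
  refine IsColimit.ofIsoColimit (Q.opcyclesIsCokernel 1 0 (by simp)) ?_
  refine Cofork.ext (Q.isoHomologyι₀.symm ≪≫ isoOfQuasiIsoAt εQ 0 ≪≫
    singleObjHomologySelfIso _ _ _) ?_
  rw [← cancel_mono (singleObjHomologySelfIso (ComplexShape.down ℕ) 0 _).inv,
    ← cancel_mono (ChainComplex.isoHomologyι₀ _).hom]
  dsimp
  simp only [ChainComplex.isoHomologyι₀_inv_naturality_assoc, p_opcyclesMap_assoc, ChainComplex.single₀_obj_zero,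
    assoc, Iso.hom_inv_id, comp_id, isoHomologyι_inv_hom_id, singleObjHomologySelfIso_inv_homologyι,
    singleObjOpcyclesSelfIso_hom, ChainComplex.single₀ObjXSelf, Iso.refl_inv, id_comp]

theorem epi_aug : Epi (εQ.f 0) := epi_of_isColimit_cofork (isColimitAug εQ)

theorem exact_aug : (ShortComplex.mk _ _ (d_comp_aug εQ)).Exact :=
  ShortComplex.exact_of_g_is_cokernel _ (isColimitAug εQ)

variable [∀ i, Projective (F.X i)] (εF : F ⟶ (ChainComplex.single₀ C).obj M) (g : M ⟶ N)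

theorem exists_lift : ∃ φ : F ⟶ Q, φ ≫ εQ = εF ≫ (ChainComplex.single₀ C).map g := by
  have := epi_aug εQ
  let f0 : F.X 0 ⟶ Q.X 0 := Projective.factorThru (εF.f 0 ≫ ((ChainComplex.single₀ C).map g).f 0) (εQ.f 0)
  have h0 : f0 ≫ εQ.f 0 = εF.f 0 ≫ ((ChainComplex.single₀ C).map g).f 0 := Projective.factorThru_comp _ _
  have hz : (F.d 1 0 ≫ f0) ≫ εQ.f 0 = 0 := by
    rw [assoc, h0, ← assoc, ← εF.comm 1 0, HomologicalComplex.single_obj_d, comp_zero, zero_comp]
  let f1 : F.X 1 ⟶ Q.X 1 := (exact_aug εQ).liftFromProjective (F.d 1 0 ≫ f0) hz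
  have h1 : f1 ≫ Q.d 1 0 = F.d 1 0 ≫ f0 := (exact_aug εQ).liftFromProjective_comp _ _
  refine ⟨ChainComplex.mkHom _ _ f0 f1 h1 fun n p =>
    ⟨(exact_succ εQ n).liftFromProjective (F.d (n + 2) (n + 1) ≫ p.2.1) (by simp [p.2.2]),
      (exact_succ εQ n).liftFromProjective_comp _ _⟩, ?_⟩
  ext
  simpa using h0

theorem exists_homotopy (α : F ⟶ Q) (hα : α ≫ εQ = 0) : Nonempty (Homotopy α 0) := by
  have hz : α.f 0 ≫ εQ.f 0 = 0 := by
    have := HomologicalComplex.congr_hom hα 0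
    simpa using this
  let s0 : F.X 0 ⟶ Q.X 1 := (exact_aug εQ).liftFromProjective (α.f 0) hz
  have h0 : s0 ≫ Q.d 1 0 = α.f 0 := (exact_aug εQ).liftFromProjective_comp _ _
  have hz1 : (α.f 1 - F.d 1 0 ≫ s0) ≫ Q.d 1 0 = 0 := by
    rw [Preadditive.sub_comp, assoc, HomologicalComplex.Hom.comm, h0, sub_self]
  let s1 : F.X 1 ⟶ Q.X 2 := (exact_succ εQ 0).liftFromProjective (α.f 1 - F.d 1 0 ≫ s0) hz1
  have h1 : s1 ≫ Q.d 2 1 = α.f 1 - F.d 1 0 ≫ s0 := (exact_succ εQ 0).liftFromProjective_comp _ _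
  refine ⟨Homotopy.mkInductive _ s0 (by simp [h0]) s1 (by simp [h1]) fun n p =>
    ⟨(exact_succ εQ (n + 1)).liftFromProjective (α.f (n + 2) - F.d _ _ ≫ p.2.1) (by simp [p.2.2]), ?_⟩⟩
  have := (exact_succ εQ (n + 1)).liftFromProjective_comp (α.f (n + 2) - F.d _ _ ≫ p.2.1) (by simp [p.2.2])
  rw [this]
  simp

end Groth.Agent.CAlgOdd.Comparison
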