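import Mathlib

/-!
# Iterated equalizer subalgebras of a finite algebra
-/

open TensorProduct

namespace Groth.Agent.CAlgOdd

universe u

variable {A B : Type u} [CommRing A] [CommRing B] [Algebra A B]

/-- If the equalizer is everything after localizing at `p`, the algebra is the base at `p`. -/
theorem exists_mul_mem_bot [IsNoetherianRing A] [Module.Finite A B] (C : Subalgebra A B) (p : Ideal A) [p.IsPrime]
    (h : ∀ b : C, ∃ s ∉ p, ((s • b) ⊗ₜ[A] (1 : C) : C ⊗[A] C) = (1 : C) ⊗ₜ[A] (s • b)) (b : C) :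
    ∃ s ∉ p, s • (b : B) ∈ (⊥ : Subalgebra A B) := by
  classical
  let k := p.ResidueField
  let ι : C →ₗ[A] k ⊗[A] C := TensorProduct.mk A k C 1
  -- every `1 ⊗ c` is a multiple of `1 ⊗ 1`
  have hspan : ∀ c : C, ι c ∈ Submodule.span k {ι 1} := by
    intro c
    by_contra hc
    obtain ⟨f, hfc, hf⟩ := Submodule.exists_dual_map_eq_bot_of_notMem hc inferInstance
    have hf1 : f (ι 1) = 0 := by
      have : f (ι 1) ∈ (Submodule.span k {ι 1}).map f := ⟨_, Submodule.mem_span_singleton_self _, rfl⟩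
      rwa [hf, Submodule.mem_bot] at this
    have h10 : ι 1 ∉ (⊥ : Submodule k (k ⊗[A] C)) := by
      intro h0
      rw [Submodule.mem_bot] at h0
      refine hc ?_
      have hc0 : ι c = (1 : k ⊗[A] C) * ι c := (one_mul _).symm
      rw [hc0, show (1 : k ⊗[A] C) = ι 1 from Algebra.TensorProduct.one_def, h0, zero_mul]
      exact zero_mem _
    obtain ⟨g, hg1, -⟩ := Submodule.exists_dual_map_eq_bot_of_notMem h10 inferInstance
    obtain ⟨s, hs, hsc⟩ := h c
    let Φ : C ⊗[A] C →ₗ[A] k := TensorProduct.lift (LinearMap.mk₂ A (fun x y => f (ι x) * g (ι y))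
      (fun x x' y => by simp [add_mul]) (fun a x y => by
        rw [map_smul, LinearMap.map_smul_of_tower, smul_mul_assoc])
      (fun x y y' => by simp [mul_add]) (fun a x y => by
        rw [map_smul, LinearMap.map_smul_of_tower, mul_smul_comm]))
    have h2 : f (ι (s • c)) * g (ι 1) = f (ι 1) * g (ι (s • c)) := congrArg Φ hsc
    rw [map_smul, LinearMap.map_smul_of_tower, hf1, zero_mul, smul_mul_assoc] at h2
    rw [Algebra.smul_def, mul_eq_zero] at h2
    rcases h2 with h2 | h2
    · exact hs (Ideal.algebraMap_residueField_eq_zero.1 h2)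
    · exact (mul_ne_zero hfc hg1) h2
  -- Nakayama
  let A₁ : Submodule A C := LinearMap.range (Algebra.linearMap A C)
  have : Module.Finite A C := Module.Finite.of_injective C.val.toLinearMap Subtype.val_injective
  have hsub : Subsingleton (k ⊗[A] (C ⧸ A₁)) := by
    let q : k ⊗[A] C →ₗ[k] k ⊗[A] (C ⧸ A₁) := A₁.mkQ.baseChange k
    have h1 : q (ι 1) = 0 := by
      show (1 : k) ⊗ₜ[A] A₁.mkQ (1 : C) = 0
      rw [show A₁.mkQ (1 : C) = 0 from (Submodule.Quotient.mk_eq_zero _).2 ⟨1, map_one (algebraMap A C)⟩, tmul_zero]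
    have hz : ∀ c, q (ι c) = 0 := fun c => by
      obtain ⟨z, hz⟩ := Submodule.mem_span_singleton.1 (hspan c)
      rw [← hz, map_smul, h1, smul_zero]
    refine subsingleton_of_forall_eq 0 fun x => ?_
    induction x with
    | zero => rfl
    | add x y hx hy => rw [hx, hy, add_zero]
    | tmul a m =>
      obtain ⟨c, rfl⟩ := A₁.mkQ_surjective m
      rw [show a ⊗ₜ[A] A₁.mkQ c = a • q (ι c) by
        show _ = a • ((1 : k) ⊗ₜ[A] A₁.mkQ c)
        rw [smul_tmul', smul_eq_mul, mul_one], hz, smul_zero]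
  have hp : (⟨p, inferInstance⟩ : PrimeSpectrum A) ∉ Module.support A (C ⧸ A₁) := fun hmem => by
    have := (Module.mem_support_iff_nontrivial_residueField_tensorProduct (R := A) (M := C ⧸ A₁) _).1 hmem
    exact not_nontrivial_iff_subsingleton.2 hsub this
  obtain ⟨s, hs, hsb⟩ := (Module.notMem_support_iff'.1 hp) (Submodule.Quotient.mk b)
  refine ⟨s, hs, ?_⟩
  rw [← Submodule.Quotient.mk_smul, Submodule.Quotient.mk_eq_zero] at hsb
  obtain ⟨a, ha⟩ := hsb
  exact ⟨a, congrArg Subtype.val ha⟩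

theorem exists_eq_bot [IsNoetherianRing A] [Module.Finite A B] (C : ℕ → Subalgebra A B)
    (hstep : ∀ (i : ℕ) (b : B), b ∈ C (i + 1) ↔ ∃ hb : b ∈ C i,
      ((⟨b, hb⟩ : C i) ⊗ₜ[A] (1 : C i) : C i ⊗[A] C i) = (1 : C i) ⊗ₜ[A] (⟨b, hb⟩ : C i)) :
    ∃ m : ℕ, C m = ⊥ := by
  classical
  let A₁ : Submodule A B := LinearMap.range (Algebra.linearMap A B)
  let D : ℕ → Submodule A (B ⧸ A₁) := fun i => (Subalgebra.toSubmodule (C i)).map A₁.mkQ
  have hanti : Antitone C := antitone_nat_of_succ_le fun i b hb => ((hstep i b).1 hb).1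
  have hDanti : Antitone D := fun i j hij => Submodule.map_mono (hanti hij)
  have hC : ∀ i b, b ∈ C i ↔ A₁.mkQ b ∈ D i := by
    intro i b
    refine ⟨fun hb => ⟨b, hb, rfl⟩, ?_⟩
    rintro ⟨c, hc, hcb⟩
    rw [Submodule.mkQ_apply, Submodule.mkQ_apply, Submodule.Quotient.eq] at hcb
    obtain ⟨a, ha⟩ := hcb
    have : b = c - algebraMap A B a := by
      rw [show algebraMap A B a = c - b from ha]; abel
    rw [this]
    exact sub_mem hc ((C i).algebraMap_mem a)
  -- the annihilators stabilise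
  obtain ⟨i₀, hi₀⟩ := monotone_stabilizes_iff_noetherian.2 (inferInstance : IsNoetherian A A)
    ⟨fun i => (D i).annihilator, fun i j hij => Submodule.annihilator_mono (hDanti hij)⟩
  by_cases hJ : (D i₀).annihilator = ⊤
  · refine ⟨i₀, eq_bot_iff.2 fun b hb => ?_⟩
    have h0 := (hC i₀ b).1 hb
    rw [Submodule.annihilator_eq_top_iff.1 hJ, Submodule.mem_bot, Submodule.mkQ_apply,
      Submodule.Quotient.mk_eq_zero] at h0
    obtain ⟨a, ha⟩ := h0
    exact ⟨a, ha⟩
  exfalso
  obtain ⟨m, hm, hle⟩ := Ideal.exists_le_maximal _ hJ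
  obtain ⟨p, hp, -⟩ := Ideal.exists_minimalPrimes_le hle
  have hpprime : p.IsPrime := hp.1.1
  let Ap := Localization.AtPrime p
  let f := LocalizedModule.mkLinearMap p.primeCompl (B ⧸ A₁)
  let L : ℕ → Submodule Ap (LocalizedModule p.primeCompl (B ⧸ A₁)) := fun i => (D i).localized' Ap p.primeCompl f
  have hLanti : Antitone L := fun i j hij x hx => by
    obtain ⟨d, hd, t, rfl⟩ := hx
    exact ⟨d, hDanti hij hd, t, rfl⟩
  -- the localization at `p` has finite length
  let I : Ideal Ap := ((D i₀).annihilator).map (algebraMap A Ap)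
  have hrad : I.radical = IsLocalRing.maximalIdeal Ap := by
    rw [IsLocalization.AtPrime.radical_map_of_mem_minimalPrimes Ap p _ hp]
    exact Localization.AtPrime.map_eq_maximalIdeal
  have hIne : I ≠ ⊤ := fun htop => (IsLocalRing.maximalIdeal.isMaximal Ap).ne_top (by rw [← hrad, htop, Ideal.radical_top])
  have : IsArtinianRing (Ap ⧸ I) := by
    rw [isArtinianRing_iff_krullDimLE_zero, Ring.krullDimLE_zero_iff]
    intro Q hQ
    have hQ' : (Q.comap (Ideal.Quotient.mk I)).IsPrime := Ideal.IsPrime.comap _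
    have hle' : IsLocalRing.maximalIdeal Ap ≤ Q.comap (Ideal.Quotient.mk I) := by
      rw [← hrad]
      exact hQ'.radical_le_iff.2 fun x hx => by simp [Ideal.Quotient.eq_zero_iff_mem.2 hx]
    have heq : Q.comap (Ideal.Quotient.mk I) = IsLocalRing.maximalIdeal Ap :=
      ((IsLocalRing.maximalIdeal.isMaximal Ap).eq_of_le hQ'.ne_top hle').symm
    rw [← Ideal.map_comap_of_surjective _ Ideal.Quotient.mk_surjective Q, heq]
    refine (Ideal.map_eq_top_or_isMaximal_of_surjective _ Ideal.Quotient.mk_surjective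
      (IsLocalRing.maximalIdeal.isMaximal Ap)).resolve_left fun htop => hQ.ne_top ?_
    rw [← Ideal.map_comap_of_surjective _ Ideal.Quotient.mk_surjective Q, heq, htop]
  have : IsArtinian Ap (Ap ⧸ I) := isArtinian_of_surjective_algebraMap (S := Ap) (R := Ap ⧸ I)
    Ideal.Quotient.mk_surjective
  have hkill : ∀ r ∈ I, ∀ x ∈ L i₀, r • x = 0 := by
    intro r hr x hx
    obtain ⟨d, hd, t, rfl⟩ := hx
    induction hr using Submodule.span_induction with
    | mem y hy =>
      obtain ⟨a, ha, rfl⟩ := hy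
      rw [algebraMap_smul, ← IsLocalizedModule.mk'_smul, Submodule.mem_annihilator.1 ha d hd, IsLocalizedModule.mk'_zero]
    | zero => rw [zero_smul]
    | add y z _ _ hy hz => rw [add_smul, hy, hz, add_zero]
    | smul y z _ hz => rw [smul_eq_mul, mul_smul, hz, smul_zero]
  have hDfg : (D i₀).FG := IsNoetherian.noetherian _
  obtain ⟨T, hT⟩ := hDfg
  have hTD : ∀ d : T, (d : B ⧸ A₁) ∈ D i₀ := fun d => hT ▸ Submodule.subset_span d.2
  let ψ : (T → Ap ⧸ I) →ₗ[Ap] LocalizedModule p.primeCompl (B ⧸ A₁) := LinearMap.lsum Ap _ Ap fun d =>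
    Submodule.liftQ I (LinearMap.toSpanSingleton Ap _ (f d)) fun r hr => by
      rw [LinearMap.mem_ker, LinearMap.toSpanSingleton_apply]
      exact hkill r hr _ ⟨d, hTD d, 1, IsLocalizedModule.mk'_one p.primeCompl f _⟩
  have hrange : L i₀ ≤ LinearMap.range ψ := by
    intro x hx
    obtain ⟨d, hd, t, rfl⟩ := hx
    have hfd : f d ∈ LinearMap.range ψ := by
      rw [← hT] at hd
      induction hd using Submodule.span_induction with
      | mem y hy =>
        refine ⟨Pi.single ⟨y, hy⟩ 1, ?_⟩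
        rw [LinearMap.lsum_piSingle]
        exact one_smul Ap (f y)
      | zero => rw [map_zero]; exact zero_mem _
      | add y z _ _ hy hz => rw [map_add]; exact add_mem hy hz
      | smul a y _ hy => rw [map_smul, ← algebraMap_smul Ap a]; exact Submodule.smul_mem _ _ hy
    have : IsLocalizedModule.mk' f d t = (IsLocalization.mk' Ap (1 : A) t) • f d := by
      rw [← IsLocalizedModule.mk'_one p.primeCompl f d, IsLocalizedModule.mk'_smul_mk', one_smul, mul_one]
    rw [this]
    exact Submodule.smul_mem _ _ hfd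
  have : IsArtinian Ap (LinearMap.range ψ) := isArtinian_range ψ
  have : IsArtinian Ap (L i₀) := isArtinian_of_le hrange
  -- the chain stabilises
  obtain ⟨n, hn⟩ := IsArtinian.monotone_stabilizes (R := Ap) (M := L i₀)
    ⟨fun i => OrderDual.toDual ((L (i₀ + i)).comap (L i₀).subtype), fun i j hij =>
      Submodule.comap_mono (hLanti (by omega))⟩
  have hstab : L (i₀ + n) ≤ L (i₀ + n + 1) := fun x hx => by
    have h1 := OrderDual.toDual.injective (hn (n + 1) (by omega))
    have h2 : (⟨x, hLanti (Nat.le_add_right _ _) hx⟩ : L i₀) ∈ (L (i₀ + n)).comap (L i₀).subtype := hx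
    rw [h1] at h2
    exact h2
  -- hence the equalizer is everything at `p`
  set j := i₀ + n
  have hlocal : ∀ b : C j, ∃ s ∉ p, ((s • b) ⊗ₜ[A] (1 : C j) : C j ⊗[A] C j) = (1 : C j) ⊗ₜ[A] (s • b) := by
    intro b
    obtain ⟨d, hd, t, hdt⟩ := hstab ⟨A₁.mkQ b, (hC j b).1 b.2, 1, IsLocalizedModule.mk'_one p.primeCompl f _⟩
    rw [IsLocalizedModule.mk'_eq_iff, ← LinearMap.map_smul_of_tower] at hdt
    obtain ⟨u, hu⟩ := (IsLocalizedModule.eq_iff_exists p.primeCompl f).1 hdt
    refine ⟨(u : A) * t, p.primeCompl.mul_mem u.2 t.2, ?_⟩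
    have hmem : ((u : A) * t) • (b : B) ∈ C (j + 1) := by
      rw [hC, map_smul, mul_smul]
      have : (u : A) • ((t : A) • A₁.mkQ (b : B)) = (u : A) • d := hu.symm
      rw [this]
      exact (D (j + 1)).smul_mem _ hd
    obtain ⟨_, h'⟩ := (hstep j _).1 hmem
    exact h'
  -- so `p` is outside the support
  have hnot : ¬ (D j).annihilator ≤ p := by
    obtain ⟨T', hT'⟩ : (D j).FG := IsNoetherian.noetherian _
    have hd' : ∀ d ∈ T', ∃ s ∉ p, s • d = 0 := by
      intro d hd
      have hdD : d ∈ D j := hT' ▸ Submodule.subset_span hd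
      obtain ⟨b, hb, rfl⟩ := hdD
      obtain ⟨s, hs, hsb⟩ := exists_mul_mem_bot (C j) p hlocal ⟨b, hb⟩
      obtain ⟨a, ha⟩ := hsb
      refine ⟨s, hs, ?_⟩
      rw [← map_smul, Submodule.mkQ_apply, Submodule.Quotient.mk_eq_zero]
      exact ⟨a, ha⟩
    choose! s hs hsd using hd'
    intro hle'
    have hmem : ∏ d ∈ T', s d ∈ (D j).annihilator := by
      rw [← hT', Submodule.mem_annihilator_span]
      rintro ⟨d, hd⟩
      rw [← Finset.prod_erase_mul _ _ (show d ∈ T' from hd), mul_smul, hsd d hd, smul_zero]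
    obtain ⟨d, hd, hd'⟩ := (hpprime.prod_mem_iff).1 (hle' hmem)
    exact hs d hd hd'
  exact hnot ((le_of_eq (hi₀ j (Nat.le_add_right _ _)).symm).trans hp.1.2)

end Groth.Agent.CAlgOdd
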