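import Mathlib.Algebra.Category.ModuleCat.Colimits
import Mathlib.CategoryTheory.Limits.Types.Filtered
import Mathlib.CategoryTheory.Limits.Preserves.Basic
import Mathlib.Algebra.Module.FinitePresentation
import Mathlib.Algebra.Category.ModuleCat.Basic
import Mathlib.CategoryTheory.Limits.Yoneda

/-!
# Quotients by finitely generated submodules as a filtered diagram
-/

universe u

open CategoryTheory CategoryTheory.Limits

namespace Groth.Agent.CAlgOdd

variable {R : Type u} [CommRing R] {F : Type u} [AddCommGroup F] [Module R F] (K : Submodule R F)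

/-- Finitely generated submodules below `K`. -/
abbrev FGBelow : Type u := {L : Submodule R F // L.FG ∧ L ≤ K}

instance : Nonempty (FGBelow K) := ⟨⟨⊥, Submodule.fg_bot, bot_le⟩⟩

instance : IsDirectedOrder (FGBelow K) :=
  ⟨fun a b => ⟨⟨a.1 ⊔ b.1, a.2.1.sup b.2.1, sup_le a.2.2 b.2.2⟩, show a.1 ≤ _ from le_sup_left, show b.1 ≤ _ from le_sup_right⟩⟩

/-- The diagram `L ↦ F ⧸ L`. -/
noncomputable def quotDiagram : FGBelow K ⥤ ModuleCat.{u} R where
  obj L := ModuleCat.of R (F ⧸ L.1)
  map {a b} h := ModuleCat.ofHom (Submodule.factor (show a.1 ≤ b.1 from leOfHom h))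
  map_id a := by
    ext x
    rfl
  map_comp f g := by
    ext x
    rfl

/-- The map to the colimit of the quotients. -/
noncomputable def toColim : F →ₗ[R] (colimit (quotDiagram K) : ModuleCat.{u} R) :=
  (colimit.ι (quotDiagram K) (⟨⊥, Submodule.fg_bot, bot_le⟩ : FGBelow K)).hom ∘ₗ (⊥ : Submodule R F).mkQ

theorem ι_mk (L : FGBelow K) (x : F) :
    (colimit.ι (quotDiagram K) L).hom (Submodule.Quotient.mk x : F ⧸ L.1) = toColim K x := by
  let b : FGBelow K := ⟨⊥, Submodule.fg_bot, bot_le⟩
  have h : b ≤ L := (bot_le : (⊥ : Submodule R F) ≤ L.1)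
  have := congrArg (fun φ => φ.hom (Submodule.Quotient.mk x : F ⧸ b.1)) (colimit.w (quotDiagram K) (homOfLE h))
  exact this

theorem le_ker_toColim : K ≤ LinearMap.ker (toColim K) := by
  intro x hx
  let L : FGBelow K := ⟨Submodule.span R {x}, Submodule.fg_span_singleton x,
    (Submodule.span_singleton_le_iff_mem _ _).mpr hx⟩
  rw [LinearMap.mem_ker, ← ι_mk K L x, (Submodule.Quotient.mk_eq_zero _).mpr (Submodule.mem_span_singleton_self x)]
  exact map_zero _

variable {N : Type u} [AddCommGroup N] [Module R N]

/-- The comparison map on representatives. -/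
theorem post_ι (L : FGBelow K) (f : ModuleCat.of R N ⟶ (quotDiagram K).obj L) :
    colimit.post (quotDiagram K) (coyoneda.obj (Opposite.op (ModuleCat.of R N)))
      (colimit.ι (quotDiagram K ⋙ coyoneda.obj (Opposite.op (ModuleCat.of R N))) L f) =
      f ≫ colimit.ι (quotDiagram K) L := by
  rw [← ConcreteCategory.comp_apply, colimit.ι_post]
  rfl

/-- If the comparison map is injective then an injection into the quotients identifies early. -/
theorem finite_of_injective
    (h : Function.Injective (colimit.post (quotDiagram (⊤ : Submodule R N))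
      (coyoneda.obj (Opposite.op (ModuleCat.of R N))))) : Module.Finite R N := by
  let G := quotDiagram (⊤ : Submodule R N) ⋙ coyoneda.obj (Opposite.op (ModuleCat.of R N))
  let b : FGBelow (⊤ : Submodule R N) := ⟨⊥, Submodule.fg_bot, bot_le⟩
  let f : ModuleCat.of R N ⟶ (quotDiagram (⊤ : Submodule R N)).obj b := ModuleCat.ofHom (Submodule.mkQ ⊥)
  have h0 : f ≫ colimit.ι (quotDiagram (⊤ : Submodule R N)) b =
      (0 : ModuleCat.of R N ⟶ (quotDiagram (⊤ : Submodule R N)).obj b) ≫ colimit.ι (quotDiagram (⊤ : Submodule R N)) b := by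
    rw [zero_comp]
    ext x
    exact LinearMap.mem_ker.mp (le_ker_toColim (⊤ : Submodule R N) (Submodule.mem_top (x := x)))
  have h1 : colimit.ι G b f = colimit.ι G b (0 : ModuleCat.of R N ⟶ (quotDiagram (⊤ : Submodule R N)).obj b) :=
    h (by rw [post_ι, post_ι, h0])
  obtain ⟨k, u, v, huv⟩ := (Types.FilteredColimit.colimit_eq_iff (F := G)).mp h1
  have hk : k.1 = ⊤ := by
    rw [eq_top_iff]
    intro x _
    have := congrArg (fun φ : ModuleCat.of R N ⟶ (quotDiagram (⊤ : Submodule R N)).obj k => φ.hom x) huv
    refine (Submodule.Quotient.mk_eq_zero k.1).mp (this.trans ?_)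
    show (((0 : ModuleCat.of R N ⟶ (quotDiagram (⊤ : Submodule R N)).obj b) ≫
      (quotDiagram (⊤ : Submodule R N)).map v).hom x : _) = 0
    rw [zero_comp]
    rfl
  exact ⟨hk ▸ k.2.1⟩

/-- If the comparison map is surjective then a quotient by a finitely generated submodule splits. -/
theorem finitePresentation_of_surjective [Module.Free R F] [Module.Finite R F] (π : F →ₗ[R] N)
    (hπ : Function.Surjective π)
    (h : Function.Surjective (colimit.post (quotDiagram (LinearMap.ker π))
      (coyoneda.obj (Opposite.op (ModuleCat.of R N))))) : Module.FinitePresentation R N := by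
  set K := LinearMap.ker π
  let φ : N →ₗ[R] (colimit (quotDiagram K) : ModuleCat.{u} R) :=
    K.liftQ (toColim K) (le_ker_toColim K) ∘ₗ (LinearMap.quotKerEquivOfSurjective π hπ).symm.toLinearMap
  have hφ : ∀ x, φ (π x) = toColim K x := by
    intro x
    have : (LinearMap.quotKerEquivOfSurjective π hπ).symm (π x) = Submodule.Quotient.mk x := by
      rw [LinearEquiv.symm_apply_eq]; rfl
    simp only [φ, LinearMap.comp_apply, LinearEquiv.coe_coe, this, Submodule.liftQ_apply]
  obtain ⟨z, hz⟩ := h (ModuleCat.ofHom φ)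
  obtain ⟨L, s, rfl⟩ := Types.jointly_surjective' z
  rw [post_ι] at hz
  let co : Cocone (quotDiagram K) :=
    { pt := ModuleCat.of R N
      ι := { app := fun M => ModuleCat.ofHom (M.1.liftQ π M.2.2)
             naturality := fun a b f => by
              apply ModuleCat.hom_ext
              apply Submodule.linearMap_qext
              ext x
              rfl } }
  let πL : (F ⧸ L.1) →ₗ[R] N := L.1.liftQ π L.2.2
  have hs : ∀ y, πL (s.hom y) = y := by
    intro y
    obtain ⟨x, rfl⟩ := hπ y
    have h1 := congrArg (fun ψ : ModuleCat.of R N ⟶ colimit (quotDiagram K) =>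
      (colimit.desc (quotDiagram K) co).hom (ψ.hom (π x))) hz
    simp only [ModuleCat.hom_comp, LinearMap.comp_apply] at h1
    have h2 := congrArg (fun ψ => ψ.hom (s.hom (π x))) (colimit.ι_desc co L)
    refine h2.symm.trans (h1.trans ?_)
    show (colimit.desc (quotDiagram K) co).hom (φ (π x)) = π x
    rw [hφ, toColim]
    exact congrArg (fun ψ => ψ.hom (Submodule.Quotient.mk x)) (colimit.ι_desc co ⟨⊥, Submodule.fg_bot, bot_le⟩)
  have : Module.FinitePresentation R F := Module.finitePresentation_of_projective R F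
  have : Module.FinitePresentation R (F ⧸ L.1) :=
    Module.finitePresentation_of_surjective L.1.mkQ L.1.mkQ_surjective (by rw [Submodule.ker_mkQ]; exact L.2.1)
  refine Module.finitePresentation_of_surjective πL (fun y => ⟨_, hs y⟩) ?_
  let s' : N →ₗ[R] (F ⧸ L.1) := s.hom
  have hs' : ∀ y : N, πL (s' y) = y := hs
  have : LinearMap.ker πL = LinearMap.range (LinearMap.id - s' ∘ₗ πL) := by
    apply le_antisymm
    · intro v hv
      exact ⟨v, by simp [LinearMap.mem_ker.mp hv]⟩
    · rintro _ ⟨v, rfl⟩
      simp [hs']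
  rw [this, LinearMap.range_eq_map]
  exact Submodule.FG.map _ Module.Finite.fg_top

end Groth.Agent.CAlgOdd
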