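import Mathlib.RingTheory.LocalRing.Module
import Mathlib.RingTheory.Support
import Mathlib.RingTheory.Localization.Finiteness
import Mathlib.RingTheory.LocalProperties.Projective
import Mathlib.RingTheory.OrzechProperty
import Mathlib.RingTheory.Spectrum.Prime.Topology
import Mathlib.RingTheory.Spectrum.Prime.Module
import Mathlib.Algebra.Module.LocalizedModule.Exact

/-!
# Loci where the fibre of a linear map is surjective or injective
-/

universe u

open scoped TensorProduct

namespace Groth.Agent.CAlgOdd

variable {R : Type u} [CommRing R] {M N : Type u} [AddCommGroup M] [Module R M] [AddCommGroup N] [Module R N]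

/-- A localized map is surjective when every element is in the range up to a denominator. -/
theorem map_surjective_iff (S : Submonoid R) (φ : M →ₗ[R] N) :
    Function.Surjective (LocalizedModule.map S φ) ↔
      Subsingleton (LocalizedModule S (N ⧸ LinearMap.range φ)) := by
  rw [LocalizedModule.subsingleton_iff]
  constructor
  · intro h q
    obtain ⟨y, rfl⟩ := Submodule.mkQ_surjective _ q
    obtain ⟨z, hz⟩ := h (LocalizedModule.mk y 1)
    induction z using LocalizedModule.induction_on with
    | h m s =>
      rw [LocalizedModule.map_mk, LocalizedModule.mk_eq] at hz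
      obtain ⟨c, hc⟩ := hz
      refine ⟨(c : R) * s, S.mul_mem c.2 s.2, ?_⟩
      rw [← map_smul, Submodule.mkQ_apply, Submodule.Quotient.mk_eq_zero]
      exact ⟨(c : R) • m, by rw [map_smul, mul_smul]; simpa [Submonoid.smul_def] using hc⟩
  · intro h z
    induction z using LocalizedModule.induction_on with
    | h y s =>
      obtain ⟨r, hr, hr0⟩ := h (Submodule.Quotient.mk y)
      rw [← Submodule.Quotient.mk_smul, Submodule.Quotient.mk_eq_zero] at hr0
      obtain ⟨m, hm⟩ := hr0
      refine ⟨LocalizedModule.mk m (⟨r, hr⟩ * s), ?_⟩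
      rw [LocalizedModule.map_mk, hm, ← LocalizedModule.mk_cancel_common_left ⟨r, hr⟩ s y]
      rfl

variable [Module.Finite R N] (φ : M →ₗ[R] N)

theorem map_atPrime_surjective_iff (p : PrimeSpectrum R) :
    Function.Surjective (LocalizedModule.map p.asIdeal.primeCompl φ) ↔
      p ∉ Module.support R (N ⧸ LinearMap.range φ) := by
  rw [map_surjective_iff, Module.notMem_support_iff]

theorem lTensor_residueField_surjective_iff (p : PrimeSpectrum R) :
    Function.Surjective (φ.lTensor p.asIdeal.ResidueField) ↔
      p ∉ Module.support R (N ⧸ LinearMap.range φ) := by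
  have hex := lTensor_exact p.asIdeal.ResidueField φ.exact_map_mkQ_range (Submodule.mkQ_surjective _)
  have hq := LinearMap.lTensor_surjective p.asIdeal.ResidueField (Submodule.mkQ_surjective (LinearMap.range φ))
  rw [Module.mem_support_iff_nontrivial_residueField_tensorProduct, not_nontrivial_iff_subsingleton]
  constructor
  · intro h
    refine subsingleton_of_forall_eq 0 fun z => ?_
    obtain ⟨w, rfl⟩ := hq z
    obtain ⟨v, rfl⟩ := h w
    exact hex.apply_apply_eq_zero v
  · intro h z
    exact (hex z).mp (Subsingleton.elim _ _)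

theorem setOf_lTensor_surjective_isOpen :
    IsOpen {p : PrimeSpectrum R | Function.Surjective (φ.lTensor p.asIdeal.ResidueField)} := by
  simp only [lTensor_residueField_surjective_iff]
  exact Module.isClosed_support.isOpen_compl

theorem map_away_surjective (f : R)
    (hf : (↑(PrimeSpectrum.basicOpen f) : Set (PrimeSpectrum R)) ⊆
      {p | p ∉ Module.support R (N ⧸ LinearMap.range φ)}) :
    Function.Surjective (LocalizedModule.map (Submonoid.powers f) φ) := by
  rw [map_surjective_iff]
  refine LocalizedModule.subsingleton_iff_support_subset.mpr fun p hp => ?_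
  by_contra h
  exact hf (by simpa using h) hp

omit [Module.Finite R N]

/-- The kernel of a surjection of modules with projective target is a finite projective module. -/
theorem finite_projective_of_split {A P : Type u} [AddCommGroup A] [Module R A] [AddCommGroup P]
    [Module R P] [Module.Finite R P] [Module.Projective R P]
    (i : A →ₗ[R] P) (r : P →ₗ[R] A) (h : r ∘ₗ i = LinearMap.id) :
    Module.Finite R A ∧ Module.Projective R A :=
  ⟨Module.Finite.of_surjective r fun a => ⟨i a, LinearMap.congr_fun h a⟩, Module.Projective.of_split i r h⟩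

theorem ker_of_surjective {A P Q : Type u} [AddCommGroup A] [Module R A] [AddCommGroup P]
    [Module R P] [AddCommGroup Q] [Module R Q] [Module.Finite R P] [Module.Projective R P]
    [Module.Projective R Q] (i : A →ₗ[R] P) (g : P →ₗ[R] Q) (hi : Function.Injective i)
    (hg : Function.Surjective g) (hex : Function.Exact i g) :
    Module.Finite R A ∧ Module.Projective R A := by
  obtain ⟨s, hs⟩ := Module.projective_lifting_property g LinearMap.id hg
  have ht := (hex.split_tfae hi hg).out 0 1
  obtain ⟨r, hr⟩ := ht.mp ⟨s, hs⟩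
  exact finite_projective_of_split i r hr

theorem coker_of_retraction {A P Q : Type u} [AddCommGroup A] [Module R A] [AddCommGroup P]
    [Module R P] [AddCommGroup Q] [Module R Q] [Module.Finite R P] [Module.Projective R P]
    (i : A →ₗ[R] P) (g : P →ₗ[R] Q) (r : P →ₗ[R] A) (hr : r ∘ₗ i = LinearMap.id)
    (hg : Function.Surjective g) (hex : Function.Exact i g) :
    Module.Finite R Q ∧ Module.Projective R Q := by
  have hi : Function.Injective i := Function.LeftInverse.injective (g := r) (LinearMap.congr_fun hr)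
  have ht := (hex.split_tfae hi hg).out 1 0
  obtain ⟨s, hs⟩ := ht.mp ⟨r, hr⟩
  exact ⟨Module.Finite.of_surjective g hg, Module.Projective.of_split s g hs⟩

variable {P₁ P₂ : Type u} [AddCommGroup P₁] [Module R P₁] [AddCommGroup P₂] [Module R P₂]

theorem kerMapAway (φ : P₁ →ₗ[R] P₂) [Module.Finite R P₁] [Module.Projective R P₁]
    [Module.Projective R P₂] (S : Submonoid R)
    (h : Function.Surjective (LocalizedModule.map S φ)) :
    Module.Finite (Localization S) (LocalizedModule S (LinearMap.ker φ)) ∧
      Module.Projective (Localization S) (LocalizedModule S (LinearMap.ker φ)) := by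
  have : Module.Finite (Localization S) (LocalizedModule S P₁) :=
    Module.Finite.of_isLocalizedModule S (LocalizedModule.mkLinearMap S P₁)
  exact ker_of_surjective (LocalizedModule.map S (LinearMap.ker φ).subtype) (LocalizedModule.map S φ)
    (LocalizedModule.map_injective S _ Subtype.val_injective) h
    (LocalizedModule.map_exact S _ _ (LinearMap.exact_subtype_ker_map φ))

theorem map_retraction (φ : P₁ →ₗ[R] P₂) (r : P₂ →ₗ[R] P₁) (S : Submonoid R) (s : S)
    (h : r ∘ₗ φ = (s : R) • LinearMap.id) :
    ((Localization.mk 1 s : Localization S) • LocalizedModule.map S r) ∘ₗ LocalizedModule.map S φ =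
      LinearMap.id := by
  ext z
  induction z using LocalizedModule.induction_on with
  | h m t =>
    simp only [LinearMap.comp_apply, LinearMap.smul_apply, LocalizedModule.map_mk, LinearMap.id_apply]
    rw [show r (φ m) = (s : R) • m from LinearMap.congr_fun h m, LocalizedModule.mk_smul_mk, one_smul]
    exact LocalizedModule.mk_cancel_common_left s t m

theorem cokerMapAway (φ : P₁ →ₗ[R] P₂) [Module.Finite R P₂] [Module.Projective R P₂] (S : Submonoid R)
    (r : P₂ →ₗ[R] P₁) (s : S) (h : r ∘ₗ φ = (s : R) • LinearMap.id) :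
    Function.Injective (LocalizedModule.map S φ) ∧
    Module.Finite (Localization S) (LocalizedModule S (P₂ ⧸ LinearMap.range φ)) ∧
      Module.Projective (Localization S) (LocalizedModule S (P₂ ⧸ LinearMap.range φ)) := by
  have : Module.Finite (Localization S) (LocalizedModule S P₂) :=
    Module.Finite.of_isLocalizedModule S (LocalizedModule.mkLinearMap S P₂)
  have hr := map_retraction φ r S s h
  exact ⟨Function.LeftInverse.injective (g := ((Localization.mk 1 s : Localization S) • LocalizedModule.map S r :)) (LinearMap.congr_fun hr),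
    coker_of_retraction (LocalizedModule.map S φ) (LocalizedModule.map S (LinearMap.range φ).mkQ) _ hr
      (LocalizedModule.map_surjective S _ (Submodule.mkQ_surjective _))
      (LocalizedModule.map_exact S _ _ φ.exact_map_mkQ_range)⟩

/-- Scalars `a` such that `a • id` has a factorization through `φ`. -/
def splitIdeal (φ : P₁ →ₗ[R] P₂) : Ideal R where
  carrier := {a | ∃ r : P₂ →ₗ[R] P₁, r ∘ₗ φ = a • LinearMap.id}
  add_mem' := fun ⟨r, hr⟩ ⟨r', hr'⟩ => ⟨r + r', by rw [LinearMap.add_comp, hr, hr', add_smul]⟩
  zero_mem' := ⟨0, by rw [LinearMap.zero_comp, zero_smul]⟩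
  smul_mem' := fun c _ ⟨r, hr⟩ => ⟨c • r, by rw [LinearMap.smul_comp, hr, smul_smul, smul_eq_mul]⟩

theorem exists_smul_eq_one_tmul (p : PrimeSpectrum R) (z : p.asIdeal.ResidueField ⊗[R] M) :
    ∃ d, d ∉ p.asIdeal ∧ ∃ x : M, d • z = (1 : p.asIdeal.ResidueField) ⊗ₜ[R] x := by
  induction z using TensorProduct.induction_on with
  | zero => exact ⟨1, p.isPrime.one_notMem, 0, by simp⟩
  | tmul c m =>
    obtain ⟨l, rfl⟩ := IsLocalRing.residue_surjective c
    obtain ⟨⟨a, t⟩, hat⟩ := IsLocalization.surj p.asIdeal.primeCompl l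
    refine ⟨t, t.2, a • m, ?_⟩
    rw [TensorProduct.smul_tmul', TensorProduct.tmul_smul, TensorProduct.smul_tmul', Algebra.smul_def,
      Algebra.smul_def, mul_one, IsScalarTower.algebraMap_apply R (Localization.AtPrime p.asIdeal)
      p.asIdeal.ResidueField, IsScalarTower.algebraMap_apply R (Localization.AtPrime p.asIdeal)
      p.asIdeal.ResidueField a, IsLocalRing.ResidueField.algebraMap_eq, ← map_mul, mul_comm, hat]
  | add a b ha hb =>
    obtain ⟨d, hd, x, hx⟩ := ha
    obtain ⟨e, he, y, hy⟩ := hb
    refine ⟨d * e, fun h => (p.isPrime.mem_or_mem h).elim hd he, e • x + d • y, ?_⟩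
    rw [smul_add, TensorProduct.tmul_add, TensorProduct.tmul_smul, TensorProduct.tmul_smul, ← hx, ← hy,
      smul_smul, smul_smul, mul_comm e d]

theorem not_splitIdeal_le (φ : P₁ →ₗ[R] P₂) [Module.Finite R P₁] [Module.Projective R P₁]
    [Module.Finite R P₂] [Module.Projective R P₂] (p : PrimeSpectrum R)
    (h : Function.Injective (φ.lTensor p.asIdeal.ResidueField)) : ¬ splitIdeal φ ≤ p.asIdeal := by
  classical
  obtain ⟨l, hl⟩ := LinearMap.exists_leftInverse_of_injective (φ.baseChange p.asIdeal.ResidueField)
    (LinearMap.ker_eq_bot.mpr h)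
  obtain ⟨n, π, s, hπ, -, hπs⟩ := Module.Finite.exists_comp_eq_id_of_projective R P₂
  choose d hd x hx using fun i : Fin n =>
    exists_smul_eq_one_tmul p (l ((1 : p.asIdeal.ResidueField) ⊗ₜ[R] π (Pi.single i 1)))
  let D : R := ∏ i, d i
  have hD : D ∉ p.asIdeal := (Submonoid.prod_mem p.asIdeal.primeCompl fun i _ => hd i)
  let r : P₂ →ₗ[R] P₁ :=
    Fintype.linearCombination R (fun i => (∏ j ∈ Finset.univ.erase i, d j) • x i) ∘ₗ s
  have hr : ∀ y : P₂, (1 : p.asIdeal.ResidueField) ⊗ₜ[R] r y =
      D • l ((1 : p.asIdeal.ResidueField) ⊗ₜ[R] y) := by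
    intro y
    conv_rhs => rw [← LinearMap.id_apply (R := R) (M := P₂) y, ← hπs, LinearMap.comp_apply, pi_eq_sum_univ' (s y)]
    simp only [r, LinearMap.comp_apply, Fintype.linearCombination_apply, map_sum, map_smul, TensorProduct.tmul_sum,
      TensorProduct.tmul_smul, LinearMap.map_smul_of_tower, Finset.smul_sum, ← hx]
    refine Finset.sum_congr rfl fun i _ => ?_
    rw [smul_smul (∏ j ∈ _, d j) (d i), Finset.prod_erase_mul _ _ (Finset.mem_univ i)]
    exact smul_comm _ _ _
  let g : P₁ →ₗ[R] P₁ := r ∘ₗ φ
  have hg : ∀ y : P₁, (1 : p.asIdeal.ResidueField) ⊗ₜ[R] g y = D • ((1 : p.asIdeal.ResidueField) ⊗ₜ[R] y) := by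
    intro y
    simp only [g, LinearMap.comp_apply, hr]
    exact congrArg (D • ·) (LinearMap.congr_fun hl ((1 : p.asIdeal.ResidueField) ⊗ₜ[R] y))
  have hgs : Function.Surjective (g.lTensor p.asIdeal.ResidueField) := by
    intro z
    induction z using TensorProduct.induction_on with
    | zero => exact ⟨0, map_zero _⟩
    | tmul c y =>
      refine ⟨(c * (algebraMap R p.asIdeal.ResidueField D)⁻¹) ⊗ₜ[R] y, ?_⟩
      have h0 : algebraMap R p.asIdeal.ResidueField D ≠ 0 := fun h0 => hD (Ideal.algebraMap_residueField_eq_zero.mp h0)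
      calc g.lTensor p.asIdeal.ResidueField ((c * (algebraMap R p.asIdeal.ResidueField D)⁻¹) ⊗ₜ[R] y)
          = (c * (algebraMap R p.asIdeal.ResidueField D)⁻¹) • ((1 : p.asIdeal.ResidueField) ⊗ₜ[R] g y) := by
            rw [TensorProduct.smul_tmul', smul_eq_mul, mul_one, LinearMap.lTensor_tmul]
        _ = c ⊗ₜ[R] y := by
            rw [hg, TensorProduct.smul_tmul', TensorProduct.smul_tmul', smul_eq_mul, Algebra.smul_def, mul_one,
              inv_mul_cancel_right₀ h0]
    | add a b ha hb =>
      obtain ⟨a', ha'⟩ := ha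
      obtain ⟨b', hb'⟩ := hb
      exact ⟨a' + b', by rw [map_add, ha', hb']⟩
  have hsurj := (map_atPrime_surjective_iff g p).mpr ((lTensor_residueField_surjective_iff g p).mp hgs)
  have hne := (lTensor_residueField_surjective_iff g p).mp hgs
  obtain ⟨a, ha, hag⟩ : ∃ a ∉ p.asIdeal, ∀ y : P₁, a • y ∈ LinearMap.range g := by
    rw [Module.support_eq_zeroLocus, PrimeSpectrum.mem_zeroLocus, SetLike.coe_subset_coe,
      SetLike.not_le_iff_exists] at hne
    obtain ⟨a, ha1, ha2⟩ := hne
    refine ⟨a, ha2, fun y => ?_⟩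
    rw [← Submodule.Quotient.mk_eq_zero (LinearMap.range g), Submodule.Quotient.mk_smul]
    exact Module.mem_annihilator.mp ha1 _
  obtain ⟨h', hh'⟩ := Module.projective_lifting_property g.rangeRestrict
    ((a • LinearMap.id : P₁ →ₗ[R] P₁).codRestrict (LinearMap.range g) hag) g.surjective_rangeRestrict
  have hh : ∀ y, g (h' y) = a • y := fun y => congrArg Subtype.val (LinearMap.congr_fun hh' y)
  have : Module.Finite (Localization.AtPrime p.asIdeal) (LocalizedModule p.asIdeal.primeCompl P₁) :=
    Module.Finite.of_isLocalizedModule p.asIdeal.primeCompl (LocalizedModule.mkLinearMap _ P₁)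
  have hinj := OrzechProperty.injective_of_surjective_endomorphism _ hsurj
  have hkill : ∀ y : P₁, ∃ b ∈ p.asIdeal.primeCompl, b • (h' (g y) - a • y) = 0 := by
    intro y
    have h0 : g (h' (g y) - a • y) = 0 := by rw [map_sub, map_smul, hh, sub_self]
    have h1 : LocalizedModule.mk (h' (g y) - a • y) (1 : p.asIdeal.primeCompl) = 0 :=
      hinj (by rw [LocalizedModule.map_mk, h0, map_zero]; simp)
    obtain ⟨b, hb⟩ := (IsLocalizedModule.eq_zero_iff p.asIdeal.primeCompl
      (LocalizedModule.mkLinearMap p.asIdeal.primeCompl P₁)).mp h1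
    exact ⟨b, b.2, hb⟩
  choose b hb hb0 using hkill
  obtain ⟨t, ht⟩ := Module.Finite.fg_top (R := R) (M := P₁)
  let B : R := ∏ y ∈ t, b y
  intro hle
  have hmem : B * a ∈ splitIdeal φ := by
    refine ⟨B • (h' ∘ₗ r), ?_⟩
    refine LinearMap.ext_on ht fun y hy => ?_
    simp only [LinearMap.comp_apply, LinearMap.smul_apply, LinearMap.id_apply, mul_smul, ← sub_eq_zero (a := B • _),
      ← smul_sub]
    rw [sub_zero]
    show (∏ y ∈ t, b y) • (h' (g y) - a • y) = 0
    rw [← Finset.prod_erase_mul t b hy, mul_smul, hb0, smul_zero]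
  rcases p.isPrime.mem_or_mem (hle hmem) with h1 | h1
  · exact (Submonoid.prod_mem p.asIdeal.primeCompl fun y _ => hb y) h1
  · exact ha h1

theorem lTensor_injective_of_not_splitIdeal_le (φ : P₁ →ₗ[R] P₂) (p : PrimeSpectrum R)
    (h : ¬ splitIdeal φ ≤ p.asIdeal) : Function.Injective (φ.lTensor p.asIdeal.ResidueField) := by
  obtain ⟨a, ⟨r, hr⟩, ha⟩ := SetLike.not_le_iff_exists.mp h
  have key : ∀ z, r.lTensor p.asIdeal.ResidueField (φ.lTensor p.asIdeal.ResidueField z) = a • z := by
    intro z
    rw [← LinearMap.comp_apply, ← LinearMap.lTensor_comp, hr, LinearMap.lTensor_smul, LinearMap.lTensor_id]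
    rfl
  intro z w hzw
  have h1 := (key z).symm.trans ((congrArg _ hzw).trans (key w))
  rw [← algebraMap_smul p.asIdeal.ResidueField a z, ← algebraMap_smul p.asIdeal.ResidueField a w] at h1
  exact (IsUnit.mk0 _ (mt Ideal.algebraMap_residueField_eq_zero.mp ha)).smul_left_cancel.mp h1

end Groth.Agent.CAlgOdd
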