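import Groth.Agent.NodeTor.Basic
import Mathlib

/-!
# Resolutions by finite free modules
-/

universe u

open CategoryTheory

namespace Groth.Agent.CAlgOdd.FiniteResolution

variable (R : Type u) [CommRing R] [IsNoetherianRing R]

/-- The number of generators used to cover a submodule of a finite free module. -/
noncomputable def rk {k : ℕ} (N : Submodule R (Fin k → R)) : ℕ :=
  (Module.Finite.exists_fin' R N).choose

/-- A cover of a submodule of a finite free module. -/
noncomputable def cover {k : ℕ} (N : Submodule R (Fin k → R)) : (Fin (rk R N) → R) →ₗ[R] N :=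
  (Module.Finite.exists_fin' R N).choose_spec.choose

theorem cover_surjective {k : ℕ} (N : Submodule R (Fin k → R)) : Function.Surjective (cover R N) :=
  (Module.Finite.exists_fin' R N).choose_spec.choose_spec

/-- The iterated syzygies. -/
noncomputable def syz {k : ℕ} (N : Submodule R (Fin k → R)) : ℕ → Σ m : ℕ, Submodule R (Fin m → R)
  | 0 => ⟨k, N⟩
  | n + 1 => ⟨rk R (syz N n).2, LinearMap.ker (cover R (syz N n).2)⟩

theorem exists_projectiveResolution (M : Type u) [AddCommGroup M] [Module R M] [Module.Finite R M] :
    ∃ F : ProjectiveResolution (ModuleCat.of R M), ∀ n : ℕ,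
      Module.Finite R (F.complex.X n) ∧ Module.Free R (F.complex.X n) := by
  obtain ⟨k, p, hp⟩ := Module.Finite.exists_fin' R M
  let K := syz R (LinearMap.ker p)
  let X : ℕ → ModuleCat.{u} R := fun n => ModuleCat.of R (Fin (K n).1 → R)
  let d : ∀ n, X (n + 1) ⟶ X n := fun n => ModuleCat.ofHom ((K n).2.subtype ∘ₗ cover R (K n).2)
  have hrange : ∀ n, LinearMap.range (d n).hom = (K n).2 := fun n => by
    show LinearMap.range ((K n).2.subtype ∘ₗ cover R (K n).2) = _
    rw [LinearMap.range_comp, LinearMap.range_eq_top.2 (cover_surjective R _), Submodule.map_top,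
      Submodule.range_subtype]
  have hker : ∀ n, LinearMap.ker (d n).hom = (K (n + 1)).2 := fun n => by
    show LinearMap.ker ((K n).2.subtype ∘ₗ cover R (K n).2) = _
    rw [LinearMap.ker_comp, Submodule.ker_subtype, Submodule.comap_bot]
    rfl
  have hex : ∀ n, Function.Exact (d (n + 1)).hom (d n).hom := fun n =>
    LinearMap.exact_iff.2 ((hker n).trans (hrange (n + 1)).symm)
  let ε : X 0 ⟶ ModuleCat.of R M := ModuleCat.ofHom p
  have h0 : Function.Exact (d 0).hom ε.hom := LinearMap.exact_iff.2 (hrange 0).symm
  refine ⟨NodeTor.resolution (ModuleCat.of R M) X (fun n => (IsProjective.iff_projective _).1 inferInstance) d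
    (fun n => ModuleCat.hom_ext (LinearMap.ext (hex n).apply_apply_eq_zero)) ε
    (ModuleCat.hom_ext (LinearMap.ext h0.apply_apply_eq_zero)) hp h0 hex, fun n =>
      ⟨(inferInstance : Module.Finite R (Fin (K n).1 → R)), (inferInstance : Module.Free R (Fin (K n).1 → R))⟩⟩

end Groth.Agent.CAlgOdd.FiniteResolution
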