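import Groth.Agent.LocalCrit.Flatness
import Groth.Agent.FlatInter.Basic
import Mathlib

/-!
# Flatness modulo ideals and descent of flatness along finite injective maps
-/

universe u

open TensorProduct

namespace Groth.Agent.CAlgOdd.FlatDesc

variable {R : Type u} [CommRing R] (M : Type u) [AddCommGroup M] [Module R M]

theorem rTensor_injective_of_pow_smul_le (I : Ideal R) (hI : Function.Injective (I.subtype.rTensor M))
    (hK : LocalCrit.KeepsInjective I M) {N : Type u} [AddCommGroup N] [Module R N] (n : ℕ)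
    (L : Submodule R N) (h : I ^ n • ⊤ ≤ L) : Function.Injective (L.subtype.rTensor M) := by
  induction n generalizing L with
  | zero =>
    obtain rfl : L = ⊤ := by simpa using h
    exact ((Submodule.topEquiv (R := R) (M := N)).rTensor M).injective
  | succ n ih =>
    let W : Submodule R N := L ⊔ I ^ n • ⊤
    have h1 : I • ⊤ ≤ Submodule.comap W.subtype L := by
      rw [Submodule.smul_le]
      rintro a ha ⟨x, hx⟩ -
      obtain ⟨y, hy, z, hz, rfl⟩ := Submodule.mem_sup.mp hx
      change a • (y + z) ∈ L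
      rw [smul_add]
      refine L.add_mem (L.smul_mem a hy) (h ?_)
      rw [pow_succ', Submodule.mul_smul]
      exact Submodule.smul_mem_smul ha hz
    let e : L ≃ₗ[R] Submodule.comap W.subtype L :=
      (Submodule.comapSubtypeEquivOfLe (le_sup_left : L ≤ W)).symm
    have : L.subtype = W.subtype ∘ₗ (Submodule.comap W.subtype L).subtype ∘ₗ e.toLinearMap := by ext; rfl
    rw [this, LinearMap.rTensor_comp, LinearMap.rTensor_comp, LinearMap.coe_comp, LinearMap.coe_comp]
    exact (ih W le_sup_right).comp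
      ((LocalCrit.rTensor_injective_of_smul_le I M hI hK _ h1).comp (e.rTensor M).injective)

/-- Flatness of `M/Iⁿ M` over `R/Iⁿ` from that of `M/IM` and `Tor₁(R/I, M) = 0`. -/
theorem flat_quot_pow (I : Ideal R) (hI : Function.Injective (I.subtype.rTensor M))
    (hK : LocalCrit.KeepsInjective I M) (n : ℕ) :
    Module.Flat (R ⧸ I ^ n) ((R ⧸ I ^ n) ⊗[R] M) := by
  rw [Module.Flat.iff_rTensor_injective']
  intro J
  rw [FlatInter.injective_iff_baseChange]
  refine rTensor_injective_of_pow_smul_le M I hI hK n (J.restrictScalars R) ?_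
  rw [Submodule.smul_le]
  intro a ha x _
  obtain ⟨x, rfl⟩ := Ideal.Quotient.mk_surjective x
  show Ideal.Quotient.mk (I ^ n) (a * x) ∈ J
  rw [Ideal.Quotient.eq_zero_iff_mem.2 ((I ^ n).mul_mem_right x ha)]
  exact J.zero_mem

theorem flat_of_subsingleton (C : Type u) [CommRing C] [Subsingleton C] (X : Type u) [AddCommGroup X]
    [Module C X] : Module.Flat C X := by
  rw [Module.Flat.iff_rTensor_injective']
  intro J x y _
  exact (Module.subsingleton C _).elim x y

/-- Flatness modulo `I` passes to any algebra killed by `I`. -/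
theorem flat_baseChange (I : Ideal R) [Module.Flat (R ⧸ I) ((R ⧸ I) ⊗[R] M)] (C : Type u) [CommRing C]
    [Algebra R C] (h : I.map (algebraMap R C) = ⊥) : Module.Flat C (C ⊗[R] M) := by
  letI : Algebra (R ⧸ I) C := (Ideal.Quotient.lift I (algebraMap R C) fun a ha => by
    have := Ideal.mem_map_of_mem (algebraMap R C) ha
    rwa [h, Ideal.mem_bot] at this).toAlgebra
  haveI : IsScalarTower R (R ⧸ I) C := IsScalarTower.of_algebraMap_eq fun x => rfl
  exact Module.Flat.of_linearEquiv
    (AlgebraTensorModule.cancelBaseChange R (R ⧸ I) C C M).symm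

theorem flat_quot_of_le {I J : Ideal R} (hIJ : I ≤ J) [Module.Flat (R ⧸ I) ((R ⧸ I) ⊗[R] M)] :
    Module.Flat (R ⧸ J) ((R ⧸ J) ⊗[R] M) :=
  flat_baseChange M I (R ⧸ J) (by
    rw [Ideal.map_eq_bot_iff_le_ker, Ideal.Quotient.algebraMap_eq, Ideal.mk_ker]; exact hIJ)

/-- Flatness modulo `φ⁻¹(φ(I²)R')` from flatness modulo `I` and of the base change. -/
theorem flat_comap_sq (R' : Type u) [CommRing R'] [Algebra R R'] (I : Ideal R)
    [Module.Flat (R ⧸ I) ((R ⧸ I) ⊗[R] M)] [Module.Flat R' (R' ⊗[R] M)] :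
    Module.Flat (R ⧸ ((I ^ 2).map (algebraMap R R')).comap (algebraMap R R'))
      ((R ⧸ ((I ^ 2).map (algebraMap R R')).comap (algebraMap R R')) ⊗[R] M) := by
  set B' : Ideal R' := (I ^ 2).map (algebraMap R R') with hB'
  set A : Type u := R ⧸ B'.comap (algebraMap R R')
  set Ib : Ideal A := I.map (algebraMap R A) with hIb
  -- nilpotence
  have hsq : I ^ 2 ≤ B'.comap (algebraMap R R') := Ideal.le_comap_map
  have hnil : IsNilpotent Ib := by
    refine ⟨2, ?_⟩
    rw [Ideal.zero_eq_bot, hIb, ← Ideal.map_pow, Ideal.map_eq_bot_iff_le_ker]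
    exact hsq.trans (Ideal.mk_ker (I := B'.comap (algebraMap R R'))).ge
  -- flatness modulo `Ib`
  haveI : Module.Flat (A ⧸ Ib) ((A ⧸ Ib) ⊗[A] (A ⊗[R] M)) := by
    haveI : Module.Flat (A ⧸ Ib) ((A ⧸ Ib) ⊗[R] M) := flat_baseChange M I (A ⧸ Ib) (by
      rw [IsScalarTower.algebraMap_eq R A (A ⧸ Ib), ← Ideal.map_map, Ideal.Quotient.algebraMap_eq,
        Ideal.map_quotient_self])
    exact Module.Flat.of_linearEquiv (AlgebraTensorModule.cancelBaseChange R A (A ⧸ Ib) (A ⧸ Ib) M)
  refine LocalCrit.flat_of_isNilpotent Ib _ hnil ?_ (LocalCrit.keepsInjective_of_flat Ib _)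
  rw [FlatInter.injective_iff_baseChange]
  -- the comparison with `R' / B'`
  let C : Type u := R' ⧸ B'
  let ψ : A →ₐ[R] C := Ideal.Quotient.liftₐ _ ((Ideal.Quotient.mkₐ R B').comp (Algebra.ofId R R')) fun a ha =>
    Ideal.Quotient.eq_zero_iff_mem.2 ha
  have hψ : Function.Injective ψ := by
    rw [injective_iff_map_eq_zero]
    intro x hx
    obtain ⟨x, rfl⟩ := Ideal.Quotient.mk_surjective x
    have hx' : Ideal.Quotient.mk B' (algebraMap R R' x) = 0 := hx
    exact Ideal.Quotient.eq_zero_iff_mem.2 (Ideal.mem_comap.2 (Ideal.Quotient.eq_zero_iff_mem.1 hx'))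
  haveI : Module.Flat C (C ⊗[R] M) :=
    Module.Flat.of_linearEquiv (AlgebraTensorModule.cancelBaseChange R R' C C M).symm
  let Ic : Ideal C := I.map (algebraMap R C)
  have hIc : Function.Injective ((Ic.subtype.restrictScalars R).rTensor M) :=
    (FlatInter.injective_iff_baseChange M C Ic.subtype).1
      (Module.Flat.rTensor_preserves_injective_linearMap Ic.subtype Subtype.val_injective)
  have hmem : ∀ x : Ib, ψ x.1 ∈ Ic := fun x => by
    have : Ib.map ψ.toRingHom = Ic := by
      show (I.map (algebraMap R A)).map _ = I.map (algebraMap R C)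
      rw [Ideal.map_map]
      exact congrArg (Ideal.map · I) ψ.comp_algebraMap
    rw [← this]
    exact Ideal.mem_map_of_mem ψ.toRingHom x.2
  let g : Ib →ₗ[R] Ic :=
    { toFun := fun x => ⟨ψ x.1, hmem x⟩
      map_add' := fun x y => Subtype.ext (map_add ψ x.1 y.1)
      map_smul' := fun r x => Subtype.ext (map_smul ψ r x.1) }
  have hkill : ∀ (D : Type u) [CommRing D] [Algebra R D], (I ^ 2).map (algebraMap R D) = ⊥ →
      Module.IsTorsionBySet R (I.map (algebraMap R D)) I := by
    intro D _ _ hD x a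
    refine Subtype.ext ?_
    show (a : R) • (x : D) = 0
    rw [Algebra.smul_def]
    refine (Submodule.mem_bot D).1 (hD ▸ ?_)
    rw [sq, Ideal.map_mul]
    exact Ideal.mul_mem_mul (Ideal.mem_map_of_mem _ a.2) x.2
  have hA2 : (I ^ 2).map (algebraMap R A) = ⊥ := by
    rw [Ideal.map_eq_bot_iff_le_ker]
    exact hsq.trans (Ideal.mk_ker (I := B'.comap (algebraMap R R'))).ge
  have hC2 : (I ^ 2).map (algebraMap R C) = ⊥ := by
    rw [IsScalarTower.algebraMap_eq R R' C, ← Ideal.map_map, Ideal.Quotient.algebraMap_eq, ← hB',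
      Ideal.map_quotient_self]
  have hgi : Function.Injective g := fun x y h => Subtype.ext (hψ (congrArg Subtype.val h))
  have h1 : Function.Injective (g.rTensor M) :=
    LocalCrit.keepsInjective_of_flat I M g (hkill A hA2) (hkill C hC2) hgi
  have hfac : ψ.toLinearMap.rTensor M ∘ₗ (Ib.subtype.restrictScalars R).rTensor M =
      (Ic.subtype.restrictScalars R).rTensor M ∘ₗ g.rTensor M := by
    rw [← LinearMap.rTensor_comp, ← LinearMap.rTensor_comp]; rfl
  intro a b hab
  refine h1 (hIc ?_)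
  have := congrArg (ψ.toLinearMap.rTensor M) hab
  rwa [← LinearMap.comp_apply, ← LinearMap.comp_apply, hfac] at this

/-- The sequence `J₀ = I`, `J_{k+1} = φ⁻¹(φ(J_k²) S)`. -/
def combSeq {A : Type u} {B : Type u} [CommRing A] [CommRing B] (φ : A →+* B) (I : Ideal A) : ℕ → Ideal A
  | 0 => I
  | k + 1 => ((combSeq φ I k ^ 2).map φ).comap φ

section Domain

variable (D E : Type u) [CommRing D] [IsDomain D] [CommRing E] [IsDomain E] [Algebra D E]
  [Module.Finite D E]

theorem exists_functional (hinj : Function.Injective (algebraMap D E)) : ∃ θ : E →ₗ[D] D, θ 1 ≠ 0 := by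
  let K := FractionRing D
  have h1 : (1 : K) ⊗ₜ[D] (1 : E) ≠ 0 := by
    intro h0
    have hi : Function.Injective ((Algebra.linearMap D E).lTensor K) :=
      Module.Flat.lTensor_preserves_injective_linearMap _ hinj
    have h2 : (Algebra.linearMap D E).lTensor K ((1 : K) ⊗ₜ[D] (1 : D)) = 0 := by simpa using h0
    have h3 := congrArg (TensorProduct.rid D K) (hi (h2.trans (map_zero _).symm))
    simp at h3
  obtain ⟨φ, hφ⟩ : ∃ φ : Module.Dual K (K ⊗[D] E), φ ((1 : K) ⊗ₜ[D] (1 : E)) ≠ 0 := by
    by_contra hc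
    push_neg at hc
    exact h1 ((Module.forall_dual_apply_eq_zero_iff K _).1 hc)
  let f : E →ₗ[D] K := (φ.restrictScalars D).comp (TensorProduct.mk D K E 1)
  obtain ⟨t, ht⟩ := (inferInstance : Module.Finite D E).fg_top
  obtain ⟨s, hs⟩ := IsLocalization.exist_integer_multiples (nonZeroDivisors D) t f
  have hr : ∀ x, (s : D) • f x ∈ LinearMap.range (Algebra.linearMap D K) := by
    have hle : Submodule.span D (t : Set E) ≤
        (LinearMap.range (Algebra.linearMap D K)).comap ((s : D) • f) := by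
      refine Submodule.span_le.2 fun x hx => ?_
      obtain ⟨r, hr⟩ := hs x hx
      exact ⟨r, hr⟩
    intro x
    exact hle (ht ▸ Submodule.mem_top)
  refine ⟨(LinearEquiv.ofInjective (Algebra.linearMap D K) (IsFractionRing.injective D K)).symm.toLinearMap.comp
    (((s : D) • f).codRestrict _ hr), fun h => ?_⟩
  rw [LinearMap.comp_apply, LinearEquiv.coe_coe, LinearEquiv.map_eq_zero_iff] at h
  have h4 : (s : D) • f 1 = 0 := congrArg Subtype.val h
  rcases smul_eq_zero.1 h4 with h5 | h5
  · exact nonZeroDivisors.coe_ne_zero s h5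
  · exact hφ h5

/-- Descent of flatness to a domain along a finite injective map of domains, given flatness modulo
nonzero ideals. -/
theorem flat_of_domain (hinj : Function.Injective (algebraMap D E)) (N : Type u) [AddCommGroup N]
    [Module D N] [Module.Flat E (E ⊗[D] N)]
    (IH : ∀ J : Ideal D, J ≠ ⊥ → Module.Flat (D ⧸ J) ((D ⧸ J) ⊗[D] N)) : Module.Flat D N := by
  obtain ⟨θ, hθ⟩ := exists_functional D E hinj
  set c := θ 1
  have htor : ∀ (a : D) (x : N), a ≠ 0 → a • x = 0 → c • x = 0 := by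
    intro a x ha hax
    have h1 : algebraMap D E a • ((1 : E) ⊗ₜ[D] x) = 0 := by
      rw [algebraMap_smul, ← tmul_smul, hax, tmul_zero]
    have h2 : (1 : E) ⊗ₜ[D] x = 0 := by
      refine Module.Flat.isSMulRegular_of_nonZeroDivisors (R := E) (mem_nonZeroDivisors_of_ne_zero ?_)
        (h1.trans (smul_zero _).symm)
      rw [Ne, map_eq_zero_iff _ hinj]; exact ha
    have h3 := congrArg (fun z => TensorProduct.lid D N (θ.rTensor N z)) h2
    simpa using h3
  have hreg : ∀ a : D, a ≠ 0 → ∀ x : N, a • x = 0 → x = 0 := by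
    intro a ha x hax
    have hcx := htor a x ha hax
    have hc2 : Ideal.span {c * c} ≠ ⊥ := by simp [Ideal.span_singleton_eq_bot, hθ]
    haveI := IH _ hc2
    let g : (D ⧸ Ideal.span {c}) →ₗ[D] D ⧸ Ideal.span {c * c} :=
      Submodule.mapQ _ _ (LinearMap.mulLeft D c) (by
        intro z hz
        obtain ⟨w, rfl⟩ := Ideal.mem_span_singleton'.1 hz
        exact Ideal.mem_span_singleton'.2 ⟨w, by simp; ring⟩)
    have hgi : Function.Injective g := by
      rw [injective_iff_map_eq_zero]
      intro z hz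
      obtain ⟨z, rfl⟩ := Submodule.Quotient.mk_surjective _ z
      simp only [g, Submodule.mapQ_apply, LinearMap.mulLeft_apply, Submodule.Quotient.mk_eq_zero] at hz
      obtain ⟨w, hw⟩ := Ideal.mem_span_singleton'.1 hz
      rw [Submodule.Quotient.mk_eq_zero, Ideal.mem_span_singleton']
      exact ⟨w, mul_left_cancel₀ hθ (by rw [← hw]; ring)⟩
    have hk : ∀ b : D, Ideal.span {c * c} ≤ Ideal.span {b} → Module.IsTorsionBySet D (D ⧸ Ideal.span {b}) (Ideal.span {c * c} : Ideal D) := by
      intro b hb z r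
      obtain ⟨z, rfl⟩ := Ideal.Quotient.mk_surjective z
      exact Ideal.Quotient.eq_zero_iff_mem.2 ((Ideal.span {b}).mul_mem_right z (hb r.2))
    have hginj : Function.Injective (g.rTensor N) :=
      LocalCrit.keepsInjective_of_flat (Ideal.span {c * c}) N g
        (hk c (Ideal.span_singleton_le_span_singleton.2 (dvd_mul_right c c))) (hk _ le_rfl) hgi
    have h1 : (Ideal.Quotient.mk (Ideal.span {c}) 1) ⊗ₜ[D] x = 0 := by
      refine hginj ?_
      have : g (Ideal.Quotient.mk (Ideal.span {c}) 1) = c • Ideal.Quotient.mk (Ideal.span {c * c}) 1 := rfl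
      rw [LinearMap.rTensor_tmul, map_zero, this, smul_tmul, hcx, tmul_zero]
    have h2 := congrArg (TensorProduct.quotTensorEquivQuotSMul N (Ideal.span {c})) h1
    rw [TensorProduct.quotTensorEquivQuotSMul_mk_tmul, one_smul, map_zero, Submodule.Quotient.mk_eq_zero,
      Submodule.ideal_span_singleton_smul, Submodule.mem_smul_pointwise_iff_exists] at h2
    obtain ⟨y, -, rfl⟩ := h2
    refine htor (a * c) y (mul_ne_zero ha hθ) ?_
    rw [mul_smul, hax]
  rw [Module.Flat.iff_rTensor_injective']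
  intro J
  by_cases hJ : J = ⊥
  · subst hJ; exact fun x y _ => Subsingleton.elim x y
  obtain ⟨a, haJ, ha⟩ := Submodule.exists_mem_ne_zero_of_ne_bot hJ
  let I : Ideal D := Ideal.span {a}
  haveI := IH I (by simpa [I, Ideal.span_singleton_eq_bot] using ha)
  have hI : Function.Injective (I.subtype.rTensor N) := by
    let q : D →ₗ[D] I := LinearMap.toSpanSingleton D I ⟨a, Ideal.mem_span_singleton_self a⟩
    have hq : Function.Surjective q := fun z => by
      obtain ⟨w, hw⟩ := Ideal.mem_span_singleton'.1 z.2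
      exact ⟨w, Subtype.ext (by simpa [q] using hw)⟩
    rw [injective_iff_map_eq_zero]
    intro z hz
    obtain ⟨z, rfl⟩ := LinearMap.rTensor_surjective N hq z
    obtain ⟨x, rfl⟩ := (TensorProduct.lid D N).symm.surjective z
    have h5 := congrArg (TensorProduct.lid D N) hz
    simp [q] at h5
    rw [hreg a ha x h5]
    simp
  refine LocalCrit.rTensor_injective_of_smul_le I N hI (LocalCrit.keepsInjective_of_flat I N) J ?_
  rw [Ideal.smul_eq_mul, Ideal.mul_top]
  exact (Ideal.span_singleton_le_iff_mem _).2 haJ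

end Domain

section Descent

variable (S : Type u) [CommRing S] [Algebra R S] [Module.Finite R S]

theorem flat_quot_prime (hinj : Function.Injective (algebraMap R S))
    [Module.Flat S (S ⊗[R] M)] (P : Ideal R) [P.IsPrime]
    (IH : ∀ J > P, Module.Flat (R ⧸ J) ((R ⧸ J) ⊗[R] M)) :
    Module.Flat (R ⧸ P) ((R ⧸ P) ⊗[R] M) := by
  obtain ⟨q, hq, hqP⟩ : ∃ q : Ideal S, q.IsPrime ∧ q.comap (algebraMap R S) = P := by
    haveI : Algebra.IsIntegral R S := Algebra.IsIntegral.of_finite R S
    obtain ⟨q, -, hq, hqP⟩ := Ideal.exists_ideal_over_prime_of_isIntegral P (⊥ : Ideal S) (by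
      rw [← RingHom.ker_eq_comap_bot, (RingHom.injective_iff_ker_eq_bot _).1 hinj]; exact bot_le)
    exact ⟨q, hq, hqP⟩
  haveI : q.LiesOver P := ⟨hqP.symm⟩
  letI : Algebra (R ⧸ P) (S ⧸ q) := Ideal.Quotient.algebraQuotientOfLEComap hqP.ge
  haveI : IsScalarTower R (R ⧸ P) (S ⧸ q) := IsScalarTower.of_algebraMap_eq fun x => rfl
  haveI : Module.Finite R (S ⧸ q) := Module.Finite.of_surjective (Ideal.Quotient.mkₐ R q).toLinearMap Ideal.Quotient.mk_surjective
  haveI : Module.Finite (R ⧸ P) (S ⧸ q) := Module.Finite.of_restrictScalars_finite R _ _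
  have hinj' : Function.Injective (algebraMap (R ⧸ P) (S ⧸ q)) := by
    rw [injective_iff_map_eq_zero]
    intro x hx
    obtain ⟨x, rfl⟩ := Ideal.Quotient.mk_surjective x
    rw [Ideal.Quotient.eq_zero_iff_mem, ← hqP, Ideal.mem_comap]
    exact Ideal.Quotient.eq_zero_iff_mem.1 hx
  haveI : Module.Flat (S ⧸ q) ((S ⧸ q) ⊗[R] M) :=
    Module.Flat.of_linearEquiv (AlgebraTensorModule.cancelBaseChange R S (S ⧸ q) (S ⧸ q) M).symm
  haveI : Module.Flat (S ⧸ q) ((S ⧸ q) ⊗[R ⧸ P] ((R ⧸ P) ⊗[R] M)) :=
    Module.Flat.of_linearEquiv (AlgebraTensorModule.cancelBaseChange R (R ⧸ P) (S ⧸ q) (S ⧸ q) M)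
  refine flat_of_domain (R ⧸ P) (S ⧸ q) hinj' _ fun J hJ => ?_
  have hgt : P < J.comap (Ideal.Quotient.mk P) := by
    refine lt_of_le_of_ne (fun x hx => ?_) fun h => hJ ?_
    · rw [Ideal.mem_comap, Ideal.Quotient.eq_zero_iff_mem.2 hx]; exact J.zero_mem
    · rw [← Ideal.map_comap_of_surjective _ Ideal.Quotient.mk_surjective J, ← h, Ideal.map_quotient_self]
  haveI := IH _ hgt
  haveI : Module.Flat ((R ⧸ P) ⧸ J) (((R ⧸ P) ⧸ J) ⊗[R] M) :=
    flat_baseChange M (J.comap (Ideal.Quotient.mk P)) _ (by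
      rw [Ideal.map_eq_bot_iff_le_ker]
      intro x hx
      rw [RingHom.mem_ker, IsScalarTower.algebraMap_apply R (R ⧸ P) ((R ⧸ P) ⧸ J)]
      exact Ideal.Quotient.eq_zero_iff_mem.2 hx)
  exact Module.Flat.of_linearEquiv
    (AlgebraTensorModule.cancelBaseChange R (R ⧸ P) ((R ⧸ P) ⧸ J) ((R ⧸ P) ⧸ J) M)

theorem exists_comap_map_pow_le [IsNoetherianRing R] (hinj : Function.Injective (algebraMap R S))
    (I : Ideal R) : ∃ c : ℕ, ∀ n, ((I ^ (n + c)).map (algebraMap R S)).comap (algebraMap R S) ≤ I ^ n := by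
  let N : Submodule R S := LinearMap.range (Algebra.linearMap R S)
  obtain ⟨c, hc⟩ := Ideal.exists_pow_inf_eq_pow_smul I N
  refine ⟨c, fun n x hx => ?_⟩
  have h1 : algebraMap R S x ∈ I ^ (n + c) • ⊤ ⊓ N := by
    refine ⟨?_, x, rfl⟩
    rw [Ideal.smul_top_eq_map]
    exact hx
  rw [hc (n + c) (Nat.le_add_left c n), Nat.add_sub_cancel] at h1
  have h2 : algebraMap R S x ∈ I ^ n • N := Submodule.smul_mono le_rfl inf_le_right h1
  simp only [N, LinearMap.range_eq_map, ← Submodule.map_smul''] at h2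
  obtain ⟨y, hy, hxy⟩ := h2
  rw [← hinj hxy]
  simpa using hy

theorem flat_quot_all [IsNoetherianRing R] (hinj : Function.Injective (algebraMap R S))
    [Module.Flat S (S ⊗[R] M)] (I : Ideal R) : Module.Flat (R ⧸ I) ((R ⧸ I) ⊗[R] M) := by
  refine IsNoetherian.induction (P := fun I : Ideal R => Module.Flat (R ⧸ I) ((R ⧸ I) ⊗[R] M))
    (fun (I : Ideal R) (IH : ∀ J > I, Module.Flat (R ⧸ J) ((R ⧸ J) ⊗[R] M)) => ?_) I
  by_cases htop : I = ⊤
  · subst htop
    exact flat_of_subsingleton _ _
  by_cases hp : I.IsPrime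
  · exact flat_quot_prime M S hinj I IH
  rcases (Ideal.le_radical (I := I)).lt_or_eq with hlt | hrad
  · -- the descending sequence
    let seq : ℕ → Ideal R := combSeq (algebraMap R S) (Ideal.radical I)
    have hflat : ∀ k : ℕ, Module.Flat (R ⧸ seq k) ((R ⧸ seq k) ⊗[R] M) := by
      intro k
      induction k with
      | zero => exact IH _ hlt
      | succ k ih => exact @flat_comap_sq R _ M _ _ S _ _ (seq k) ih _
    have hseq : ∀ k : ℕ, (seq k).map (algebraMap R S) ≤ ((Ideal.radical I) ^ (2 ^ k)).map (algebraMap R S) := by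
      intro k
      induction k with
      | zero => simp [seq, combSeq]
      | succ k ih =>
        refine Ideal.map_comap_le.trans ?_
        rw [Ideal.map_pow, Ideal.map_pow, pow_succ 2 k, pow_mul]
        rw [Ideal.map_pow] at ih
        exact Ideal.pow_right_mono ih 2
    obtain ⟨N, hN⟩ := Ideal.exists_radical_pow_le_of_fg I (IsNoetherian.noetherian _)
    obtain ⟨c, hc⟩ := exists_comap_map_pow_le S hinj I.radical
    have hle : seq (N + c) ≤ I := by
      refine le_trans ?_ ((hc N).trans hN)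
      refine Ideal.le_comap_map.trans (Ideal.comap_mono ((hseq _).trans ?_))
      exact Ideal.map_mono (Ideal.pow_le_pow_right (Nat.lt_two_pow_self).le)
    haveI := hflat (N + c)
    exact flat_quot_of_le M hle
  · -- radical
    have hfin := I.finite_minimalPrimes_of_isNoetherianRing R
    have hI : I = hfin.toFinset.inf id := by
      rw [Finset.inf_id_eq_sInf, Set.Finite.coe_toFinset, Ideal.sInf_minimalPrimes]
      exact hrad
    rw [hI]
    refine Finset.inf_induction (p := fun J : Ideal R => Module.Flat (R ⧸ J) ((R ⧸ J) ⊗[R] M))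
      (flat_of_subsingleton _ _) (fun J hJ J' hJ' => @FlatInter.flat_inf R _ M _ _ J J' hJ hJ') ?_
    intro P hP
    rw [Set.Finite.mem_toFinset] at hP
    refine IH P (lt_of_le_of_ne hP.1.2 fun h => hp (h ▸ hP.1.1))

/-- Flatness descends along finite injective maps out of a Noetherian ring. -/
theorem flat_of_finite_injective [IsNoetherianRing R] (hinj : Function.Injective (algebraMap R S))
    [Module.Flat S (S ⊗[R] M)] : Module.Flat R M := by
  haveI := flat_quot_all M S hinj (⊥ : Ideal R)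
  haveI : Module.Flat R (R ⊗[R] M) := flat_baseChange M (⊥ : Ideal R) R Ideal.map_bot
  exact Module.Flat.of_linearEquiv (TensorProduct.lid R M).symm

end Descent

end Groth.Agent.CAlgOdd.FlatDesc
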