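import Groth.Agent.CAlgOdd.FlatCompletion
import Groth.Agent.FreeCompl.Basic
import Groth.Agent.CAlgUI.Basic
import Groth.Prelude.Def_CAlgX
import Mathlib

/-!
# The completion of a free module sits universally injectively in the product
-/

universe u

namespace Groth.Agent.CAlgOdd.FreeComplUI

open FlatCompletion

theorem universallyInjective {R : Type u} [CommRing R] [IsNoetherianRing R] (I : Ideal R)
    [IsAdicComplete I R] (α : Type u) :
    CAlgX.UniversallyInjective R
      (LinearMap.pi fun a : α => AdicCompletion.map I (Finsupp.lapply a : (α →₀ R) →ₗ[R] R) :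
        AdicCompletion I (α →₀ R) →ₗ[R] (α → AdicCompletion I R)) := by
  classical
  have hI : I.FG := IsNoetherian.noetherian I
  let X := AdicCompletion I (α →₀ R)
  haveI : IsAdicComplete I X := AdicCompletion.isAdicComplete hI
  have hker : ∀ (n : ℕ) (v : X), v ∈ I ^ n • (⊤ : Submodule R X) ↔ AdicCompletion.eval I _ n v = 0 :=
    fun n v => by rw [AdicCompletion.pow_smul_top_eq_ker_eval hI, LinearMap.mem_ker]
  have happ : ∀ (n : ℕ) (v : X), ∃ f : α →₀ R,
      v - AdicCompletion.of I _ f ∈ I ^ n • (⊤ : Submodule R X) := by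
    intro n v
    obtain ⟨f, hf⟩ := Submodule.mkQ_surjective _ (AdicCompletion.eval I _ n v)
    exact ⟨f, (hker n _).2 (by rw [map_sub, AdicCompletion.eval_of, hf, sub_self])⟩
  have hfree : LevelFlat (α →₀ R) I :=
    levelFlat I (Module.Flat.rTensor_preserves_injective_linearMap _ I.injective_subtype)
      (fun N N' _ _ _ _ g _ _ hg => Module.Flat.rTensor_preserves_injective_linearMap g hg)
  have hX : LevelFlat X I := by
    intro N q r s v hv
    choose m hm using fun i => happ N (v i)
    let ι : (Fin q → (α →₀ R)) →ₗ[R] (Fin q → X) :=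
      LinearMap.pi fun i => AdicCompletion.of I _ ∘ₗ LinearMap.proj i
    have h : ∀ j, ∑ i, s j i • m i ∈ I ^ N • (⊤ : Submodule R (α →₀ R)) := by
      intro j
      have h1 : AdicCompletion.of I _ (∑ i, s j i • m i) ∈ I ^ N • (⊤ : Submodule R X) := by
        rw [show AdicCompletion.of I _ (∑ i, s j i • m i) =
            (∑ i, s j i • v i) - ∑ i, s j i • (v i - AdicCompletion.of I _ (m i)) by
          simp [smul_sub, Finset.sum_sub_distrib, map_sum, X]]
        exact Submodule.sub_mem _ (hv j) (Submodule.sum_mem _ fun i _ => Submodule.smul_mem _ _ (hm i))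
      rwa [hker, AdicCompletion.eval_of, Submodule.mkQ_apply, Submodule.Quotient.mk_eq_zero] at h1
    have h2 := Submodule.mem_map_of_mem (f := ι) (hfree N q r s m h)
    rw [Submodule.map_sup, Submodule.map_smul''] at h2
    have h3 : ι m ∈ spanSmul {u : Fin q → R | ∀ j, ∑ i, s j i * u i ∈ I ^ N} ⊔ I ^ N • (⊤ : Submodule R (Fin q → X)) := by
      refine SetLike.le_def.1 (sup_le_sup ?_ (Submodule.smul_mono le_rfl le_top)) h2
      rw [spanSmul, Submodule.map_span, Submodule.span_le]
      rintro _ ⟨_, ⟨u, hu, x, rfl⟩, rfl⟩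
      exact Submodule.subset_span ⟨u, hu, AdicCompletion.of I _ x, funext fun i => by simp [ι, X]⟩
    have h4 : v - ι m ∈ I ^ N • (⊤ : Submodule R (Fin q → X)) := ARPair.mem_smul_top_pi.2 fun i => hm i
    simpa using Submodule.add_mem _ (Submodule.mem_sup_right h4) h3
  rw [CAlgUI.ui_iff_equational]
  intro l q x y S h
  suffices ∀ n, ∃ w : Fin q → X, x - app S w ∈ I ^ n • (⊤ : Submodule R (Fin l → X)) by
    obtain ⟨L, hL⟩ := exists_solution I hX S x this
    exact ⟨L, fun i => by rw [← hL, app_apply]⟩
  intro n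
  choose f hf using fun i => happ n (x i)
  let T : Finset α := Finset.univ.biUnion fun i => (f i).support
  choose z hz using fun (a : α) (j : Fin q) =>
    Submodule.mkQ_surjective _ (AdicCompletion.eval I R n (y j a))
  let w : Fin q → α →₀ R := fun j => Finsupp.onFinset T (fun a => if a ∈ T then z a j else 0)
    (fun a ha => by by_contra hT; simp [hT] at ha)
  refine ⟨fun j => AdicCompletion.of I _ (w j), ARPair.mem_smul_top_pi.2 fun i => ?_⟩
  have hfw : f i - ∑ j, S i j • w j ∈ I ^ n • (⊤ : Submodule R (α →₀ R)) := by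
    rw [FreeCompl.mem_pow_smul_top_iff]
    intro a
    by_cases ha : a ∈ T
    · have h1 := congrArg (AdicCompletion.eval I R n) (congrFun (h i) a)
      simp only [Finset.sum_apply, Pi.smul_apply, map_sum, map_smul, ← hz] at h1
      have h2 : AdicCompletion.eval I _ n (x i) = Submodule.Quotient.mk (f i) := by
        have := (hker n _).1 (hf i)
        rwa [map_sub, sub_eq_zero, AdicCompletion.eval_of] at this
      change LinearMap.reduceModIdeal (I ^ n) (Finsupp.lapply a : (α →₀ R) →ₗ[R] R) (AdicCompletion.eval I _ n (x i)) = _ at h1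
      rw [h2] at h1
      change Submodule.Quotient.mk (f i a) = _ at h1
      rw [show (∑ j, S i j • (I ^ n • ⊤ : Submodule R R).mkQ (z a j)) =
        (I ^ n • ⊤ : Submodule R R).mkQ (∑ j, S i j • z a j) by simp only [map_sum, map_smul],
        Submodule.mkQ_apply, Submodule.Quotient.eq, Ideal.smul_eq_mul, Ideal.mul_top] at h1
      simpa [w, ha, Finsupp.finsetSum_apply] using h1
    · have h0 : f i a = 0 := by
        by_contra hne
        exact ha (Finset.mem_biUnion.2 ⟨i, Finset.mem_univ i, Finsupp.mem_support_iff.2 hne⟩)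
      simp [w, ha, h0, Finsupp.finsetSum_apply]
  rw [Pi.sub_apply, app_apply, show x i - ∑ j, S i j • AdicCompletion.of I (α →₀ R) (w j) =
    (x i - AdicCompletion.of I _ (f i)) + AdicCompletion.of I _ (f i - ∑ j, S i j • w j) by
      simp [map_sum]]
  refine Submodule.add_mem _ (hf i) ((hker n _).2 ?_)
  rw [AdicCompletion.eval_of, Submodule.mkQ_apply, Submodule.Quotient.mk_eq_zero]
  exact hfw

end Groth.Agent.CAlgOdd.FreeComplUI
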