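import Mathlib

/-!
Elimination in the general linear group over a local ring: every invertible matrix is
`a * diagonal * b` with `a`, `b` products of transvections.
-/

universe u v

namespace Groth.Agent.CAlgOdd.GLElim

open Matrix

variable {n : Type v} [Fintype n] [DecidableEq n] {A : Type u} [CommRing A] {B : Type u} [CommRing B]

/-- A transvection as an element of `GL`. -/
def ut {i j : n} (h : i ≠ j) (c : A) : GL n A :=
  ⟨transvection i j c, transvection i j (-c),
    by rw [transvection_mul_transvection_same i j h, add_neg_cancel, transvection_zero],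
    by rw [transvection_mul_transvection_same i j h, neg_add_cancel, transvection_zero]⟩

theorem coe_ut {i j : n} (h : i ≠ j) (c : A) :
    ((ut h c : GL n A) : Matrix n n A) = transvection i j c := rfl

theorem coe_ut_inv {i j : n} (h : i ≠ j) (c : A) :
    (((ut h c : GL n A)⁻¹ : GL n A) : Matrix n n A) = transvection i j (-c) := rfl

theorem ut_add {i j : n} (h : i ≠ j) (c d : A) : ut h c * ut h d = ut h (c + d) :=
  Units.ext (transvection_mul_transvection_same i j h c d)

theorem map_ut (φ : A →+* B) {i j : n} (h : i ≠ j) (c : A) :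
    GeneralLinearGroup.map φ (ut h c) = ut h (φ c) := by
  apply Units.ext
  ext a b
  change φ (transvection i j c a b) = transvection i j (φ c) a b
  simp [transvection, Matrix.one_apply, Matrix.single_apply, apply_ite φ]

/-- Diagonal invertible matrices. -/
noncomputable def dg : (n → Aˣ) →* GL n A :=
  (Units.map (diagonalRingHom n A).toMonoidHom).comp MulEquiv.piUnits.symm.toMonoidHom

theorem coe_dg (d : n → Aˣ) :
    ((dg d : GL n A) : Matrix n n A) = diagonal fun a => (d a : A) := rfl

theorem det_dg (d : n → Aˣ) : GeneralLinearGroup.det (dg d) = ∏ a, d a := by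
  apply Units.ext
  rw [GeneralLinearGroup.val_det_apply, coe_dg, det_diagonal, Units.coe_prod]

theorem map_dg (φ : A →+* B) (d : n → Aˣ) :
    GeneralLinearGroup.map φ (dg d) = dg fun a => Units.map (φ : A →* B) (d a) := by
  apply Units.ext
  ext a b
  change φ (diagonal (fun a => (d a : A)) a b) = diagonal (fun a => φ (d a : A)) a b
  by_cases h : a = b
  · subst h; simp
  · simp [h]

theorem det_ut {i j : n} (h : i ≠ j) (c : A) : GeneralLinearGroup.det (ut h c) = 1 := by
  apply Units.ext
  rw [GeneralLinearGroup.val_det_apply, coe_ut, det_transvection_of_ne i j h, Units.val_one]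

theorem dg_mul_ut {i j : n} (h : i ≠ j) (d : n → Aˣ) (c : A) :
    dg d * ut h c = ut h ((d i : A) * c * ((d j)⁻¹ : Aˣ)) * dg d := by
  apply Units.ext
  rw [Units.val_mul, Units.val_mul, coe_dg, coe_ut, coe_ut]
  ext a b
  rw [diagonal_mul, mul_diagonal]
  by_cases hab : a = i ∧ b = j
  · obtain ⟨rfl, rfl⟩ := hab
    simp [transvection, h, mul_assoc]
  · have hab' : ¬(i = a ∧ j = b) := fun e => hab ⟨e.1.symm, e.2.symm⟩
    simp only [transvection, Matrix.add_apply, Matrix.single_apply, if_neg hab', add_zero]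
    by_cases e : a = b
    · subst e; simp [mul_comm]
    · simp [e]

/-- A transposition permutation matrix as an element of `GL`. -/
def sw (i j : n) : GL n A :=
  ⟨(Equiv.swap i j).toPEquiv.toMatrix, (Equiv.swap i j).toPEquiv.toMatrix,
    by rw [← PEquiv.toMatrix_trans, ← Equiv.toPEquiv_trans, Equiv.swap_swap, Equiv.toPEquiv_refl,
      PEquiv.toMatrix_refl],
    by rw [← PEquiv.toMatrix_trans, ← Equiv.toPEquiv_trans, Equiv.swap_swap, Equiv.toPEquiv_refl,
      PEquiv.toMatrix_refl]⟩

theorem sw_conj (i j : n) (d : n → Aˣ) :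
    sw i j * dg d * (sw i j : GL n A)⁻¹ = dg (d ∘ Equiv.swap i j) := by
  apply Units.ext
  rw [Units.val_mul, Units.val_mul, coe_dg, coe_dg]
  change (Equiv.swap i j).toPEquiv.toMatrix * _ * (Equiv.swap i j).toPEquiv.toMatrix = _
  rw [PEquiv.toMatrix_toPEquiv_mul, PEquiv.mul_toMatrix_toPEquiv, submatrix_submatrix,
    Equiv.symm_swap]
  exact submatrix_diagonal_equiv _ _

variable (n A) in
/-- The subgroup generated by the transvections. -/
def E : Subgroup (GL n A) :=
  Subgroup.closure {g | ∃ (i j : n) (h : i ≠ j) (c : A), g = ut h c}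

theorem ut_mem {i j : n} (h : i ≠ j) (c : A) : ut h c ∈ E n A :=
  Subgroup.subset_closure ⟨i, j, h, c, rfl⟩

theorem E_le_ker {G : Type*} [Group G] (f : GL n A →* G)
    (h : ∀ (i j : n) (hij : i ≠ j) (c : A), f (ut hij c) = 1) : E n A ≤ f.ker := by
  refine (Subgroup.closure_le _).mpr ?_
  rintro g ⟨i, j, hij, c, rfl⟩
  exact h i j hij c

theorem det_of_mem_E {g : GL n A} (hg : g ∈ E n A) : GeneralLinearGroup.det g = 1 :=
  E_le_ker GeneralLinearGroup.det (fun _ _ h c => det_ut h c) hg

theorem exists_row_ops (k : n) (c : n → A) (t : Finset n) (hk : k ∉ t) (g : GL n A) :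
    ∃ x ∈ E n A, ∀ a b,
      ((x * g : GL n A) : Matrix n n A) a b = if a ∈ t then g a b + c a * g k b else g a b := by
  induction t using Finset.induction_on with
  | empty => exact ⟨1, one_mem _, fun a b => by simp⟩
  | insert r t hr ih =>
    rw [Finset.mem_insert, not_or] at hk
    obtain ⟨x, hx, hx'⟩ := ih hk.2
    have hrk : r ≠ k := Ne.symm hk.1
    refine ⟨ut hrk (c r) * x, mul_mem (ut_mem _ _) hx, fun a b => ?_⟩
    rw [mul_assoc, Units.val_mul, coe_ut]
    by_cases ha : a = r
    · subst ha
      rw [transvection_mul_apply_same, hx', hx', if_neg hr, if_neg hk.2,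
        if_pos (Finset.mem_insert_self _ _)]
    · rw [transvection_mul_apply_of_ne _ _ _ _ ha, hx']
      simp [ha]

theorem exists_col_ops (k : n) (c : n → A) (t : Finset n) (hk : k ∉ t) (g : GL n A) :
    ∃ y ∈ E n A, ∀ a b,
      ((g * y : GL n A) : Matrix n n A) a b = if b ∈ t then g a b + c b * g a k else g a b := by
  induction t using Finset.induction_on with
  | empty => exact ⟨1, one_mem _, fun a b => by simp⟩
  | insert r t hr ih =>
    rw [Finset.mem_insert, not_or] at hk
    obtain ⟨y, hy, hy'⟩ := ih hk.2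
    have hkr : k ≠ r := hk.1
    refine ⟨y * ut hkr (c r), mul_mem hy (ut_mem _ _), fun a b => ?_⟩
    rw [← mul_assoc, Units.val_mul, coe_ut]
    by_cases hb : b = r
    · subst hb
      rw [mul_transvection_apply_same, hy', hy', if_neg hr, if_neg hk.2,
        if_pos (Finset.mem_insert_self _ _)]
    · rw [mul_transvection_apply_of_ne _ _ _ _ hb, hy']
      simp [hb]

/-- The rows and columns indexed by `s` vanish off the diagonal. -/
def Cleared (s : Finset n) (g : GL n A) : Prop :=
  ∀ a ∈ s, ∀ b, b ≠ a → g a b = 0 ∧ g b a = 0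

theorem exists_isUnit_col [IsLocalRing A] (g : GL n A) (k : n) : ∃ r, IsUnit (g r k) := by
  by_contra hc
  push Not at hc
  have h1 : ∑ r, ((g⁻¹ : GL n A) : Matrix n n A) k r * g r k = 1 := by
    have := congr_fun₂ (show ((g⁻¹ : GL n A) : Matrix n n A) * g = 1 from g.inv_mul) k k
    rwa [Matrix.mul_apply, Matrix.one_apply_eq] at this
  have hm : (1 : A) ∈ IsLocalRing.maximalIdeal A := by
    rw [← h1]
    exact Ideal.sum_mem _ fun r _ => Ideal.mul_mem_left _ _ (hc r)
  exact hm isUnit_one

theorem clear_insert [IsLocalRing A] (s : Finset n) (k : n) (hk : k ∉ s) (g : GL n A)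
    (hg : Cleared s g) : ∃ a ∈ E n A, ∃ b ∈ E n A, Cleared (insert k s) (a * g * b) := by
  -- make the pivot a unit
  obtain ⟨a₁, ha₁, hg₁, hu⟩ :
      ∃ a ∈ E n A, Cleared s (a * g) ∧ IsUnit ((a * g : GL n A) k k) := by
    by_cases hu : IsUnit (g k k)
    · exact ⟨1, one_mem _, by rwa [one_mul], by rwa [one_mul]⟩
    · obtain ⟨r, hr⟩ := exists_isUnit_col g k
      have hrk : r ≠ k := fun e => hu (e ▸ hr)
      have hrs : r ∉ s := fun e => by
        rw [(hg r e k (Ne.symm hrk)).1] at hr
        exact not_isUnit_zero hr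
      refine ⟨ut (Ne.symm hrk) 1, ut_mem _ _, fun a ha b hb => ?_, ?_⟩
      · rw [Units.val_mul, coe_ut]
        have hak : a ≠ k := fun e => hk (e ▸ ha)
        have har : a ≠ r := fun e => hrs (e ▸ ha)
        refine ⟨?_, ?_⟩
        · rw [transvection_mul_apply_of_ne _ _ _ _ hak]
          exact (hg a ha b hb).1
        · by_cases hbk : b = k
          · subst hbk
            rw [transvection_mul_apply_same, (hg a ha _ hb).2, (hg a ha r (Ne.symm har)).2]
            simp
          · rw [transvection_mul_apply_of_ne _ _ _ _ hbk]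
            exact (hg a ha b hb).2
      · rw [Units.val_mul, coe_ut, transvection_mul_apply_same, one_mul]
        have hsum : IsUnit ((g k k + g r k) + -(g k k)) := by simpa using hr
        rcases IsLocalRing.isUnit_or_isUnit_of_isUnit_add hsum with h | h
        · exact h
        · exact absurd h.neg (by simpa using hu)
  set g₁ := a₁ * g with hg₁def
  obtain ⟨w, hw⟩ := hu.exists_right_inv
  set t : Finset n := Finset.univ \ insert k s with ht
  have hkt : k ∉ t := by simp [ht]
  obtain ⟨x, hx, hx'⟩ := exists_row_ops k (fun a => -(g₁ a k * w)) t hkt g₁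
  set g₂ := x * g₁ with hg₂def
  obtain ⟨y, hy, hy'⟩ := exists_col_ops k (fun b => -(g₁ k b * w)) t hkt g₂
  refine ⟨x * a₁, mul_mem hx ha₁, y, hy, ?_⟩
  rw [mul_assoc x a₁ g, ← hg₁def, ← hg₂def]
  have hk2 : ∀ b, g₂ k b = g₁ k b := fun b => by rw [hx', if_neg hkt]
  have hg₂ : Cleared (A := A) s g₂ := fun a ha b hb => by
    have hat : a ∉ t := by simp [ht, ha]
    refine ⟨by rw [hx', if_neg hat]; exact (hg₁ a ha b hb).1, ?_⟩
    rw [hx']
    have hka : k ≠ a := fun e => hk (e ▸ ha)
    split_ifs
    · rw [(hg₁ a ha b hb).2, (hg₁ a ha k hka).2]; simp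
    · exact (hg₁ a ha b hb).2
  have hcol : ∀ a, a ≠ k → g₂ a k = 0 := fun a ha => by
    rw [hx']
    split_ifs with hat
    · linear_combination (-(g₁ a k)) * hw
    · have has : a ∈ s := by simpa [ht, ha] using hat
      exact (hg₁ a has k (Ne.symm ha)).1
  intro a ha b hb
  rcases Finset.mem_insert.mp ha with rfl | has
  · refine ⟨?_, ?_⟩
    · rw [hy']
      split_ifs with hbt
      · rw [hk2, hk2]; linear_combination (-(g₁ a b)) * hw
      · have hbs : b ∈ s := by simpa [ht, hb] using hbt
        exact (hg₂ b hbs a (Ne.symm hb)).2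
    · rw [hy', if_neg hkt]
      exact hcol b hb
  · have hat : a ∉ t := by simp [ht, has]
    refine ⟨?_, by rw [hy', if_neg hat]; exact (hg₂ a has b hb).2⟩
    rw [hy']
    have hka : k ≠ a := fun e => hk (e ▸ has)
    split_ifs
    · rw [(hg₂ a has b hb).1, (hg₂ a has k hka).1]; simp
    · exact (hg₂ a has b hb).1

theorem exists_eq_diagonal [IsLocalRing A] (g : GL n A) :
    ∃ a ∈ E n A, ∃ b ∈ E n A, ∃ d : n → Aˣ, a * g * b = dg d := by
  obtain ⟨a, ha, b, hb, h⟩ :
      ∃ a ∈ E n A, ∃ b ∈ E n A, Cleared (Finset.univ : Finset n) (a * g * b) := by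
    suffices ∀ s : Finset n, ∃ a ∈ E n A, ∃ b ∈ E n A, Cleared s (a * g * b) from this _
    intro s
    induction s using Finset.induction_on with
    | empty => exact ⟨1, one_mem _, 1, one_mem _, fun a ha => absurd ha (Finset.notMem_empty a)⟩
    | insert k s hk ih =>
      obtain ⟨a, ha, b, hb, h⟩ := ih
      obtain ⟨a', ha', b', hb', h'⟩ := clear_insert s k hk _ h
      refine ⟨a' * a, mul_mem ha' ha, b * b', mul_mem hb hb', ?_⟩
      simpa only [mul_assoc] using h'
  set m := a * g * b with hm
  have hdiag : ((m : GL n A) : Matrix n n A) = diagonal fun i => m i i := by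
    ext i j
    by_cases e : i = j
    · subst e; simp
    · rw [diagonal_apply_ne _ e]
      exact (h i (Finset.mem_univ i) j (Ne.symm e)).1
  have hu : ∀ i, IsUnit (m i i) := by
    intro i
    have : IsUnit ((m : GL n A) : Matrix n n A).det :=
      (Matrix.isUnit_iff_isUnit_det _).mp m.isUnit
    rw [hdiag, det_diagonal, IsUnit.prod_iff] at this
    exact this i (Finset.mem_univ i)
  refine ⟨a, ha, b, hb, fun i => (hu i).unit, Units.ext ?_⟩
  rw [coe_dg]
  exact hdiag.trans (congrArg diagonal (funext fun i => (IsUnit.unit_spec _).symm))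

end Groth.Agent.CAlgOdd.GLElim
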