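import Mathlib
import Groth.Agent.CAlgOdd.GLElim

/-!
Characters of the general linear group scheme over a ring with connected spectrum.
-/

universe u

namespace Groth.Agent.CAlgOdd.GLChar

open Matrix GLElim

open LaurentPolynomial in
/-- The evaluation at a unit, as an algebra map. -/
noncomputable def ev (R : Type u) [CommRing R] {B : Type u} [CommRing B] [Algebra R B] (x : Bˣ) :
    LaurentPolynomial R →ₐ[R] B :=
  AddMonoidAlgebra.lift R B ℤ ((Units.coeHom B).comp (zpowersHom Bˣ x))

section

open LaurentPolynomial

variable {R : Type u} [CommRing R]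

theorem ev_single {B : Type u} [CommRing B] [Algebra R B] (x : Bˣ) (i : ℤ) (a : R) :
    ev R x (AddMonoidAlgebra.single i a) = a • ((x ^ i : Bˣ) : B) := by
  rw [ev, AddMonoidAlgebra.lift_single]
  simp

variable (R) in
/-- The variable as a unit. -/
noncomputable def Tu : (LaurentPolynomial R)ˣ where
  val := T 1
  inv := T (-1)
  val_inv := by rw [← T_add]; simp
  inv_val := by rw [← T_add]; simp

theorem Tu_zpow (i : ℤ) : ((Tu R ^ i : (LaurentPolynomial R)ˣ) : LaurentPolynomial R) = T i := by
  induction i using Int.induction_on with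
  | zero => simp
  | succ i ih => rw [_root_.zpow_add_one, Units.val_mul, ih, T_add]; rfl
  | pred i ih => rw [_root_.zpow_sub_one, Units.val_mul, ih, sub_eq_add_neg, T_add]; rfl

theorem ev_Tu {B : Type u} [CommRing B] [Algebra R B] (x : Bˣ) :
    Units.map (ev R x).toRingHom (Tu R) = x := by
  apply Units.ext
  change ev R x (T 1) = _
  rw [T, ev_single]
  simp

theorem eq_zero_or_one_of_isIdempotentElem [ConnectedSpace (PrimeSpectrum R)] {a : R}
    (ha : IsIdempotentElem a) : a = 0 ∨ a = 1 := by
  rcases isClopen_iff.mp (PrimeSpectrum.isClopen_iff.mpr ⟨a, ha, rfl⟩ :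
    IsClopen (PrimeSpectrum.basicOpen a : Set (PrimeSpectrum R))) with h | h
  · refine Or.inl (PrimeSpectrum.basicOpen_injOn_isIdempotentElem ha IsIdempotentElem.zero ?_)
    exact SetLike.ext' (by simpa using h)
  · refine Or.inr (PrimeSpectrum.basicOpen_injOn_isIdempotentElem ha IsIdempotentElem.one ?_)
    exact SetLike.ext' (by simpa using h)

/-- Characters of the multiplicative group scheme. -/
theorem exists_zpow [ConnectedSpace (PrimeSpectrum R)]
    (g : ∀ (B : Type u) [CommRing B] [Algebra R B], Bˣ →* Bˣ)
    (hg : ∀ (B C : Type u) [CommRing B] [Algebra R B] [CommRing C] [Algebra R C] (φ : B →ₐ[R] C)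
      (x : Bˣ), g C (Units.map φ.toRingHom x) = Units.map φ.toRingHom (g B x)) :
    ∃ m : ℤ, ∀ (B : Type u) [CommRing B] [Algebra R B] (x : Bˣ), g B x = x ^ m := by
  classical
  let u : LaurentPolynomial R := ((g (LaurentPolynomial R) (Tu R) : (LaurentPolynomial R)ˣ) : _)
  have key : ∀ (B : Type u) [CommRing B] [Algebra R B] (x : Bˣ), (g B x : B) = ev R x u := by
    intro B _ _ x
    have h := hg (LaurentPolynomial R) B (ev R x) (Tu R)
    rw [ev_Tu] at h
    rw [h]
    rfl
  -- the two variables
  let s : (LaurentPolynomial (LaurentPolynomial R))ˣ :=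
    Units.map (LaurentPolynomial.C : LaurentPolynomial R →+* _) (Tu R)
  let t : (LaurentPolynomial (LaurentPolynomial R))ˣ := Tu (LaurentPolynomial R)
  have hC : ∀ (a : R) (z : LaurentPolynomial (LaurentPolynomial R)),
      a • z = C (C a) * z := fun a z => by
    rw [Algebra.smul_def]; rfl
  have hev : ∀ p : LaurentPolynomial R, ev R s p = C p := by
    intro p
    induction p using LaurentPolynomial.induction_on' with
    | add p q hp hq => rw [map_add, map_add, hp, hq]
    | C_mul_T n a =>
      rw [← single_eq_C_mul_T, ev_single, hC, ← map_zpow, single_eq_C_mul_T, map_mul]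
      congr 1
      exact congrArg C (Tu_zpow n)
  have hcoe : ∀ (p : LaurentPolynomial R) (j : ℤ),
      (ev R t p).coeff j = C (p.coeff j) ∧ (ev R (s * t) p).coeff j = C (p.coeff j) * T j := by
    intro p
    induction p using LaurentPolynomial.induction_on' with
    | add p q hp hq =>
      intro j
      simp [map_add, (hp j).1, (hq j).1, (hp j).2, (hq j).2, add_mul]
    | C_mul_T n a =>
      intro j
      have e1 : ev R t (C a * T n) = AddMonoidAlgebra.single n (C a) := by
        rw [← single_eq_C_mul_T, ev_single, hC, single_eq_C_mul_T]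
        congr 1
        exact Tu_zpow n
      have e2 : ev R (s * t) (C a * T n) = AddMonoidAlgebra.single n (C a * T n) := by
        rw [← single_eq_C_mul_T, ev_single, hC, single_eq_C_mul_T, _root_.mul_zpow s t n, Units.val_mul,
          ← map_zpow, single_eq_C_mul_T, map_mul C, mul_assoc]
        congr 2
        · exact congrArg C (Tu_zpow n)
        · exact Tu_zpow n
      rw [e1, e2, ← single_eq_C_mul_T, AddMonoidAlgebra.coeff_single, AddMonoidAlgebra.coeff_single,
        AddMonoidAlgebra.coeff_single, single_eq_C_mul_T]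
      by_cases e : n = j
      · subst e; simp
      · simp [Finsupp.single_eq_of_ne' e]
  have hmul : ev R (s * t) u = ev R s u * ev R t u := by
    rw [← key, ← key, ← key, map_mul, Units.val_mul]
  have hrel : ∀ j, C (u.coeff j) * T j = u * C (u.coeff j) := by
    intro j
    have h := congrArg (fun p : LaurentPolynomial (LaurentPolynomial R) => p.coeff j) hmul
    simp only [(hcoe u j).2, hev] at h
    rw [h, ← single_eq_C, AddMonoidAlgebra.coeff_single_zero_mul, (hcoe u j).1]
  have horth : ∀ i j, u.coeff i * u.coeff j = if i = j then u.coeff j else 0 := by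
    intro i j
    have h := congrArg (fun p : LaurentPolynomial R => p.coeff i) (hrel j)
    rw [← single_eq_C_mul_T, ← single_eq_C, AddMonoidAlgebra.coeff_mul_single_zero,
      AddMonoidAlgebra.coeff_single] at h
    rw [← h]
    by_cases e : i = j
    · subst e; simp
    · simp [e, Finsupp.single_eq_of_ne e]
  have hne : ∃ m, u.coeff m = 1 := by
    by_contra hcon
    push Not at hcon
    have hu0 : u = 0 := LaurentPolynomial.ext fun j => by
      rcases eq_zero_or_one_of_isIdempotentElem
        (show IsIdempotentElem (u.coeff j) by simpa [IsIdempotentElem] using horth j j) with h | h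
      · simpa using h
      · exact absurd h (hcon j)
    have h1 : (1 : R) = 0 := by
      have := key R 1
      rw [map_one, hu0, map_zero] at this
      simpa using this
    exact hcon 0 ((subsingleton_of_zero_eq_one h1.symm).elim _ _)
  obtain ⟨m, hm⟩ := hne
  refine ⟨m, fun B _ _ x => Units.ext ?_⟩
  have hum : u = T m := LaurentPolynomial.ext fun j => by
    have := horth m j
    rw [hm, one_mul] at this
    rw [this, T, AddMonoidAlgebra.coeff_single]
    by_cases e : m = j
    · subst e; simp [hm]
    · simp [e, Finsupp.single_eq_of_ne' e]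
  rw [key, hum, T, ev_single, one_smul]

end

open GLElim in
theorem exists_det_zpow {R : Type u} [CommRing R] [ConnectedSpace (PrimeSpectrum R)] {n : ℕ}
    (hn : 0 < n)
    (f : ∀ (B : Type u) [CommRing B] [Algebra R B], GL (Fin n) B →* Bˣ)
    (hf : ∀ (B C : Type u) [CommRing B] [Algebra R B] [CommRing C] [Algebra R C] (φ : B →ₐ[R] C)
      (g : GL (Fin n) B),
      f C (GeneralLinearGroup.map φ.toRingHom g) = Units.map φ.toRingHom (f B g)) :
    ∃ m : ℤ, ∀ (B : Type u) [CommRing B] [Algebra R B] (g : GL (Fin n) B),
      f B g = GeneralLinearGroup.det g ^ m := by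
  classical
  let k₀ : Fin n := ⟨0, hn⟩
  obtain ⟨m, hm⟩ := exists_zpow (R := R)
    (fun B _ _ => (f B).comp (dg.comp (MonoidHom.mulSingle (fun _ : Fin n => Bˣ) k₀)))
    (fun B C _ _ _ _ φ x => by
      simp only [MonoidHom.comp_apply, MonoidHom.mulSingle_apply]
      rw [← hf, map_dg]
      congr 2
      funext a
      exact (Pi.apply_mulSingle (fun _ => Units.map (φ.toRingHom : B →* C))
        (fun _ => map_one _) k₀ x a).symm)
  refine ⟨m, ?_⟩
  have hdg : ∀ (B : Type u) [CommRing B] [Algebra R B] (d : Fin n → Bˣ),
      f B (dg d) = (∏ a, d a) ^ m := by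
    intro B _ _ d
    have hsingle : ∀ (k : Fin n) (x : Bˣ), f B (dg (Pi.mulSingle k x)) = x ^ m := by
      intro k x
      have h1 := congrArg (f B) (sw_conj k k₀ (Pi.mulSingle k₀ x))
      rw [map_mul, map_mul, map_inv, mul_inv_cancel_comm] at h1
      have h2 : f B (dg (Pi.mulSingle k₀ x)) = x ^ m := by simpa using hm B x
      rw [h2] at h1
      rw [h1]
      congr 2
      funext a
      simp only [Function.comp_apply, Pi.mulSingle_apply]
      by_cases e : a = k
      · subst e; simp
      · rw [if_neg e, if_neg]
        intro e'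
        exact e (by rw [← Equiv.swap_apply_self k k₀ a, e', Equiv.swap_apply_right])
    conv_lhs => rw [← Finset.univ_prod_mulSingle d]
    rw [← MonoidHom.comp_apply, map_prod, ← Finset.prod_zpow]
    simp only [MonoidHom.comp_apply, hsingle]
  have hut : ∀ (B : Type u) [CommRing B] [Algebra R B] (i j : Fin n) (h : i ≠ j) (c : B),
      f B (ut h c) = 1 := by
    intro B _ _ i j h c
    let v : (Polynomial R)ˣ := f (Polynomial R) (ut h Polynomial.X)
    let L := LaurentPolynomial R
    let w : Rˣ := f R (ut h 1)
    have hconj : f L (ut h (LaurentPolynomial.T 1)) = f L (ut h 1) := by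
      let D : GL (Fin n) L := dg (Pi.mulSingle i (Tu R))
      have h1 := congrArg (f L) (dg_mul_ut h (Pi.mulSingle i (Tu R)) (1 : L))
      rw [map_mul, map_mul, mul_comm (f L (ut h _)) _] at h1
      have h2 := (mul_left_cancel h1).symm
      rw [Pi.mulSingle_eq_same, Pi.mulSingle_eq_of_ne (Ne.symm h), inv_one, Units.val_one,
        mul_one, mul_one] at h2
      exact h2
    have hv : (v : Polynomial R) = Polynomial.C (w : R) := by
      apply Polynomial.toLaurent_injective
      have h1 := congrArg (fun x : Lˣ => (x : L))
        (hf (Polynomial R) L Polynomial.toLaurentAlg (ut h Polynomial.X))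
      rw [map_ut] at h1
      have h2 := congrArg (fun x : Lˣ => (x : L)) (hf R L (Algebra.ofId R L) (ut h 1))
      rw [map_ut] at h2
      have hX : (Polynomial.toLaurentAlg : Polynomial R →ₐ[R] L).toRingHom Polynomial.X =
          LaurentPolynomial.T 1 := Polynomial.toLaurent_X
      rw [hX, hconj] at h1
      rw [map_one] at h2
      rw [Polynomial.toLaurent_C]
      exact h1.symm.trans h2
    have hw : w = 1 := by
      have h1 := hf (Polynomial R) R (Polynomial.aeval 0) (ut h Polynomial.X)
      rw [map_ut] at h1
      have h0 : ut h (0 : R) = 1 := Units.ext (transvection_zero i j)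
      simp only [AlgHom.toRingHom_eq_coe, RingHom.coe_coe, Polynomial.aeval_X, h0, map_one] at h1
      have h2 := congrArg (fun x : Rˣ => (x : R)) h1
      apply Units.ext
      simpa [v, hv] using h2.symm
    have h1 := hf (Polynomial R) B (Polynomial.aeval c) (ut h Polynomial.X)
    rw [map_ut] at h1
    simp only [AlgHom.toRingHom_eq_coe, RingHom.coe_coe, Polynomial.aeval_X] at h1
    rw [h1]
    apply Units.ext
    change (Polynomial.aeval c : Polynomial R →ₐ[R] B) (v : Polynomial R) = 1
    simp [hv, hw]
  intro B _ _ g
  apply Units.ext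
  apply Module.eq_of_localization_maximal (R := B) (M := B)
    (fun P _ => Localization.AtPrime P) (fun P _ => Algebra.linearMap B (Localization.AtPrime P))
  intro P hP
  let φ : B →ₐ[R] Localization.AtPrime P := IsScalarTower.toAlgHom R B _
  obtain ⟨a, ha, b, hb, d, hd⟩ :=
    GLElim.exists_eq_diagonal (GeneralLinearGroup.map φ.toRingHom g)
  have hfd := congrArg (f _) hd
  rw [map_mul, map_mul, E_le_ker (f _) (hut _) ha, E_le_ker (f _) (hut _) hb, one_mul, mul_one,
    hdg] at hfd
  have hdd := congrArg GeneralLinearGroup.det hd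
  rw [map_mul, map_mul, det_of_mem_E ha, det_of_mem_E hb, one_mul, mul_one, det_dg] at hdd
  rw [← hdd, hf] at hfd
  have := congrArg (fun x : (Localization.AtPrime P)ˣ => (x : Localization.AtPrime P)) hfd
  rw [GeneralLinearGroup.map_det, ← map_zpow] at this
  exact this

end Groth.Agent.CAlgOdd.GLChar
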