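import Mathlib
import Groth.Agent.CAlgOdd.GLElim

/-!
`SL_n` is étale locally contained in the commutator subgroup of `GL_n`.
-/

universe u v

namespace Groth.Agent.CAlgOdd.GLComm

open Matrix GLElim
open scoped commutatorElement

section

variable {n : Type v} [Fintype n] [DecidableEq n] {A : Type u} [CommRing A] {B : Type u} [CommRing B]

/-- A diagonal matrix with `x` and `x⁻¹` at two places. -/
noncomputable def pair (k l : n) (x : Aˣ) : GL n A := dg (Pi.mulSingle k x * Pi.mulSingle l x⁻¹)

variable (n A) in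
/-- The subgroup generated by transvections and the `pair`s. -/
def K : Subgroup (GL n A) :=
  Subgroup.closure
    ({g | ∃ (i j : n) (h : i ≠ j) (c : A), g = ut h c} ∪ {g | ∃ (k l : n) (x : Aˣ), g = pair k l x})

theorem E_le_K : E n A ≤ K n A := Subgroup.closure_mono Set.subset_union_left

theorem pair_mem (k l : n) (x : Aˣ) : pair k l x ∈ K n A :=
  Subgroup.subset_closure (Or.inr ⟨k, l, x, rfl⟩)

theorem map_pair (φ : A →+* B) (k l : n) (x : Aˣ) :
    GeneralLinearGroup.map φ (pair k l x) = pair k l (Units.map (φ : A →* B) x) := by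
  rw [pair, map_dg, pair]
  congr 1
  funext a
  simp only [Pi.mul_apply, map_mul]
  rw [Pi.apply_mulSingle (fun _ => Units.map (φ : A →* B)) (fun _ => map_one _),
    Pi.apply_mulSingle (fun _ => Units.map (φ : A →* B)) (fun _ => map_one _), map_inv]

theorem K_le_comap (φ : A →+* B) : K n A ≤ (K n B).comap (GeneralLinearGroup.map φ) := by
  refine (Subgroup.closure_le _).mpr ?_
  rintro g (⟨i, j, h, c, rfl⟩ | ⟨k, l, x, rfl⟩)
  · rw [SetLike.mem_coe, Subgroup.mem_comap, map_ut]
    exact E_le_K (ut_mem h _)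
  · rw [SetLike.mem_coe, Subgroup.mem_comap, map_pair]
    exact pair_mem k l _

theorem mem_K_of_det_eq_one [IsLocalRing A] (g : GL n A) (hg : GeneralLinearGroup.det g = 1) :
    g ∈ K n A := by
  obtain ⟨a, ha, b, hb, d, hd⟩ := exists_eq_diagonal g
  have hdet : ∏ i, d i = 1 := by
    have := congrArg GeneralLinearGroup.det hd
    rwa [map_mul, map_mul, det_of_mem_E ha, det_of_mem_E hb, one_mul, mul_one, det_dg, hg,
      eq_comm] at this
  suffices h : dg d ∈ K n A by
    have e : g = a⁻¹ * dg d * b⁻¹ := by rw [← hd]; group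
    rw [e]
    exact mul_mem (mul_mem (inv_mem (E_le_K ha)) h) (inv_mem (E_le_K hb))
  cases isEmpty_or_nonempty n with
  | inl h => rw [Subsingleton.elim d 1, map_one]; exact one_mem _
  | inr h =>
    obtain ⟨k₀⟩ := h
    have e : d = ∏ k, (Pi.mulSingle k (d k) * Pi.mulSingle k₀ (d k)⁻¹ : n → Aˣ) := by
      rw [Finset.prod_mul_distrib, Finset.univ_prod_mulSingle]
      have : ∏ k, (Pi.mulSingle k₀ (d k)⁻¹ : n → Aˣ) = 1 := by
        change ∏ k, MonoidHom.mulSingle (fun _ : n => Aˣ) k₀ (d k)⁻¹ = 1
        rw [← map_prod, Finset.prod_inv_distrib, hdet, inv_one, map_one]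
      rw [this, mul_one]
    rw [e, ← Subgroup.mem_comap]
    exact Subgroup.prod_mem _ fun k _ => pair_mem k k₀ (d k)

theorem K_le_commutator {t : A} (ht : IsUnit t) (ht1 : IsUnit (t - 1)) :
    K n A ≤ commutator (GL n A) := by
  have hc : ∀ a b : GL n A, ⁅a, b⁆ ∈ commutator (GL n A) := fun a b =>
    Subgroup.commutator_mem_commutator (Subgroup.mem_top a) (Subgroup.mem_top b)
  refine (Subgroup.closure_le _).mpr ?_
  rintro g (⟨i, j, h, c, rfl⟩ | ⟨k, l, x, rfl⟩)
  · obtain ⟨w, hw⟩ := ht1.exists_right_inv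
    have e : ⁅dg (Pi.mulSingle i ht.unit), ut h (c * w)⁆ = ut h c := by
      rw [commutatorElement_def, dg_mul_ut, Pi.mulSingle_eq_same,
        Pi.mulSingle_eq_of_ne (Ne.symm h), inv_one, Units.val_one, mul_one, mul_inv_cancel_right,
        mul_inv_eq_iff_eq_mul, ut_add, IsUnit.unit_spec]
      congr 1
      linear_combination c * hw
    exact e ▸ hc _ _
  · have e : ⁅dg (Pi.mulSingle k x), sw k l⁆ = pair k l x := by
      rw [commutatorElement_def, mul_assoc, mul_assoc, ← mul_assoc (sw k l), ← map_inv, sw_conj,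
        ← map_mul, pair]
      congr 2
      funext a
      rw [Function.comp_apply, Pi.inv_apply]
      rcases eq_or_ne k l with rfl | hkl
      · rcases eq_or_ne a k with rfl | hak <;> simp [*, Pi.mulSingle_apply]
      · simp only [Pi.mulSingle_apply, apply_ite (fun y : Aˣ => y⁻¹), inv_one]
        refine if_congr ⟨fun e => ?_, fun e => ?_⟩ rfl rfl
        · rw [← Equiv.swap_apply_self k l a, e, Equiv.swap_apply_left]
        · rw [e, Equiv.swap_apply_right]
    exact e ▸ hc _ _

end

section descent

variable {A : Type u} [CommRing A] (p : Ideal A) [p.IsPrime] {n : Type v} [Fintype n] [DecidableEq n]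

/-- Elements of `GL` over the local ring coming from `K` over a basic open. -/
def Descends (g : GL n (Localization.AtPrime p)) : Prop :=
  ∃ f, f ∉ p ∧ ∃ h ∈ K n (Localization.Away f),
    ∀ φ : Localization.Away f →ₐ[A] Localization.AtPrime p,
      GeneralLinearGroup.map φ.toRingHom h = g

theorem exists_algHom {f : A} {B : Type u} [CommRing B] [Algebra A B]
    (hf : IsUnit (algebraMap A B f)) : Nonempty (Localization.Away f →ₐ[A] B) := by
  refine ⟨IsLocalization.liftAlgHom (M := Submonoid.powers f) (f := Algebra.ofId A B) ?_⟩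
  rintro ⟨_, k, rfl⟩
  simpa using hf.pow k

theorem algHom_ext {f : A} {B : Type u} [CommRing B] [Algebra A B]
    (φ ψ : Localization.Away f →ₐ[A] B) : φ = ψ :=
  (IsLocalization.algHom_subsingleton (Submonoid.powers f)).elim φ ψ

theorem isUnit_away_of_dvd {f g : A} (h : g ∣ f) :
    IsUnit (algebraMap A (Localization.Away f) g) :=
  isUnit_of_dvd_unit (map_dvd _ h)
    (IsLocalization.map_units (Localization.Away f) ⟨f, Submonoid.mem_powers f⟩)

theorem map_map {A B C : Type u} [CommRing A] [CommRing B] [CommRing C] (φ : A →+* B)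
    (ψ : B →+* C) (g : GL n A) :
    GeneralLinearGroup.map ψ (GeneralLinearGroup.map φ g) = GeneralLinearGroup.map (ψ.comp φ) g :=
  Units.ext (Matrix.ext fun _ _ => rfl)

theorem descends_of_mem {g : GL n (Localization.AtPrime p)}
    (hg : g ∈ K n (Localization.AtPrime p)) : Descends p g := by
  induction hg using Subgroup.closure_induction with
  | mem g hg =>
    rcases hg with ⟨i, j, h, c, rfl⟩ | ⟨k, l, x, rfl⟩
    · obtain ⟨⟨a, s⟩, hs⟩ := IsLocalization.surj p.primeCompl c
      obtain ⟨w, hw⟩ := (isUnit_away_of_dvd (dvd_refl (s : A))).exists_right_inv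
      refine ⟨s, s.2, ut h (algebraMap A _ a * w), E_le_K (ut_mem h _), fun φ => ?_⟩
      rw [map_ut]
      congr 1
      apply (IsLocalization.map_units (Localization.AtPrime p) s).mul_left_inj.mp
      rw [hs, AlgHom.toRingHom_eq_coe, RingHom.coe_coe, ← φ.commutes (s : A), ← map_mul, mul_assoc,
        mul_comm w, hw, mul_one, φ.commutes]
    · obtain ⟨⟨a, s⟩, hs⟩ := IsLocalization.surj p.primeCompl (x : Localization.AtPrime p)
      have ha : a ∉ p := by
        have : IsUnit (algebraMap A (Localization.AtPrime p) a) :=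
          hs ▸ x.isUnit.mul (IsLocalization.map_units _ s)
        exact (IsLocalization.AtPrime.isUnit_to_map_iff _ p a).mp this
      have hua := isUnit_away_of_dvd (f := a * (s : A)) (dvd_mul_right a _)
      have hus := isUnit_away_of_dvd (f := a * (s : A)) (g := (s : A)) (dvd_mul_left _ a)
      refine ⟨a * s, fun hmem => (Ideal.IsPrime.mem_or_mem inferInstance hmem).elim ha s.2,
        pair k l (hua.unit * hus.unit⁻¹), pair_mem _ _ _, fun φ => ?_⟩
      rw [map_pair]
      congr 1
      rw [map_mul, map_inv, mul_inv_eq_iff_eq_mul]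
      apply Units.ext
      rw [Units.val_mul, Units.coe_map, Units.coe_map, IsUnit.unit_spec, IsUnit.unit_spec]
      change φ _ = (x : Localization.AtPrime p) * φ _
      rw [φ.commutes, φ.commutes, hs]
  | one =>
    exact ⟨1, fun h => ‹p.IsPrime›.ne_top ((Ideal.eq_top_iff_one p).mpr h), 1, one_mem _,
      fun φ => map_one _⟩
  | mul g g' _ _ ih ih' =>
    obtain ⟨f, hf, h, hh, e⟩ := ih
    obtain ⟨f', hf', h', hh', e'⟩ := ih'
    obtain ⟨ψ⟩ := exists_algHom (isUnit_away_of_dvd (f := f * f') (dvd_mul_right f f'))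
    obtain ⟨ψ'⟩ := exists_algHom (isUnit_away_of_dvd (f := f * f') (dvd_mul_left f' f))
    refine ⟨f * f', fun hmem => (Ideal.IsPrime.mem_or_mem inferInstance hmem).elim hf hf',
      GeneralLinearGroup.map ψ.toRingHom h * GeneralLinearGroup.map ψ'.toRingHom h',
      mul_mem (K_le_comap _ hh) (K_le_comap _ hh'), fun φ => ?_⟩
    rw [map_mul, map_map, map_map]
    exact congr_arg₂ (· * ·) (e (φ.comp ψ)) (e' (φ.comp ψ'))
  | inv g _ ih =>
    obtain ⟨f, hf, h, hh, e⟩ := ih
    exact ⟨f, hf, h⁻¹, inv_mem hh, fun φ => by rw [map_inv, e φ]⟩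

theorem exists_away_mem (g : GL n A) (hg : GeneralLinearGroup.det g = 1) :
    ∃ f, f ∉ p ∧ GeneralLinearGroup.map (algebraMap A (Localization.Away f)) g ∈
      K n (Localization.Away f) := by
  classical
  let gp := GeneralLinearGroup.map (algebraMap A (Localization.AtPrime p)) g
  have hgp : gp ∈ K n (Localization.AtPrime p) := by
    refine mem_K_of_det_eq_one _ ?_
    rw [GeneralLinearGroup.map_det, hg, map_one]
  obtain ⟨f, hf, h, hh, e⟩ := descends_of_mem p hgp
  obtain ⟨φ⟩ := exists_algHom
    (IsLocalization.map_units (Localization.AtPrime p) (⟨f, hf⟩ : p.primeCompl))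
  have key : ∀ ab : n × n, ∃ u, u ∉ p ∧ algebraMap A (Localization.Away f) u * h ab.1 ab.2 =
      algebraMap A (Localization.Away f) (u * g ab.1 ab.2) := by
    intro ab
    obtain ⟨⟨y, v⟩, hv⟩ := IsLocalization.surj (Submonoid.powers f) (h ab.1 ab.2)
    have hφ : φ (h ab.1 ab.2) = algebraMap A (Localization.AtPrime p) (g ab.1 ab.2) :=
      congrArg (fun z : GL n (Localization.AtPrime p) => z ab.1 ab.2) (e φ)
    have h1 := congrArg φ hv
    rw [map_mul, φ.commutes, φ.commutes, hφ, ← map_mul] at h1
    obtain ⟨c, hc⟩ := (IsLocalization.eq_iff_exists p.primeCompl _).mp h1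
    refine ⟨(c : A) * v, fun hmem => ?_, ?_⟩
    · rcases Ideal.IsPrime.mem_or_mem inferInstance hmem with hm | hm
      · exact c.2 hm
      · obtain ⟨k, hk⟩ := v.2
        exact hf (Ideal.IsPrime.mem_of_pow_mem inferInstance k (by simpa [← hk] using hm))
    · rw [map_mul, mul_assoc, mul_comm (algebraMap A _ (v : A)), hv, ← map_mul, ← hc]
      ring_nf
  choose u hu hu' using key
  refine ⟨f * ∏ ab, u ab, fun hmem => ?_, ?_⟩
  · rcases Ideal.IsPrime.mem_or_mem inferInstance hmem with hm | hm
    · exact hf hm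
    · obtain ⟨ab, -, hab⟩ := (Ideal.IsPrime.prod_mem_iff).mp hm
      exact hu ab hab
  · obtain ⟨ψ⟩ := exists_algHom (isUnit_away_of_dvd (f := f * ∏ ab, u ab) (dvd_mul_right f _))
    have : GeneralLinearGroup.map (algebraMap A (Localization.Away (f * ∏ ab, u ab))) g =
        GeneralLinearGroup.map ψ.toRingHom h := by
      apply Units.ext
      ext a b
      apply (isUnit_away_of_dvd (f := f * ∏ ab, u ab) (g := u (a, b))
        ((Finset.dvd_prod_of_mem u (Finset.mem_univ _)).trans (dvd_mul_left _ f))).mul_right_inj.mp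
      have h1 := congrArg ψ (hu' (a, b))
      rw [map_mul, ψ.commutes, ψ.commutes, map_mul] at h1
      exact h1.symm
    rw [this]
    exact K_le_comap _ hh

end descent

open Polynomial in
/-- The pair defining a sixth cyclotomic extension, for `3` invertible. -/
noncomputable def sixth (B : Type u) [CommRing B] (v : B) (hv : 3 * v = 1) : StandardEtalePair B where
  f := X ^ 2 - X + 1
  monic_f := by monicity!
  g := 1
  cond := ⟨-((2 * X - 1) * Polynomial.C v), 4 * Polynomial.C v, 0, by
    have h : (3 : Polynomial B) * Polynomial.C v = 1 := by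
      rw [← map_ofNat (Polynomial.C : B →+* Polynomial B) 3, ← map_mul, hv, map_one]
    simp only [derivative_add, derivative_sub, derivative_X_pow, derivative_X, derivative_one,
      map_natCast, Nat.cast_ofNat, map_ofNat]
    linear_combination h⟩

theorem exists_prime_over_sixth (B : Type u) [CommRing B] (v : B) (hv : 3 * v = 1) (q : Ideal B)
    [q.IsPrime] :
    ∃ Q : PrimeSpectrum (sixth B v hv).Ring, Q.asIdeal.comap (algebraMap B _) = q := by
  let F := AlgebraicClosure q.ResidueField
  letI : Algebra B F := ((algebraMap q.ResidueField F).comp (algebraMap B q.ResidueField)).toAlgebra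
  obtain ⟨x, hx⟩ := IsAlgClosed.exists_root (Polynomial.X ^ 2 - Polynomial.X + 1 : Polynomial F)
    (by
      have : (Polynomial.X ^ 2 - Polynomial.X + 1 : Polynomial F).natDegree = 2 := by
        compute_degree!
      rw [Polynomial.degree_eq_natDegree (fun h => by rw [h] at this; simp at this), this]
      norm_num)
  have hmap : (sixth B v hv).HasMap x := ⟨by simpa [sixth] using hx, by simp [sixth]⟩
  let π := (sixth B v hv).lift x hmap
  refine ⟨⟨RingHom.ker π.toRingHom, RingHom.ker_isPrime _⟩, ?_⟩
  ext b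
  rw [Ideal.mem_comap]
  change π (algebraMap B _ b) = 0 ↔ b ∈ q
  rw [π.commutes]
  change algebraMap q.ResidueField F (algebraMap B q.ResidueField b) = 0 ↔ b ∈ q
  rw [map_eq_zero]
  exact Ideal.algebraMap_residueField_eq_zero

end Groth.Agent.CAlgOdd.GLComm
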