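import Mathlib
import Groth.Agent.GeomConn5.Irred

/-!
Geometric irreducibility of field extensions, in terms of tensor products.
-/

universe u

namespace Groth.Agent.CAlgOdd.GeomIrrField

open CategoryTheory CategoryTheory.Limits AlgebraicGeometry TensorProduct

theorem irreducibleSpace_tensor (k K : Type u) [Field k] [Field K] [Algebra k K]
    (h : ∀ a : K, IsSeparable k a → a ∈ Set.range (algebraMap k K))
    (k' : Type u) [Field k'] [Algebra k k'] :
    IrreducibleSpace (PrimeSpectrum (k' ⊗[k] K)) := by
  have hg := GeomConn5.geometricallyIrreducible_spec_field k K h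
  have h1 : IrreducibleSpace ↥(pullback (Spec.map (CommRingCat.ofHom (algebraMap k K)))
      (Spec.map (CommRingCat.ofHom (algebraMap k k')))) :=
    hg.geometrically_irreducibleSpace _ _ _ (IsPullback.of_hasPullback _ _)
  have h2 : IrreducibleSpace (PrimeSpectrum (K ⊗[k] k')) :=
    ((Scheme.homeoOfIso (pullbackSpecIso k K k')).irreducibleSpace_iff).mp h1
  exact (PrimeSpectrum.homeomorphOfRingEquiv
    (Algebra.TensorProduct.comm k K k').toRingEquiv).irreducibleSpace_iff.mp h2

theorem separable_mem_range (k K : Type u) [Field k] [IsSepClosed k] [Field K] [Algebra k K] (a : K)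
    (ha : IsSeparable k a) : a ∈ Set.range (algebraMap k K) := by
  have h1 := IsSepClosed.degree_eq_one_of_irreducible k (minpoly.irreducible ha.isIntegral) ha
  have h2 : (minpoly k a).natDegree = 1 := Polynomial.natDegree_eq_of_degree_eq_some h1
  exact minpoly.natDegree_eq_one_iff.mp h2

theorem isPrime_nilradical_tensor (k R S : Type u) [Field k] [IsSepClosed k] [CommRing R] [CommRing S]
    [IsDomain R] [IsDomain S] [Algebra k R] [Algebra k S] :
    (nilradical (R ⊗[k] S)).IsPrime := by
  let F := FractionRing R
  let L := FractionRing S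
  have h := irreducibleSpace_tensor k L (separable_mem_range k L) F
  rw [PrimeSpectrum.irreducibleSpace_iff_isPrime_nilradical] at h
  let j : R ⊗[k] S →ₐ[k] F ⊗[k] L :=
    Algebra.TensorProduct.map (IsScalarTower.toAlgHom k R F) (IsScalarTower.toAlgHom k S L)
  have hj : Function.Injective j :=
    TensorProduct.map_injective_of_flat_flat (IsScalarTower.toAlgHom k R F).toLinearMap
      (IsScalarTower.toAlgHom k S L).toLinearMap (IsFractionRing.injective R F)
      (IsFractionRing.injective S L)
  have e : nilradical (R ⊗[k] S) = (nilradical (F ⊗[k] L)).comap j.toRingHom := by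
    ext x
    simp only [mem_nilradical, Ideal.mem_comap]
    exact (IsNilpotent.map_iff (f := j) hj).symm
  rw [e]
  exact h.comap j.toRingHom

theorem isPrime_nilradical_of_ker_le {A B : Type u} [CommRing A] [CommRing B] (f : A →+* B)
    (hk : RingHom.ker f ≤ nilradical A) (hf : Function.Surjective f)
    (hB : (nilradical B).IsPrime) : (nilradical A).IsPrime := by
  have e : nilradical A = (nilradical B).comap f := by
    ext x
    simp only [mem_nilradical, Ideal.mem_comap]
    refine ⟨fun hx => hx.map f, ?_⟩
    rintro ⟨m, hm⟩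
    rw [← map_pow] at hm
    obtain ⟨l, hl⟩ := mem_nilradical.mp (hk hm)
    exact ⟨m * l, by rw [pow_mul]; exact hl⟩
  rw [e]
  exact hB.comap f

theorem hasUniqueMinimalPrime_iff (A : Type u) [CommRing A] :
    (∃! p : Ideal A, p ∈ minimalPrimes A) ↔ (nilradical A).IsPrime := by
  constructor
  · rintro ⟨p, hp, huniq⟩
    have e : nilradical A = p := by
      rw [nilradical, Ideal.radical_eq_sInf, Ideal.zero_eq_bot]
      refine le_antisymm (sInf_le ⟨bot_le, hp.1.1⟩) (le_sInf fun J hJ => ?_)
      haveI := hJ.2
      obtain ⟨q, hq, hqJ⟩ := Ideal.exists_minimalPrimes_le (show (⊥ : Ideal A) ≤ J from bot_le)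
      exact huniq q hq ▸ hqJ
    rw [e]; exact hp.1.1
  · intro h
    refine ⟨nilradical A, ⟨⟨h, bot_le⟩, fun q hq _ => ?_⟩, fun q hq => ?_⟩
    · haveI := hq.1
      exact nilradical_le_prime q
    · haveI := hq.1.1
      exact le_antisymm (hq.2 ⟨h, bot_le⟩ (nilradical_le_prime q)) (nilradical_le_prime q)

end Groth.Agent.CAlgOdd.GeomIrrField
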