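import Mathlib

/-!
# Extension across points with two regular elements, without Noetherian hypotheses
-/

set_option autoImplicit false
set_option linter.style.haveILetI false

universe u

open AlgebraicGeometry CategoryTheory TopologicalSpace Opposite
open scoped Pointwise

namespace Groth.Agent.CAlgOdd.HartogsTwo

/-- The maximal ideal contains a regular sequence of length two (weakly). -/
def Reg2 (R : Type u) [CommRing R] [IsLocalRing R] : Prop :=
  ∃ a b : R, a ∈ IsLocalRing.maximalIdeal R ∧ b ∈ IsLocalRing.maximalIdeal R ∧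
    (∀ x : R, a * x = 0 → x = 0) ∧ ∀ x : R, a ∣ b * x → a ∣ x

theorem reg2_of_isWeaklyRegular {R : Type u} [CommRing R] [IsLocalRing R] {a b : R}
    (ha : a ∈ IsLocalRing.maximalIdeal R) (hb : b ∈ IsLocalRing.maximalIdeal R)
    (h : RingTheory.Sequence.IsWeaklyRegular R [a, b]) : Reg2 R := by
  rw [RingTheory.Sequence.isWeaklyRegular_cons_iff, RingTheory.Sequence.isWeaklyRegular_cons_iff] at h
  obtain ⟨h1, h2, -⟩ := h
  refine ⟨a, b, ha, hb, fun x hx => h1 (show a • x = a • 0 by rw [smul_zero]; exact hx), fun x hx => ?_⟩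
  have key : ∀ y : R, Submodule.Quotient.mk (p := a • (⊤ : Submodule R R)) y = 0 ↔ a ∣ y := fun y => by
    rw [Submodule.Quotient.mk_eq_zero, Submodule.mem_smul_pointwise_iff_exists]
    exact ⟨fun ⟨c, _, hc⟩ => ⟨c, hc.symm⟩, fun ⟨c, hc⟩ => ⟨c, Submodule.mem_top, hc.symm⟩⟩
  refine (key x).1 (h2 (show b • _ = b • (0 : QuotSMulTop a R) from ?_))
  rw [smul_zero]
  exact (key (b * x)).2 hx

theorem Reg2.of_ringEquiv {R S : Type u} [CommRing R] [IsLocalRing R] [CommRing S] [IsLocalRing S] (e : R ≃+* S)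
    (h : Reg2 R) : Reg2 S := by
  obtain ⟨a, b, ha, hb, h1, h2⟩ := h
  have hmem : ∀ c, c ∈ IsLocalRing.maximalIdeal R → e c ∈ IsLocalRing.maximalIdeal S := fun c hc hu =>
    hc (by simpa using hu.map e.symm)
  refine ⟨e a, e b, hmem a ha, hmem b hb, fun x hx => ?_, fun x hx => ?_⟩
  · have h' := congrArg e.symm hx
    rw [map_mul, e.symm_apply_apply, map_zero] at h'
    simpa using congrArg e (h1 _ h')
  · have h' := map_dvd e.symm hx
    rw [map_mul, e.symm_apply_apply, e.symm_apply_apply] at h'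
    simpa using map_dvd e (h2 _ h')

section Algebra

variable {A : Type u} [CommRing A] (p : Ideal A) [p.IsPrime]

/-- The regular pair may be chosen from the global ring, with large exponents. -/
theorem exists_pair (h : Reg2 (Localization.AtPrime p)) : ∃ a b : A, a ∈ p ∧ b ∈ p ∧
    ∀ n : ℕ, (∀ x, (algebraMap A (Localization.AtPrime p) a) ^ n * x = 0 → x = 0) ∧
      ∀ x, (algebraMap A (Localization.AtPrime p) a) ^ n ∣ (algebraMap A (Localization.AtPrime p) b) ^ n * x →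
        (algebraMap A (Localization.AtPrime p) a) ^ n ∣ x := by
  let L := Localization.AtPrime p
  obtain ⟨a, b, ha, hb, h1, h2⟩ := h
  obtain ⟨⟨a₀, s⟩, hs⟩ := IsLocalization.surj p.primeCompl a
  obtain ⟨⟨b₀, t⟩, ht⟩ := IsLocalization.surj p.primeCompl b
  dsimp only at hs ht
  have hus : IsUnit (algebraMap A L s) := IsLocalization.map_units L s
  have hut : IsUnit (algebraMap A L t) := IsLocalization.map_units L t
  have h1' : ∀ x, algebraMap A L a₀ * x = 0 → x = 0 := fun x hx => by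
    rw [← hs, mul_assoc] at hx
    exact hus.mul_right_eq_zero.1 (h1 _ hx)
  have h2' : ∀ x, algebraMap A L a₀ ∣ algebraMap A L b₀ * x → algebraMap A L a₀ ∣ x := fun x hx => by
    rw [← hs, hus.mul_right_dvd] at hx ⊢
    rw [← ht, mul_assoc] at hx
    exact (hut.dvd_mul_left).1 (h2 _ hx)
  refine ⟨a₀, b₀, (IsLocalization.AtPrime.to_map_mem_maximal_iff L p a₀).1 (hs ▸ Ideal.mul_mem_right _ _ ha),
    (IsLocalization.AtPrime.to_map_mem_maximal_iff L p b₀).1 (ht ▸ Ideal.mul_mem_right _ _ hb), fun n => ⟨?_, ?_⟩⟩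
  · induction n with
    | zero => simp
    | succ n ih => exact fun x hx => h1' x (ih _ (by rw [← mul_assoc, ← pow_succ]; exact hx))
  · have one : ∀ k (x : L), (algebraMap A L a₀) ^ k ∣ algebraMap A L b₀ * x → (algebraMap A L a₀) ^ k ∣ x := by
      intro k
      induction k with
      | zero => intro x _; simp
      | succ k ih =>
        intro x hx
        obtain ⟨c, rfl⟩ := h2' x ((dvd_pow_self _ k.succ_ne_zero).trans hx)
        obtain ⟨d, hd⟩ := hx
        have hc : algebraMap A L b₀ * c - (algebraMap A L a₀) ^ k * d = 0 := h1' _ (by rw [mul_sub]; linear_combination hd)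
        rw [pow_succ']
        exact mul_dvd_mul_left _ (ih c ⟨d, sub_eq_zero.1 hc⟩)
    suffices ∀ j (x : L), (algebraMap A L a₀) ^ n ∣ (algebraMap A L b₀) ^ j * x → (algebraMap A L a₀) ^ n ∣ x from this n
    intro j
    induction j with
    | zero => intro x hx; simpa using hx
    | succ j ih =>
      intro x hx
      rw [pow_succ', mul_assoc] at hx
      exact ih x (one n _ hx)

/-- A prime minimal over an ideal: elements of the prime are nilpotent modulo the ideal, locally. -/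
theorem exists_pow_mul_mem {J : Ideal A} (hp : p ∈ J.minimalPrimes) {a : A} (ha : a ∈ p) :
    ∃ (n : ℕ) (t : A), t ∉ p ∧ t * a ^ n ∈ J := by
  let L := Localization.AtPrime p
  have h1 : algebraMap A L a ∈ (J.map (algebraMap A L)).radical := by
    rw [Ideal.radical_eq_sInf, Ideal.mem_sInf]
    rintro P ⟨hJP, hP⟩
    haveI := hP
    have hle : P.comap (algebraMap A L) ≤ p := fun x hx => by
      by_contra hxp
      exact hP.ne_top (P.eq_top_of_isUnit_mem hx (IsLocalization.map_units L (⟨x, hxp⟩ : p.primeCompl)))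
    exact hp.2 ⟨Ideal.comap_isPrime _ P, Ideal.map_le_iff_le_comap.1 hJP⟩ hle ha
  obtain ⟨n, hn⟩ := h1
  rw [← map_pow, IsLocalization.algebraMap_mem_map_algebraMap_iff p.primeCompl L] at hn
  obtain ⟨t, ht, htn⟩ := hn
  exact ⟨n, t, ht, htn⟩

end Algebra

variable {Z : Scheme.{u}} [IsAffine Z] (U : Z.Opens)

/-- The hypothesis, moved to the localisations of the ring of global sections. -/
theorem reg2_atPrime (hZ : ∀ z : Z, z ∉ U → Reg2 (Z.presheaf.stalk z)) (p : Ideal Γ(Z, ⊤)) [p.IsPrime]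
    (hp : (isAffineOpen_top Z).fromSpec ⟨p, ‹_›⟩ ∉ U) : Reg2 (Localization.AtPrime p) := by
  let y : PrimeSpectrum Γ(Z, ⊤) := ⟨p, ‹_›⟩
  letI := TopCat.Presheaf.algebra_section_stalk Z.presheaf
    (⟨(isAffineOpen_top Z).fromSpec y, trivial⟩ : (⊤ : Z.Opens))
  haveI : IsLocalization.AtPrime (Z.presheaf.stalk ((isAffineOpen_top Z).fromSpec y)) p :=
    (isAffineOpen_top Z).isLocalization_stalk' y trivial
  exact (hZ _ hp).of_ringEquiv
    (IsLocalization.algEquiv p.primeCompl (Z.presheaf.stalk ((isAffineOpen_top Z).fromSpec y))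
      (Localization.AtPrime p)).toRingEquiv

/-- Restriction of global sections to `U`. -/
noncomputable abbrev res : Γ(Z, ⊤) →+* Γ(Z, U) := (Z.presheaf.map (homOfLE (le_top : U ≤ ⊤)).op).hom

/-- At a point of `U` some function vanishing outside `U` is a unit. -/
theorem exists_basicOpen (p : Ideal Γ(Z, ⊤)) [p.IsPrime] (hp : (isAffineOpen_top Z).fromSpec ⟨p, ‹_›⟩ ∈ U) :
    ∃ f : Γ(Z, ⊤), f ∉ p ∧ Z.basicOpen f ≤ U := by
  obtain ⟨_, ⟨_, ⟨f, rfl⟩, rfl⟩, hf, hle⟩ := (isBasis_basicOpen Z).exists_subset_of_mem_open hp U.isOpen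
  refine ⟨f, ?_, hle⟩
  have h1 : (⟨p, ‹_›⟩ : PrimeSpectrum Γ(Z, ⊤)) ∈ (isAffineOpen_top Z).fromSpec ⁻¹ᵁ Z.basicOpen f := hf
  rw [(isAffineOpen_top Z).fromSpec_preimage_basicOpen] at h1
  exact h1

theorem res_injective (hZ : ∀ z : Z, z ∉ U → Reg2 (Z.presheaf.stalk z)) : Function.Injective (res U) := by
  refine (injective_iff_map_eq_zero _).2 fun s hs => ?_
  let J : Ideal Γ(Z, ⊤) := (⊥ : Ideal Γ(Z, ⊤)).colon {s}
  have hmem : ∀ c, c ∈ J ↔ c * s = 0 := fun c => by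
    rw [Submodule.mem_colon_singleton, Submodule.mem_bot, smul_eq_mul]
  by_contra hs0
  have hJ : J ≠ ⊤ := fun h => hs0 (by simpa using (hmem 1).1 (h ▸ Submodule.mem_top))
  obtain ⟨M, hM, hJM⟩ := Ideal.exists_le_maximal J hJ
  obtain ⟨p, hp, -⟩ := Ideal.exists_minimalPrimes_le hJM
  haveI := hp.1.1
  by_cases hpU : (isAffineOpen_top Z).fromSpec ⟨p, ‹_›⟩ ∈ U
  · obtain ⟨f, hfp, hle⟩ := exists_basicOpen U p hpU
    haveI := (isAffineOpen_top Z).isLocalization_basicOpen f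
    have h0 : algebraMap Γ(Z, ⊤) Γ(Z, Z.basicOpen f) s = 0 := by
      show Z.presheaf.map (homOfLE (le_top : Z.basicOpen f ≤ ⊤)).op s = 0
      rw [← homOfLE_comp hle le_top, op_comp, Functor.map_comp, ConcreteCategory.comp_apply]
      exact (congrArg (Z.presheaf.map (homOfLE hle).op) hs).trans (map_zero _)
    obtain ⟨⟨_, n, rfl⟩, hn⟩ := (IsLocalization.map_eq_zero_iff (Submonoid.powers f) _ s).1 h0
    exact hfp (Ideal.IsPrime.mem_of_pow_mem ‹_› n (hp.1.2 ((hmem _).2 hn)))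
  · obtain ⟨a, b, ha, -, hab⟩ := exists_pair p (reg2_atPrime U hZ p hpU)
    obtain ⟨n, t, ht, htn⟩ := exists_pow_mul_mem p hp ha
    have h := congrArg (algebraMap Γ(Z, ⊤) (Localization.AtPrime p)) ((hmem _).1 htn)
    rw [map_zero, mul_comm t, mul_assoc, map_mul, map_pow] at h
    obtain ⟨⟨v, hv⟩, hv0⟩ := (IsLocalization.map_eq_zero_iff p.primeCompl _ _).1 ((hab n).1 _ h)
    exact (‹p.IsPrime›.mem_or_mem (hp.1.2 ((hmem (v * t)).2 (by rw [mul_assoc]; exact hv0)))).elim hv ht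

/-- `U` is covered by finitely many basic opens. -/
theorem exists_finite_cover (hU : IsCompact (U : Set Z)) :
    ∃ t : Finset Γ(Z, ⊤), (∀ f ∈ t, Z.basicOpen f ≤ U) ∧ (U : Set Z) ⊆ ⋃ f ∈ t, (Z.basicOpen f : Set Z) := by
  let S : Set Γ(Z, ⊤) := {f | Z.basicOpen f ≤ U}
  obtain ⟨b, hb, hfin, hcov⟩ := hU.elim_finite_subcover_image (b := S) (c := fun f => (Z.basicOpen f : Set Z))
    (fun f _ => (Z.basicOpen f).isOpen) fun x hx => by
      obtain ⟨_, ⟨_, ⟨f, rfl⟩, rfl⟩, hxf, hle⟩ := (isBasis_basicOpen Z).exists_subset_of_mem_open hx U.isOpen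
      exact Set.mem_iUnion₂.2 ⟨f, hle, hxf⟩
  refine ⟨hfin.toFinset, fun f hf => hb (hfin.mem_toFinset.1 hf), fun x hx => ?_⟩
  obtain ⟨f, hf, hxf⟩ := Set.mem_iUnion₂.1 (hcov hx)
  exact Set.mem_iUnion₂.2 ⟨f, hfin.mem_toFinset.2 hf, hxf⟩

/-- Torsion for a locally regular element is killed near `p`. -/
theorem exists_mul_eq_zero (hU : IsCompact (U : Set Z)) (p : Ideal Γ(Z, ⊤)) [p.IsPrime] {c : Γ(Z, ⊤)}
    (hc : ∀ x, algebraMap Γ(Z, ⊤) (Localization.AtPrime p) c * x = 0 → x = 0) {g : Γ(Z, U)} (hg : res U c * g = 0) :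
    ∃ v, v ∉ p ∧ res U v * g = 0 := by
  classical
  obtain ⟨t, htU, hcov⟩ := exists_finite_cover U hU
  have hres : ∀ (f : t) (a : Γ(Z, ⊤)), Z.presheaf.map (homOfLE (htU f f.2)).op (res U a) =
      algebraMap Γ(Z, ⊤) Γ(Z, Z.basicOpen f.1) a := fun f a => by
    show Z.presheaf.map _ (Z.presheaf.map _ a) = Z.presheaf.map (homOfLE (le_top : Z.basicOpen f.1 ≤ ⊤)).op a
    rw [← ConcreteCategory.comp_apply, ← Functor.map_comp]
    rfl
  have hloc : ∀ f : t, ∃ v, v ∉ p ∧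
      algebraMap Γ(Z, ⊤) Γ(Z, Z.basicOpen f.1) v * Z.presheaf.map (homOfLE (htU f f.2)).op g = 0 := by
    intro f
    haveI := (isAffineOpen_top Z).isLocalization_basicOpen f.1
    obtain ⟨⟨d, ⟨_, m, rfl⟩⟩, hd⟩ := IsLocalization.surj (Submonoid.powers f.1) (Z.presheaf.map (homOfLE (htU f f.2)).op g)
    have h0 : algebraMap Γ(Z, ⊤) Γ(Z, Z.basicOpen f.1) (c * d) = 0 := by
      rw [map_mul, ← hd, ← mul_assoc, ← hres, ← map_mul, hg, map_zero, zero_mul]
    obtain ⟨⟨_, k, rfl⟩, hk⟩ := (IsLocalization.map_eq_zero_iff (Submonoid.powers f.1) _ _).1 h0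
    have h1 : algebraMap Γ(Z, ⊤) (Localization.AtPrime p) c * algebraMap _ _ (f.1 ^ k * d) = 0 := by
      rw [← map_mul, mul_left_comm, hk, map_zero]
    obtain ⟨⟨v, hv⟩, hv0⟩ := (IsLocalization.map_eq_zero_iff p.primeCompl _ _).1 (hc _ h1)
    refine ⟨v, hv, ?_⟩
    refine ((IsLocalization.map_units Γ(Z, Z.basicOpen f.1) (⟨f.1 ^ m, m, rfl⟩ : Submonoid.powers f.1)).mul_left_eq_zero).1 ?_
    rw [mul_assoc, hd]
    refine ((IsLocalization.map_units Γ(Z, Z.basicOpen f.1) (⟨f.1 ^ k, k, rfl⟩ : Submonoid.powers f.1)).mul_right_eq_zero).1 ?_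
    have h2 := congrArg (algebraMap Γ(Z, ⊤) Γ(Z, Z.basicOpen f.1)) hv0
    rw [map_zero, map_mul, map_mul] at h2
    linear_combination h2
  choose v hv hv0 using hloc
  refine ⟨∏ f, v f, fun h => ?_, ?_⟩
  · obtain ⟨f, -, hf⟩ := ‹p.IsPrime›.prod_mem_iff.1 h
    exact hv f hf
  refine Z.sheaf.eq_of_locally_eq' (fun f : t => Z.basicOpen f.1) U (fun f => homOfLE (htU f f.2))
    (fun x hx => ?_) _ _ fun f => ?_
  · obtain ⟨f, hf, hxf⟩ := Set.mem_iUnion₂.1 (hcov hx)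
    exact Opens.mem_iSup.2 ⟨⟨f, hf⟩, hxf⟩
  · show Z.presheaf.map (homOfLE (htU f f.2)).op (res U (∏ f, v f) * g) = Z.presheaf.map (homOfLE (htU f f.2)).op 0
    rw [map_mul, map_zero, hres, ← Finset.mul_prod_erase _ _ (Finset.mem_univ f), map_mul, mul_comm (algebraMap _ _ (v f)),
      mul_assoc, hv0 f, mul_zero]

theorem res_surjective (hU : IsCompact (U : Set Z)) (hZ : ∀ z : Z, z ∉ U → Reg2 (Z.presheaf.stalk z)) :
    Function.Surjective (res U) := by
  intro s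
  let J : Ideal Γ(Z, ⊤) :=
    { carrier := {c | ∃ a, res U a = res U c * s}
      add_mem' := by
        rintro c d ⟨a, ha⟩ ⟨b, hb⟩
        exact ⟨a + b, by rw [map_add, map_add, add_mul, ha, hb]⟩
      zero_mem' := ⟨0, by simp⟩
      smul_mem' := by
        rintro r c ⟨a, ha⟩
        exact ⟨r * a, by rw [smul_eq_mul, map_mul, map_mul, ha, mul_assoc]⟩ }
  by_contra hns
  have hJ : J ≠ ⊤ := fun h => hns (by
    obtain ⟨a, ha⟩ := (show (1 : Γ(Z, ⊤)) ∈ J from h ▸ Submodule.mem_top)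
    exact ⟨a, by rw [ha, map_one, one_mul]⟩)
  obtain ⟨M, hM, hJM⟩ := Ideal.exists_le_maximal J hJ
  obtain ⟨p, hp, -⟩ := Ideal.exists_minimalPrimes_le hJM
  haveI := hp.1.1
  by_cases hpU : (isAffineOpen_top Z).fromSpec ⟨p, ‹_›⟩ ∈ U
  · obtain ⟨f, hfp, hle⟩ := exists_basicOpen U p hpU
    haveI := (isAffineOpen_top Z).isLocalization_basicOpen f
    obtain ⟨⟨a, ⟨_, m, rfl⟩⟩, ha⟩ := IsLocalization.surj (Submonoid.powers f) (Z.presheaf.map (homOfLE hle).op s)
    have hb : Z.basicOpen (res U f) = Z.basicOpen f := by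
      rw [show res U f = Z.presheaf.map (homOfLE (le_top : U ≤ ⊤)).op f from rfl, Scheme.basicOpen_res]
      exact inf_eq_right.2 hle
    have H : (res U (f ^ m) * s - res U a) |_ (Z.basicOpen (res U f)) = 0 := by
      have h1 : Z.presheaf.map (homOfLE hle).op (res U (f ^ m) * s - res U a) = 0 := by
        rw [map_sub, map_mul, sub_eq_zero]
        have e : ∀ x, Z.presheaf.map (homOfLE hle).op (res U x) = algebraMap Γ(Z, ⊤) Γ(Z, Z.basicOpen f) x := fun x => by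
          show Z.presheaf.map _ (Z.presheaf.map _ x) = Z.presheaf.map (homOfLE (le_top : Z.basicOpen f ≤ ⊤)).op x
          rw [← ConcreteCategory.comp_apply, ← Functor.map_comp]
          rfl
        rw [e, e, mul_comm]
        exact ha
      show Z.presheaf.map (homOfLE (Z.basicOpen_le _)).op _ = 0
      rw [← homOfLE_comp hb.le hle, op_comp, Functor.map_comp, ConcreteCategory.comp_apply, h1, map_zero]
    obtain ⟨k, hk⟩ := exists_pow_mul_eq_zero_of_res_basicOpen_eq_zero_of_isCompact Z hU _ _ H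
    refine hfp (‹p.IsPrime›.mem_of_pow_mem (k + m) (hp.1.2 ⟨f ^ k * a, ?_⟩))
    rw [map_mul, map_pow, map_pow, pow_add]
    rw [mul_sub, sub_eq_zero] at hk
    rw [← hk, map_pow]
    ring
  · obtain ⟨a, b, ha, hb, hab⟩ := exists_pair p (reg2_atPrime U hZ p hpU)
    obtain ⟨n₁, t₁, ht₁, α₀, hα₀⟩ := exists_pow_mul_mem p hp ha
    obtain ⟨n₂, t₂, ht₂, β₀, hβ₀⟩ := exists_pow_mul_mem p hp hb
    let n := n₁ + n₂
    let t := t₁ * t₂
    have hα : res U (t₂ * a ^ n₂ * α₀) = res U (t * a ^ n) * s := by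
      rw [map_mul, hα₀, ← mul_assoc, ← map_mul]
      congr 2
      ring
    have hβ : res U (t₁ * b ^ n₁ * β₀) = res U (t * b ^ n) * s := by
      rw [map_mul, hβ₀, ← mul_assoc, ← map_mul]
      congr 2
      ring
    have htp : t ∉ p := fun h => (‹p.IsPrime›.mem_or_mem h).elim ht₁ ht₂
    clear_value n t
    obtain ⟨α, hα⟩ : ∃ α, res U α = res U (t * a ^ n) * s := ⟨_, hα⟩
    obtain ⟨β, hβ⟩ : ∃ β, res U β = res U (t * b ^ n) * s := ⟨_, hβ⟩
    have heq : b ^ n * α = a ^ n * β := res_injective U hZ (by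
      rw [map_mul, map_mul, hα, hβ, ← mul_assoc, ← mul_assoc, ← map_mul, ← map_mul]
      congr 2
      ring)
    let L := Localization.AtPrime p
    obtain ⟨r', hr'⟩ := (hab n).2 (algebraMap _ L α) ⟨algebraMap _ L β, by
      have := congrArg (algebraMap Γ(Z, ⊤) L) heq
      rwa [map_mul, map_mul, map_pow, map_pow] at this⟩
    obtain ⟨⟨r, u⟩, hu⟩ := IsLocalization.surj p.primeCompl r'
    have h1 : algebraMap Γ(Z, ⊤) L ((u : Γ(Z, ⊤)) * α) = algebraMap _ L (a ^ n * r) := by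
      rw [map_mul, hr', map_mul, map_pow, ← hu]
      ring
    obtain ⟨w, hw⟩ := (IsLocalization.eq_iff_exists p.primeCompl L).1 h1
    have hg : res U (a ^ n) * (res U ((w : Γ(Z, ⊤)) * u * t) * s - res U ((w : Γ(Z, ⊤)) * r)) = 0 := by
      have h2 := congrArg (res U) hw
      rw [map_mul, map_mul, map_mul, hα] at h2
      simp only [map_mul] at h2 ⊢
      linear_combination h2
    obtain ⟨v, hv, hv0⟩ := exists_mul_eq_zero U hU p (fun x hx => (hab n).1 x (by rw [← map_pow]; exact hx)) hg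
    have hmem : v * (w * u * t) ∈ J := ⟨v * (w * r), by
      rw [mul_sub, sub_eq_zero] at hv0
      simp only [map_mul] at hv0 ⊢
      linear_combination -hv0⟩
    rcases ‹p.IsPrime›.mem_or_mem (hp.1.2 hmem) with h | h
    · exact hv h
    rcases ‹p.IsPrime›.mem_or_mem h with h | h
    · exact (‹p.IsPrime›.mem_or_mem h).elim w.2 u.2
    · exact htp h

omit [IsAffine Z] in
/-- An isomorphism on global sections makes morphisms into affine schemes extend uniquely. -/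
theorem existsUnique_of_bijective (hb : Function.Bijective (res U)) {Y : Scheme.{u}} [IsAffine Y]
    (f : (U : Scheme.{u}) ⟶ Y) : ∃! g : Z ⟶ Y, U.ι ≫ g = f := by
  haveI : IsIso U.ι.appTop := by
    rw [ConcreteCategory.isIso_iff_bijective, Scheme.Opens.ι_appTop]
    let e := homOfLE (U.ι_image_top.le : U.ι ''ᵁ ⊤ ≤ U)
    haveI : IsIso e := by
      rw [Subsingleton.elim e (eqToHom U.ι_image_top)]
      infer_instance
    have h12 := (ConcreteCategory.bijective_of_isIso (Z.presheaf.map e.op)).comp hb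
    have e4 : ∀ a : Γ(Z, ⊤), Z.presheaf.map (homOfLE (le_top : U.ι ''ᵁ ⊤ ≤ ⊤)).op a =
        Z.presheaf.map e.op (res U a) := fun a => by
      show _ = Z.presheaf.map e.op (Z.presheaf.map _ a)
      rw [← ConcreteCategory.comp_apply, ← Z.presheaf.map_comp]
      rfl
    exact ⟨fun a b hab => h12.1 ((e4 a).symm.trans (hab.trans (e4 b))), fun c =>
      (h12.2 c).imp fun a ha => (e4 a).trans ha⟩
  refine ⟨Z.toSpecΓ ≫ Spec.map (f.appTop ≫ inv U.ι.appTop) ≫ Y.isoSpec.inv, ?_, fun g hg => ?_⟩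
  · show U.ι ≫ Z.toSpecΓ ≫ Spec.map (f.appTop ≫ inv U.ι.appTop) ≫ Y.isoSpec.inv = f
    rw [Scheme.toSpecΓ_naturality_assoc, ← Spec.map_comp_assoc, Category.assoc, IsIso.inv_hom_id, Category.comp_id,
      ← Scheme.toSpecΓ_naturality_assoc]
    show f ≫ Y.isoSpec.hom ≫ Y.isoSpec.inv = f
    rw [Iso.hom_inv_id, Category.comp_id]
  · refine ext_of_isAffine ((cancel_mono U.ι.appTop).1 ?_)
    rw [← Scheme.Hom.comp_appTop, ← Scheme.Hom.comp_appTop, hg]
    congr 1
    rw [Scheme.toSpecΓ_naturality_assoc, ← Spec.map_comp_assoc, Category.assoc, IsIso.inv_hom_id, Category.comp_id,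
      ← Scheme.toSpecΓ_naturality_assoc]
    show f = f ≫ Y.isoSpec.hom ≫ Y.isoSpec.inv
    rw [Iso.hom_inv_id, Category.comp_id]

/-- Morphisms from a compact open into an affine scheme extend uniquely across the points with `Reg2`. -/
theorem existsUnique_extension (hU : IsCompact (U : Set Z)) (hZ : ∀ z : Z, z ∉ U → Reg2 (Z.presheaf.stalk z))
    {Y : Scheme.{u}} [IsAffine Y] (f : (U : Scheme.{u}) ⟶ Y) : ∃! g : Z ⟶ Y, U.ι ≫ g = f :=
  existsUnique_of_bijective U ⟨res_injective U hZ, res_surjective U hU hZ⟩ f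

end Groth.Agent.CAlgOdd.HartogsTwo

namespace Groth.Agent.CAlgOdd.HartogsTwo

/-- The hypothesis moves along open immersions. -/
theorem hyp_preimage {W X : Scheme.{u}} (j : W ⟶ X) [IsOpenImmersion j] (U : X.Opens)
    (hZ : ∀ z : X, z ∉ U → Reg2 (X.presheaf.stalk z)) (w : W) (hw : w ∉ j ⁻¹ᵁ U) :
    Reg2 (W.presheaf.stalk w) :=
  (hZ (j w) hw).of_ringEquiv (asIso (j.stalkMap w)).commRingCatIsoToRingEquiv

theorem eq_of_injective {Z : Scheme.{u}} (U : Z.Opens) (hb : Function.Injective (res U))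
    {Y : Scheme.{u}} [IsAffine Y] {g g' : Z ⟶ Y} (h : U.ι ≫ g = U.ι ≫ g') : g = g' := by
  haveI : Mono U.ι.appTop := by
    refine ConcreteCategory.mono_of_injective _ ?_
    rw [Scheme.Opens.ι_appTop]
    let e := homOfLE (U.ι_image_top.le : U.ι ''ᵁ ⊤ ≤ U)
    haveI : IsIso e := by
      rw [Subsingleton.elim e (eqToHom U.ι_image_top)]
      infer_instance
    have e4 : ∀ a : Γ(Z, ⊤), Z.presheaf.map (homOfLE (le_top : U.ι ''ᵁ ⊤ ≤ ⊤)).op a =
        Z.presheaf.map e.op (res U a) := fun a => by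
      show _ = Z.presheaf.map e.op (Z.presheaf.map _ a)
      rw [← ConcreteCategory.comp_apply, ← Z.presheaf.map_comp]
      rfl
    exact fun a b hab =>
      hb ((ConcreteCategory.bijective_of_isIso (Z.presheaf.map e.op)).1 ((e4 a).symm.trans (hab.trans (e4 b))))
  exact ext_of_isAffine ((cancel_mono U.ι.appTop).1 (by rw [← Scheme.Hom.comp_appTop, ← Scheme.Hom.comp_appTop, h]))

/-- Maps into a scheme affine over the base agreeing on `U` are equal. -/
theorem eq_of_eq {X Y S : Scheme.{u}} (U : X.Opens) (hZ : ∀ z : X, z ∉ U → Reg2 (X.presheaf.stalk z))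
    (f : Y ⟶ S) [IsAffineHom f] {s s' : X ⟶ Y} (hf : s ≫ f = s' ≫ f) (hU : U.ι ≫ s = U.ι ≫ s') : s = s' := by
  have hcov : ∀ x : X, ∃ (V : X.Opens) (W : S.Opens), IsAffineOpen V ∧ IsAffineOpen W ∧ x ∈ V ∧ V ≤ (s ≫ f) ⁻¹ᵁ W := by
    intro x
    obtain ⟨W, hW, hxW, -⟩ := exists_isAffineOpen_mem_and_subset (show (s ≫ f) x ∈ (⊤ : S.Opens) from trivial)
    obtain ⟨V, hV, hxV, hVW⟩ := exists_isAffineOpen_mem_and_subset (show x ∈ (s ≫ f) ⁻¹ᵁ W from hxW)
    exact ⟨V, W, hV, hW, hxV, hVW⟩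
  choose V W hV hW hxV hle using hcov
  refine (X.openCoverOfIsOpenCover V (TopologicalSpace.IsOpenCover.mk (top_le_iff.1 fun x _ =>
    Opens.mem_iSup.2 ⟨x, hxV x⟩))).hom_ext _ _ fun x => ?_
  haveI : IsAffine (V x : Scheme.{u}) := hV x
  haveI : IsAffine (f ⁻¹ᵁ W x : Scheme.{u}) := (hW x).preimage f
  have hr : ∀ g : X ⟶ Y, g ≫ f = s ≫ f → Set.range ((V x).ι ≫ g) ⊆ Set.range (f ⁻¹ᵁ W x).ι := by
    rintro g hg _ ⟨v, rfl⟩
    rw [Scheme.Opens.range_ι]
    show (g ≫ f) ((V x).ι v) ∈ W x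
    rw [hg]
    exact hle x (by rw [← SetLike.mem_coe, ← Scheme.Opens.range_ι]; exact ⟨v, rfl⟩)
  let U' := (V x).ι ⁻¹ᵁ U
  have hl := eq_of_injective U' (res_injective U' (hyp_preimage (V x).ι U hZ))
    (g := IsOpenImmersion.lift (f ⁻¹ᵁ W x).ι ((V x).ι ≫ s) (hr s rfl))
    (g' := IsOpenImmersion.lift (f ⁻¹ᵁ W x).ι ((V x).ι ≫ s') (hr s' hf.symm)) (by
      rw [← cancel_mono (f ⁻¹ᵁ W x).ι]
      simp only [Category.assoc, IsOpenImmersion.lift_fac]
      show U'.ι ≫ (V x).ι ≫ s = U'.ι ≫ (V x).ι ≫ s'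
      rw [← morphismRestrict_ι_assoc (V x).ι U, ← morphismRestrict_ι_assoc (V x).ι U, hU])
  have := congrArg (· ≫ (f ⁻¹ᵁ W x).ι) hl
  simp only [IsOpenImmersion.lift_fac] at this
  exact this

/-- Sections of an affine morphism extend uniquely. -/
theorem existsUnique_section {X Y : Scheme.{u}} (U : X.Opens) [QuasiCompact U.ι]
    (hZ : ∀ z : X, z ∉ U → Reg2 (X.presheaf.stalk z)) (f : Y ⟶ X) [IsAffineHom f]
    (t : (U : Scheme.{u}) ⟶ Y) (ht : t ≫ f = U.ι) : ∃! s : X ⟶ Y, s ≫ f = 𝟙 X ∧ U.ι ≫ s = t := by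
  have hcov : ∀ x : X, ∃ V : X.Opens, IsAffineOpen V ∧ x ∈ V := fun x => by
    obtain ⟨V, hV, hxV, -⟩ := exists_isAffineOpen_mem_and_subset (show x ∈ (⊤ : X.Opens) from trivial)
    exact ⟨V, hV, hxV⟩
  choose V hV hxV using hcov
  have loc : ∀ x : X, ∃ g : (V x : Scheme.{u}) ⟶ Y, g ≫ f = (V x).ι ∧
      ((V x).ι ⁻¹ᵁ U).ι ≫ g = ((V x).ι ∣_ U) ≫ t := by
    intro x
    haveI : IsAffine (V x : Scheme.{u}) := hV x
    haveI : IsAffine (f ⁻¹ᵁ V x : Scheme.{u}) := (hV x).preimage f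
    let U' := (V x).ι ⁻¹ᵁ U
    have hU' : IsCompact (U' : Set (V x : Scheme.{u})) := by
      have h1 := QuasiCompact.isCompact_preimage (f := U.ι) _ (V x).isOpen (hV x).isCompact
      have h2 := h1.image U.ι.continuous
      rw [Set.image_preimage_eq_inter_range, Scheme.Opens.range_ι] at h2
      refine (V x).ι.isOpenEmbedding.toIsEmbedding.isCompact_iff.2 ?_
      rw [show (U' : Set _) = (V x).ι ⁻¹' (U : Set X) from rfl, Set.image_preimage_eq_inter_range,
        Scheme.Opens.range_ι, Set.inter_comm]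
      exact h2
    have hr : Set.range (((V x).ι ∣_ U) ≫ t) ⊆ Set.range (f ⁻¹ᵁ V x).ι := by
      rintro _ ⟨v, rfl⟩
      rw [Scheme.Opens.range_ι]
      show (((V x).ι ∣_ U) ≫ t ≫ f) v ∈ V x
      rw [ht, morphismRestrict_ι, ← SetLike.mem_coe, ← Scheme.Opens.range_ι]
      exact ⟨_, rfl⟩
    obtain ⟨g, hg, -⟩ := existsUnique_extension U' hU' (hyp_preimage (V x).ι U hZ)
      (IsOpenImmersion.lift (f ⁻¹ᵁ V x).ι _ hr)
    refine ⟨g ≫ (f ⁻¹ᵁ V x).ι, ?_, by rw [← Category.assoc, hg, IsOpenImmersion.lift_fac]⟩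
    have h1 : g ≫ (f ∣_ V x) = 𝟙 _ := by
      refine eq_of_injective U' (res_injective U' (hyp_preimage (V x).ι U hZ)) ?_
      rw [← cancel_mono (V x).ι, Category.assoc, Category.assoc, morphismRestrict_ι, Category.comp_id,
        ← Category.assoc U'.ι g, hg, IsOpenImmersion.lift_fac_assoc, Category.assoc, ht, morphismRestrict_ι]
    rw [Category.assoc, ← morphismRestrict_ι, ← Category.assoc, h1, Category.id_comp]
  choose g hgf hgU using loc
  let 𝒰 := X.openCoverOfIsOpenCover V (TopologicalSpace.IsOpenCover.mk (top_le_iff.1 fun x _ =>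
    Opens.mem_iSup.2 ⟨x, hxV x⟩))
  have hcomp : ∀ x y : X, Limits.pullback.fst (𝒰.f x) (𝒰.f y) ≫ g x = Limits.pullback.snd (𝒰.f x) (𝒰.f y) ≫ g y := by
    intro x y
    show Limits.pullback.fst (V x).ι (V y).ι ≫ g x = Limits.pullback.snd (V x).ι (V y).ι ≫ g y
    let p := Limits.pullback.fst (V x).ι (V y).ι
    let q := Limits.pullback.snd (V x).ι (V y).ι
    have hpq : p ≫ (V x).ι = q ≫ (V y).ι := Limits.pullback.condition
    haveI : IsOpenImmersion (p ≫ (V x).ι) := inferInstance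
    refine eq_of_eq ((p ≫ (V x).ι) ⁻¹ᵁ U) (hyp_preimage (p ≫ (V x).ι) U hZ) f ?_ ?_
    · simp only [Category.assoc, hgf]
      exact hpq
    · have key : ∀ (z : X) (p' : Limits.pullback (V x).ι (V y).ι ⟶ (V z : Scheme.{u}))
          (hp : p ≫ (V x).ι = p' ≫ (V z).ι),
          ((p ≫ (V x).ι) ⁻¹ᵁ U).ι ≫ p' ≫ g z =
            IsOpenImmersion.lift U.ι (((p ≫ (V x).ι) ⁻¹ᵁ U).ι ≫ p ≫ (V x).ι) (by
              rintro _ ⟨v, rfl⟩
              rw [Scheme.Opens.range_ι]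
              exact v.2) ≫ t := by
        intro x' p' hp
        let O := (p ≫ (V x).ι) ⁻¹ᵁ U
        have hrg : Set.range (O.ι ≫ p') ⊆ Set.range ((V x').ι ⁻¹ᵁ U).ι := by
          rintro _ ⟨v, rfl⟩
          rw [Scheme.Opens.range_ι]
          show (p' ≫ (V x').ι) (O.ι v) ∈ U
          rw [← hp]
          exact v.2
        rw [← Category.assoc, ← IsOpenImmersion.lift_fac ((V x').ι ⁻¹ᵁ U).ι (O.ι ≫ p') hrg, Category.assoc, hgU,
          ← Category.assoc]
        congr 1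
        rw [← cancel_mono U.ι, IsOpenImmersion.lift_fac, Category.assoc, morphismRestrict_ι,
          IsOpenImmersion.lift_fac_assoc, Category.assoc]
        exact (congrArg (O.ι ≫ ·) hp).symm
      exact (key x p rfl).trans (key y q hpq).symm
  refine ⟨𝒰.glueMorphisms g hcomp, ⟨?_, ?_⟩, fun s hs => ?_⟩
  · refine 𝒰.hom_ext _ _ fun x => ?_
    rw [Scheme.Cover.ι_glueMorphisms_assoc, Category.comp_id]
    exact hgf x
  · let 𝒱 := (U : Scheme.{u}).openCoverOfIsOpenCover (fun x : X => U.ι ⁻¹ᵁ V x)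
      (TopologicalSpace.IsOpenCover.mk (top_le_iff.1 fun u _ => Opens.mem_iSup.2 ⟨U.ι u, hxV _⟩))
    refine 𝒱.hom_ext _ _ fun x => ?_
    have hrg : Set.range ((U.ι ∣_ V x)) ⊆ Set.range ((V x).ι ⁻¹ᵁ U).ι := by
      rintro _ ⟨v, rfl⟩
      rw [Scheme.Opens.range_ι]
      show ((U.ι ∣_ V x) ≫ (V x).ι) v ∈ U
      rw [morphismRestrict_ι, ← SetLike.mem_coe, ← Scheme.Opens.range_ι]
      exact ⟨_, rfl⟩
    show (U.ι ⁻¹ᵁ V x).ι ≫ U.ι ≫ 𝒰.glueMorphisms g hcomp = (U.ι ⁻¹ᵁ V x).ι ≫ t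
    rw [← morphismRestrict_ι_assoc U.ι (V x), show (V x).ι ≫ 𝒰.glueMorphisms g hcomp = g x from 𝒰.ι_glueMorphisms g hcomp x,
      ← IsOpenImmersion.lift_fac ((V x).ι ⁻¹ᵁ U).ι (U.ι ∣_ V x) hrg, Category.assoc, hgU, ← Category.assoc]
    congr 1
    rw [← cancel_mono U.ι, Category.assoc, morphismRestrict_ι, IsOpenImmersion.lift_fac_assoc, morphismRestrict_ι]
  · refine 𝒰.hom_ext _ _ fun (x : X) => ?_
    rw [Scheme.Cover.ι_glueMorphisms]
    show (V x).ι ≫ s = g x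
    refine eq_of_eq ((V x).ι ⁻¹ᵁ U) (hyp_preimage (V x).ι U hZ) f ?_ ?_
    · rw [Category.assoc, hs.1, Category.comp_id]
      exact (hgf x).symm
    · rw [hgU, ← morphismRestrict_ι_assoc (V x).ι U, hs.2]

end Groth.Agent.CAlgOdd.HartogsTwo
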