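import Mathlib

/-!
# Unique factorisation of ideals; Nagata's factoriality criterion
-/

namespace Groth.Agent.CAlgOdd

universe u

variable {R : Type u} [CommRing R] [IsDomain R]

/-- A domain whose nonzero ideals are uniquely products of nonzero primes is Dedekind. -/
theorem isDedekindDomain_of_unique_factorization
    (h : ∀ I : Ideal R, I ≠ ⊥ → ∃! s : Multiset (Ideal R), (∀ p ∈ s, p.IsPrime ∧ p ≠ ⊥) ∧ s.prod = I) :
    IsDedekindDomain R := by
  classical
  choose f hf hfu using fun I : {I : Ideal R // I ≠ ⊥} => h I.1 I.2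
  have hcancel : ∀ {I J K : Ideal R}, I ≠ ⊥ → I * J = I * K → J = K := by
    intro I J K hI hJK
    by_cases hJ : J = ⊥
    · subst hJ
      rw [Ideal.mul_bot, eq_comm, Ideal.mul_eq_bot] at hJK
      exact (hJK.resolve_left hI).symm
    by_cases hK : K = ⊥
    · subst hK
      rw [Ideal.mul_bot, Ideal.mul_eq_bot] at hJK
      exact hJK.resolve_left hI
    have hne : I * J ≠ ⊥ := by rw [Ne, Ideal.mul_eq_bot]; tauto
    have e1 := hfu ⟨_, hne⟩ (f ⟨I, hI⟩ + f ⟨J, hJ⟩) ⟨fun p hp => (Multiset.mem_add.1 hp).elim ((hf _).1 p) ((hf _).1 p),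
      by rw [Multiset.prod_add, (hf ⟨I, hI⟩).2, (hf ⟨J, hJ⟩).2]⟩
    have e2 := hfu ⟨_, hne⟩ (f ⟨I, hI⟩ + f ⟨K, hK⟩) ⟨fun p hp => (Multiset.mem_add.1 hp).elim ((hf _).1 p) ((hf _).1 p),
      by rw [Multiset.prod_add, (hf ⟨I, hI⟩).2, (hf ⟨K, hK⟩).2, ← hJK]⟩
    have e3 : f ⟨J, hJ⟩ = f ⟨K, hK⟩ := add_left_cancel (e1.trans e2.symm)
    exact ((hf ⟨J, hJ⟩).2.symm.trans (congrArg Multiset.prod e3)).trans (hf ⟨K, hK⟩).2
  -- an invertible ideal divides everything it contains
  have hdvd : ∀ {p q : Ideal R} {c : R}, c ≠ 0 → p * q = Ideal.span {c} → ∀ J ≤ p, ∃ C, J = p * C := by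
    intro p q c hc hpq J hJ
    let C : Ideal R := Submodule.comap (LinearMap.mulLeft R c) (J * q)
    have hJq : J * q ≤ Ideal.span {c} := hpq ▸ Ideal.mul_mono_left hJ
    have hC : Ideal.span {c} * C = J * q := by
      refine le_antisymm (Ideal.span_singleton_mul_le_iff.2 fun z hz => hz) fun x hx => ?_
      obtain ⟨z, rfl⟩ := Ideal.mem_span_singleton'.1 (hJq hx)
      rw [Ideal.mem_span_singleton_mul]
      exact ⟨z, show c * z ∈ J * q by rwa [mul_comm c z], mul_comm _ _⟩
    refine ⟨C, hcancel (I := Ideal.span {c}) (by simpa using hc) ?_⟩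
    rw [mul_left_comm, hC, ← hpq]
    ring
  -- invertible primes are maximal
  have hmax : ∀ {p q : Ideal R} {c : R}, p.IsPrime → c ≠ 0 → p * q = Ideal.span {c} → p.IsMaximal := by
    intro p q c hp hc hpq
    have hp0 : p ≠ ⊥ := fun h0 => hc (by rw [h0, Ideal.bot_mul, eq_comm, Ideal.span_singleton_eq_bot] at hpq; exact hpq)
    rw [Ideal.isMaximal_iff]
    refine ⟨fun h1 => hp.ne_top ((Ideal.eq_top_iff_one p).2 h1), fun J a hpJ hap haJ => ?_⟩
    suffices htop : p ⊔ Ideal.span {a} = ⊤ from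
      (sup_le hpJ ((Ideal.span_singleton_le_iff_mem J).2 haJ) : p ⊔ Ideal.span {a} ≤ J) (htop.symm ▸ Submodule.mem_top)
    set A := Ideal.span {a} with hA
    have hne : p ⊔ A ≠ ⊥ := fun h0 => hp0 (eq_bot_iff.2 (h0 ▸ le_sup_left))
    have hsq : p * p ⊔ A * A = (p ⊔ A) * (p ⊔ A) := by
      refine hcancel hne ?_
      set K := p ⊔ A
      refine le_antisymm (Ideal.mul_mono_right (sup_le (Ideal.mul_mono le_sup_left le_sup_left)
        (Ideal.mul_mono le_sup_right le_sup_right))) ?_
      -- `K ^ 3` is spanned by the four cubic monomials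
      have hl : ∀ I J : Ideal R, I ≤ K → J ≤ p * p ⊔ A * A → I * J ≤ K * (p * p ⊔ A * A) :=
        fun I J hI hJ => Ideal.mul_mono hI hJ
      have hp' : p ≤ K := le_sup_left
      have hA' : A ≤ K := le_sup_right
      have m1 := hl p (p * p) hp' le_sup_left
      have m2 := hl A (p * p) hA' le_sup_left
      have m3 := hl p (A * A) hp' le_sup_right
      have m4 := hl A (A * A) hA' le_sup_right
      simp only [K, Ideal.sup_mul, Ideal.mul_sup, sup_le_iff] at *
      simp only [mul_assoc, mul_comm, mul_left_comm] at *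
      tauto
    -- `p ^ 2` is primary for `p`
    have hprim : ∀ z ∈ p, a * z ∈ p * p → z ∈ p * p := by
      intro z hz haz
      obtain ⟨C, hC⟩ := hdvd hc hpq (Ideal.span {z}) ((Ideal.span_singleton_le_iff_mem p).2 hz)
      obtain ⟨D, hD⟩ := hdvd hc hpq (Ideal.span {a * z}) ((Ideal.span_singleton_le_iff_mem p).2 (Ideal.mul_le_right haz))
      have hDp : D ≤ p := by
        have hle : p * D ≤ p * p := hD ▸ (Ideal.span_singleton_le_iff_mem _).2 haz
        intro d hd
        have : Ideal.span {c} * D ≤ Ideal.span {c} * p := by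
          rw [← hpq, mul_right_comm p q D, mul_right_comm p q p]
          exact Ideal.mul_mono_left hle
        have h2 := this (Ideal.mul_mem_mul (Ideal.mem_span_singleton_self c) hd)
        obtain ⟨w, hw, hwe⟩ := Ideal.mem_span_singleton_mul.1 h2
        exact mul_left_cancel₀ hc hwe ▸ hw
      have haC : A * C = D := hcancel hp0 (by rw [← hD, mul_left_comm, ← hC, hA, Ideal.span_singleton_mul_span_singleton])
      have hCp : C ≤ p := ((hp.mul_le).1 (haC.le.trans hDp)).resolve_left fun hle => hap (hle (Ideal.mem_span_singleton_self a))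
      exact (hC ▸ Ideal.mul_mono_right hCp : Ideal.span {z} ≤ p * p) (Ideal.mem_span_singleton_self z)
    refine hcancel hp0 (le_antisymm ?_ ?_)
    · rw [Ideal.mul_top]; exact Ideal.mul_le_left
    rw [Ideal.mul_top]
    intro x hx
    have hxa : x * a ∈ p * p ⊔ A * A := by
      rw [hsq]
      exact Ideal.mul_mem_mul (Ideal.mem_sup_left hx) (Ideal.mem_sup_right (Ideal.mem_span_singleton_self a))
    rw [hA, Ideal.span_singleton_mul_span_singleton, Submodule.mem_sup] at hxa
    obtain ⟨y, hy, z, hz, hyz⟩ := hxa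
    obtain ⟨r, rfl⟩ := Ideal.mem_span_singleton'.1 hz
    have hrp : r ∈ p := by
      have hzp : r * (a * a) ∈ p := by
        rw [show r * (a * a) = x * a - y by linear_combination hyz]
        exact sub_mem (Ideal.mul_mem_right _ _ hx) (Ideal.mul_le_left hy)
      rcases hp.mem_or_mem hzp with h' | h'
      · exact h'
      · exact absurd ((hp.mem_or_mem h').elim id id) hap
    have hx' : x - r * a ∈ p * p := hprim _ (sub_mem hx (Ideal.mul_mem_right _ _ hrp))
      (by rw [show a * (x - r * a) = y by linear_combination -hyz]; exact hy)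
    rw [Ideal.mul_sup, show x = (x - r * a) + r * a by ring]
    exact Submodule.add_mem_sup hx' (Ideal.mul_mem_mul hrp (Ideal.mem_span_singleton_self a))
  -- every nonzero prime has an inverse
  have hinv : ∀ p : Ideal R, p.IsPrime → p ≠ ⊥ → ∃ (q : Ideal R) (c : R), c ≠ 0 ∧ p * q = Ideal.span {c} := by
    intro p hp hp0
    obtain ⟨c, hc, hc0⟩ := Submodule.exists_mem_ne_zero_of_ne_bot hp0
    have hne : Ideal.span {c} ≠ ⊥ := by simpa using hc0
    have hle : (f ⟨_, hne⟩).prod ≤ p := by rw [(hf ⟨_, hne⟩).2, Ideal.span_singleton_le_iff_mem]; exact hc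
    obtain ⟨P, hP, hPp⟩ := (Ideal.IsPrime.multiset_prod_le hp).1 hle
    have hprod : P * ((f ⟨_, hne⟩).erase P).prod = Ideal.span {c} := by
      rw [Multiset.prod_erase hP]; exact (hf ⟨_, hne⟩).2
    have hPmax := hmax ((hf ⟨_, hne⟩).1 P hP).1 hc0 hprod
    exact ⟨_, c, hc0, hPmax.eq_of_le hp.ne_top hPp ▸ hprod⟩
  have hinvI : ∀ I : Ideal R, I ≠ ⊥ → ∃ (J : Ideal R) (c : R), c ≠ 0 ∧ I * J = Ideal.span {c} := by
    intro I hI
    obtain ⟨hs, hprod⟩ := hf ⟨I, hI⟩
    change (f ⟨I, hI⟩).prod = I at hprod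
    rw [← hprod]
    clear hprod
    generalize f ⟨I, hI⟩ = s at hs
    induction s using Multiset.induction with
    | empty => exact ⟨⊤, 1, one_ne_zero, by simp⟩
    | cons p s ih =>
      obtain ⟨q, c, hc, hq⟩ := hinv p (hs p (Multiset.mem_cons_self p s)).1 (hs p (Multiset.mem_cons_self p s)).2
      obtain ⟨J, d, hd, hJ⟩ := ih fun x hx => hs x (Multiset.mem_cons_of_mem hx)
      exact ⟨q * J, c * d, mul_ne_zero hc hd, by
        rw [Multiset.prod_cons, mul_mul_mul_comm, hq, hJ, Ideal.span_singleton_mul_span_singleton]⟩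
  rw [isDedekindDomain_iff_mul_inv_cancel (K := FractionRing R)]
  intro I hI
  rw [FractionalIdeal.mul_inv_cancel_iff_isUnit]
  obtain ⟨a, I₀, ha, rfl⟩ := FractionalIdeal.exists_eq_spanSingleton_mul I
  have hI₀ : I₀ ≠ ⊥ := fun h0 => hI (by rw [h0, FractionalIdeal.coeIdeal_bot, mul_zero]; rfl)
  refine IsUnit.mul ?_ ?_
  · refine IsUnit.of_mul_eq_one (FractionalIdeal.spanSingleton _ (algebraMap R (FractionRing R) a)) ?_
    rw [FractionalIdeal.spanSingleton_mul_spanSingleton, inv_mul_cancel₀, FractionalIdeal.spanSingleton_one]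
    exact (map_ne_zero_iff _ (IsFractionRing.injective R (FractionRing R))).2 ha
  · obtain ⟨J, c, hc, hJ⟩ := hinvI I₀ hI₀
    refine isUnit_of_mul_isUnit_left (y := (J : FractionalIdeal (nonZeroDivisors R) (FractionRing R))) ?_
    rw [← FractionalIdeal.coeIdeal_mul, hJ, FractionalIdeal.coeIdeal_span_singleton]
    refine IsUnit.of_mul_eq_one (FractionalIdeal.spanSingleton _ (algebraMap R (FractionRing R) c)⁻¹) ?_
    rw [FractionalIdeal.spanSingleton_mul_spanSingleton, mul_inv_cancel₀, FractionalIdeal.spanSingleton_one]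
    exact (map_ne_zero_iff _ (IsFractionRing.injective R (FractionRing R))).2 hc

/-- Nagata's criterion: an atomic domain with factorial localization at a set of primes is factorial. -/
theorem ufd_of_localization_primes
    (hfac : ∀ a : R, a ≠ 0 → ¬ IsUnit a → ∃ f : Multiset R, (∀ b ∈ f, Irreducible b) ∧ Associated f.prod a)
    (P : Set R) (hP : ∀ p ∈ P, Prime p) [IsDomain (Localization (Submonoid.closure P))]
    (hS : UniqueFactorizationMonoid (Localization (Submonoid.closure P))) : UniqueFactorizationMonoid R := by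
  classical
  set S := Submonoid.closure P
  set L := Localization S
  have hS0 : ∀ s ∈ S, s ≠ 0 := by
    intro s hs
    induction hs using Submonoid.closure_induction with
    | mem x hx => exact (hP x hx).ne_zero
    | one => exact one_ne_zero
    | mul x y _ _ hx hy => exact mul_ne_zero hx hy
  have hinj : Function.Injective (algebraMap R L) := IsLocalization.injective L (M := S)
    (fun s hs => mem_nonZeroDivisors_of_ne_zero (hS0 s hs))
  suffices hprime : ∀ p : R, Irreducible p → Prime p by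
    refine UniqueFactorizationMonoid.of_exists_prime_factors fun a ha => ?_
    by_cases hu : IsUnit a
    · exact ⟨0, by simp, by simpa using (associated_one_iff_isUnit.2 hu).symm⟩
    · obtain ⟨f, hf, hfa⟩ := hfac a ha hu
      exact ⟨f, fun b hb => hprime b (hf b hb), hfa⟩
  intro p hp
  by_cases hq : ∃ q ∈ P, q ∣ p
  · obtain ⟨q, hqP, hqp⟩ := hq
    exact ((hP q hqP).irreducible.associated_of_dvd hp hqp).prime (hP q hqP)
  push Not at hq
  -- `p` is prime to all elements of the multiplicative set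
  have hsat : ∀ s ∈ S, ∀ z : R, p ∣ z * s → p ∣ z := by
    intro s hs
    induction hs using Submonoid.closure_induction with
    | mem x hx =>
      rintro z ⟨c, hc⟩
      obtain ⟨d, rfl⟩ := ((hP x hx).dvd_or_dvd (Dvd.intro_left z hc)).resolve_left (hq x hx)
      exact ⟨d, mul_right_cancel₀ (hP x hx).ne_zero (by linear_combination hc)⟩
    | one => intro z h; simpa using h
    | mul x y _ _ hx hy => intro z h; exact hx z (hy (z * x) (by rwa [mul_assoc]))
  -- factorisations up to the multiplicative set split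
  have hsd : ∀ u ∈ S, ∀ v : R, ∀ x y : R, x * y = v * u →
      ∃ s₁ ∈ S, ∃ s₂ ∈ S, ∃ x' y', x = s₁ * x' ∧ y = s₂ * y' ∧ x' * y' = v := by
    intro u hu
    induction hu using Submonoid.closure_induction with
    | mem q hq' =>
      intro v x y h
      rcases (hP q hq').dvd_or_dvd (Dvd.intro_left v h.symm) with ⟨x', rfl⟩ | ⟨y', rfl⟩
      · exact ⟨q, Submonoid.subset_closure hq', 1, S.one_mem, x', y, rfl, (one_mul y).symm,
          mul_left_cancel₀ (hP q hq').ne_zero (by linear_combination h)⟩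
      · exact ⟨1, S.one_mem, q, Submonoid.subset_closure hq', x, y', (one_mul x).symm, rfl,
          mul_left_cancel₀ (hP q hq').ne_zero (by linear_combination h)⟩
    | one => exact fun v x y h => ⟨1, S.one_mem, 1, S.one_mem, x, y, (one_mul x).symm, (one_mul y).symm, by simpa using h⟩
    | mul u w _ _ ihu ihw =>
      intro v x y h
      obtain ⟨a₁, ha₁, a₂, ha₂, x', y', rfl, rfl, h'⟩ := ihw (v * u) x y (by linear_combination h)
      obtain ⟨b₁, hb₁, b₂, hb₂, x'', y'', rfl, rfl, h''⟩ := ihu v x' y' h'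
      exact ⟨a₁ * b₁, S.mul_mem ha₁ hb₁, a₂ * b₂, S.mul_mem ha₂ hb₂, x'', y'', by ring, by ring, h''⟩
  have hnu : ¬ IsUnit (algebraMap R L p) := by
    intro hu
    obtain ⟨⟨v, s⟩, hv⟩ := IsLocalization.surj S (↑hu.unit⁻¹ : L)
    have : algebraMap R L (s : R) = algebraMap R L (p * v) := by
      rw [map_mul, ← hv, ← mul_assoc, IsUnit.mul_val_inv, one_mul]
    exact hp.not_isUnit (isUnit_of_dvd_one (hsat _ s.2 1 ⟨v, by rw [one_mul]; exact hinj this⟩))
  have hirr : Irreducible (algebraMap R L p) := by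
    refine ⟨hnu, fun a b hab => ?_⟩
    obtain ⟨x, s, rfl⟩ := IsLocalization.exists_mk'_eq S a
    obtain ⟨y, t, rfl⟩ := IsLocalization.exists_mk'_eq S b
    have hxy : x * y = p * ((s : R) * t) := hinj (by
      rw [map_mul, map_mul, map_mul, hab, ← IsLocalization.mk'_spec L x s, ← IsLocalization.mk'_spec L y t]
      ring)
    obtain ⟨s₁, hs₁, s₂, hs₂, x', y', rfl, rfl, h'⟩ := hsd _ (S.mul_mem s.2 t.2) p x y hxy
    rcases hp.isUnit_or_isUnit h'.symm with hu | hu
    · left
      rw [IsLocalization.mk'_eq_mul_mk'_one, map_mul]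
      exact ((IsLocalization.map_units L ⟨s₁, hs₁⟩).mul (hu.map (algebraMap R L))).mul
        (IsUnit.of_mul_eq_one _ (IsLocalization.mk'_spec L 1 s |>.trans (map_one _)))
    · right
      rw [IsLocalization.mk'_eq_mul_mk'_one, map_mul]
      exact ((IsLocalization.map_units L ⟨s₂, hs₂⟩).mul (hu.map (algebraMap R L))).mul
        (IsUnit.of_mul_eq_one _ (IsLocalization.mk'_spec L 1 t |>.trans (map_one _)))
  have hpr : Prime (algebraMap R L p) := UniqueFactorizationMonoid.irreducible_iff_prime.1 hirr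
  refine ⟨hp.ne_zero, hp.not_isUnit, fun a b hab => ?_⟩
  have hback : ∀ z : R, algebraMap R L p ∣ algebraMap R L z → p ∣ z := by
    rintro z ⟨w, hw⟩
    obtain ⟨⟨v, s⟩, hv⟩ := IsLocalization.surj S w
    refine hsat _ s.2 z ⟨v, hinj ?_⟩
    rw [map_mul, map_mul, hw, mul_assoc, hv]
  exact (hpr.dvd_or_dvd (by rw [← map_mul]; exact map_dvd _ hab)).imp (hback a) (hback b)

end Groth.Agent.CAlgOdd
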