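import Groth.Prelude.Def_W4stkalgebra1Int
import Mathlib.RingTheory.ReesAlgebra
import Mathlib.RingTheory.IntegralClosure.Algebra.Basic

/-!
# Integrality over an ideal through the Rees algebra
-/

universe u

open Polynomial

namespace Groth.Agent.CAlgOdd

variable {R S : Type u} [CommRing R] [CommRing S] [Algebra R S] (I : Ideal R)

/-- The structure map of `S[X]` over the Rees algebra. -/
noncomputable abbrev reesMap : reesAlgebra I →+* S[X] :=
  (Polynomial.mapRingHom (algebraMap R S)).comp (reesAlgebra I).val.toRingHom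

theorem reesMap_apply (a : reesAlgebra I) : reesMap (S := S) I a = a.1.map (algebraMap R S) := rfl

theorem integralOverIdeal_iff (s : S) :
    W4stkalgebra1.IsIntegralOverIdeal I s ↔ (reesMap I).IsIntegralElem (C s * X : S[X]) := by
  classical
  constructor
  · rintro ⟨p, hp, hc, h0⟩
    set d := p.natDegree
    have hm : ∀ j, monomial (d - j) (p.coeff j) ∈ reesAlgebra I := by
      intro j
      refine reesAlgebra.monomial_mem.mpr ?_
      by_cases hj : j < d
      · exact hc j hj
      · rw [show d - j = 0 by omega, pow_zero, Ideal.one_eq_top]; trivial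
    let q : (reesAlgebra I)[X] :=
      X ^ d + ∑ j ∈ Finset.range d, monomial j (⟨_, hm j⟩ : reesAlgebra I)
    refine ⟨q, monic_X_pow_add ?_, ?_⟩
    · refine lt_of_le_of_lt (degree_sum_le _ _) ?_
      exact (Finset.sup_lt_iff (WithBot.bot_lt_coe d)).mpr fun j hj => lt_of_le_of_lt (degree_monomial_le j _)
        (WithBot.coe_lt_coe.mpr (Finset.mem_range.mp hj))
    · rw [eval₂_add, eval₂_pow, eval₂_X, eval₂_finsetSum]
      have h1 : ∀ j ∈ Finset.range d, eval₂ (reesMap (S := S) I) (C s * X)
          (monomial j (⟨_, hm j⟩ : reesAlgebra I)) = C (algebraMap R S (p.coeff j) * s ^ j) * X ^ d := by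
        intro j hj
        rw [eval₂_monomial, reesMap_apply, map_monomial, mul_pow, ← C_pow, ← C_mul_X_pow_eq_monomial, C_mul]
        have : (d - j) + j = d := Nat.sub_add_cancel (Finset.mem_range.mp hj).le
        conv_rhs => rw [← this, pow_add]
        ring
      rw [Finset.sum_congr rfl h1, ← Finset.sum_mul, ← map_sum, mul_pow, ← C_pow, ← add_mul, ← map_add]
      have h2 : s ^ d + ∑ j ∈ Finset.range d, algebraMap R S (p.coeff j) * s ^ j = 0 := by
        rw [add_comm, ← h0, eval₂_eq_sum_range, Finset.sum_range_succ, hp.coeff_natDegree, map_one, one_mul]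
      rw [h2, map_zero, zero_mul]
  · rintro ⟨q, hq, h0⟩
    set d := q.natDegree
    have h1 := congrArg (fun f : S[X] => f.coeff d) h0
    simp only [eval₂_eq_sum_range, finsetSum_coeff, coeff_zero] at h1
    have hterm : ∀ j ∈ Finset.range (d + 1), (reesMap (S := S) I (q.coeff j) * (C s * X) ^ j).coeff d =
        algebraMap R S ((q.coeff j).1.coeff (d - j)) * s ^ j := by
      intro j hj
      rw [mul_pow, ← C_pow, ← mul_assoc, coeff_mul_X_pow', if_pos (Nat.le_of_lt_succ (Finset.mem_range.mp hj)),
        coeff_mul_C, reesMap_apply, coeff_map]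
    rw [Finset.sum_congr rfl hterm, Finset.sum_range_succ, hq.coeff_natDegree, Nat.sub_self,
      OneMemClass.coe_one, coeff_one_zero, map_one, one_mul] at h1
    by_cases htriv : Subsingleton R
    · have : Subsingleton S := subsingleton_of_zero_eq_one (by
        rw [← map_zero (algebraMap R S), ← map_one (algebraMap R S), Subsingleton.elim (0 : R) 1])
      exact ⟨1, monic_one, fun j hj => by simp at hj, Subsingleton.elim _ _⟩
    have : Nontrivial R := not_subsingleton_iff_nontrivial.mp htriv
    let p : R[X] := X ^ d + ∑ j ∈ Finset.range d, monomial j ((q.coeff j).1.coeff (d - j))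
    have hlt : (∑ j ∈ Finset.range d, monomial j ((q.coeff j).1.coeff (d - j))).degree < (d : WithBot ℕ) := by
      refine lt_of_le_of_lt (degree_sum_le _ _) ?_
      exact (Finset.sup_lt_iff (WithBot.bot_lt_coe d)).mpr fun j hj =>
        lt_of_le_of_lt (degree_monomial_le j _) (WithBot.coe_lt_coe.mpr (Finset.mem_range.mp hj))
    have hdeg : p.natDegree = d := natDegree_eq_of_degree_eq_some (by
      rw [degree_add_eq_left_of_degree_lt (by rwa [degree_X_pow]), degree_X_pow])
    refine ⟨p, monic_X_pow_add hlt, fun j hj => ?_, ?_⟩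
    · rw [hdeg] at hj ⊢
      have : p.coeff j = (q.coeff j).1.coeff (d - j) := by
        simp [p, coeff_X_pow, hj.ne, coeff_monomial, hj]
      rw [this]
      exact (mem_reesAlgebra_iff I _).mp (q.coeff j).2 _
    · simp only [p, eval₂_add, eval₂_pow, eval₂_X, eval₂_finsetSum, eval₂_monomial]
      rw [add_comm]
      exact h1

theorem integralOverIdeal_add {s s' : S} (h : W4stkalgebra1.IsIntegralOverIdeal I s)
    (h' : W4stkalgebra1.IsIntegralOverIdeal I s') : W4stkalgebra1.IsIntegralOverIdeal I (s + s') := by
  rw [integralOverIdeal_iff] at h h' ⊢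
  rw [map_add, add_mul]
  exact RingHom.IsIntegralElem.add _ h h'

theorem integralOverIdeal_mul {s s' : S} (h : IsIntegral R s)
    (h' : W4stkalgebra1.IsIntegralOverIdeal I s') : W4stkalgebra1.IsIntegralOverIdeal I (s * s') := by
  rw [integralOverIdeal_iff] at h' ⊢
  rw [map_mul, mul_assoc]
  refine RingHom.IsIntegralElem.mul _ ?_ h'
  obtain ⟨p, hp, hp0⟩ := h
  refine ⟨p.map (algebraMap R (reesAlgebra I)), hp.map _, ?_⟩
  rw [eval₂_map]
  have : (reesMap (S := S) I).comp (algebraMap R (reesAlgebra I)) = (C : S →+* S[X]).comp (algebraMap R S) := by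
    ext r
    simp [reesMap_apply]
  rw [this, ← hom_eval₂, hp0, map_zero]

end Groth.Agent.CAlgOdd
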