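import Mathlib.RingTheory.Flat.EquationalCriterion
import Mathlib.CategoryTheory.Presentable.Directed
import Mathlib.Algebra.Category.ModuleCat.Colimits
import Mathlib.Algebra.Category.ModuleCat.FilteredColimits
import Mathlib.CategoryTheory.Limits.ConcreteCategory.Basic
import Mathlib.CategoryTheory.Limits.Final
import Mathlib.LinearAlgebra.Finsupp.Pi

/-!
# Lazard's theorem
-/

universe u

open CategoryTheory Limits

namespace Groth.Agent.CAlgOdd.Lazard

variable {R : Type u} [CommRing R] {M : Type u} [AddCommGroup M] [Module R M]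

/-- Finite free modules over `M`. -/
structure FreeOver (R : Type u) [CommRing R] (M : Type u) [AddCommGroup M] [Module R M] : Type u where
  n : ℕ
  map : (Fin n → R) →ₗ[R] M

instance : SmallCategory (FreeOver R M) where
  Hom A B := {a : (Fin A.n → R) →ₗ[R] (Fin B.n → R) // B.map ∘ₗ a = A.map}
  id A := ⟨LinearMap.id, LinearMap.comp_id _⟩
  comp {A B C} f g := ⟨g.1 ∘ₗ f.1, by rw [← LinearMap.comp_assoc, g.2, f.2]⟩

/-- The forgetful functor. -/
def free : FreeOver R M ⥤ ModuleCat.{u} R where
  obj A := ModuleCat.of R (Fin A.n → R)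
  map f := ModuleCat.ofHom f.1
  map_id _ := rfl
  map_comp _ _ := rfl

/-- The tautological cocone. -/
def cocone : Cocone (free (R := R) (M := M)) where
  pt := ModuleCat.of R M
  ι :=
    { app := fun A => ModuleCat.ofHom A.map
      naturality := fun A B f => ModuleCat.hom_ext f.2 }

/-- The object attached to finitely many elements. -/
abbrev ofFun {n : ℕ} (m : Fin n → M) : FreeOver R M := ⟨n, Fintype.linearCombination R m⟩

theorem app_eq_app {A B : FreeOver R M} (s : Cocone (free (R := R) (M := M)))
    (a : (Fin A.n → R) →ₗ[R] (Fin B.n → R)) (ha : B.map ∘ₗ a = A.map) (v : Fin A.n → R) :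
    (s.ι.app B).hom (a v) = (s.ι.app A).hom v :=
  LinearMap.congr_fun (congrArg ModuleCat.Hom.hom (s.w (⟨a, ha⟩ : A ⟶ B))) v

/-- The descended map on elements. -/
def descFun (s : Cocone (free (R := R) (M := M))) (m : M) : s.pt :=
  (s.ι.app (ofFun (R := R) ![m])).hom fun _ => (1 : R)

theorem descFun_eq (s : Cocone (free (R := R) (M := M))) (A : FreeOver R M) (v : Fin A.n → R) :
    descFun s (A.map v) = (s.ι.app A).hom v := by
  rw [descFun]
  refine (app_eq_app s (A := ofFun ![A.map v]) (B := A) ((LinearMap.proj (0 : Fin 1)).smulRight v) ?_ _).symm.trans ?_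
  · refine LinearMap.pi_ext fun i c => ?_
    fin_cases i
    show A.map ((Pi.single (0 : Fin 1) c : Fin 1 → R) 0 • v) = _
    simp [ofFun, Fintype.linearCombination_apply_single, Fintype.linearCombination_apply]
  · show (s.ι.app A).hom ((1 : R) • v) = _
    rw [one_smul]

/-- `M` is the colimit of the finite free modules over it. -/
def isColimitCocone : IsColimit (cocone (R := R) (M := M)) where
  desc s := ModuleCat.ofHom
    { toFun := descFun s
      map_add' := fun m m' => by
        have e1 : (ofFun (R := R) ![m, m']).map (Pi.single 0 1) = m := by simp [ofFun, Fintype.linearCombination_apply_single, Fintype.linearCombination_apply]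
        have e2 : (ofFun (R := R) ![m, m']).map (Pi.single 1 1) = m' := by simp [ofFun, Fintype.linearCombination_apply_single, Fintype.linearCombination_apply]
        have h := descFun_eq s (ofFun (R := R) ![m, m']) (Pi.single 0 1 + Pi.single 1 1)
        rw [map_add, e1, e2] at h
        exact h.trans ((LinearMap.map_add (s.ι.app _).hom _ _).trans
          (congrArg₂ (· + ·) ((descFun_eq s _ _).symm.trans (congrArg (descFun s) e1))
            ((descFun_eq s _ _).symm.trans (congrArg (descFun s) e2))))
      map_smul' := fun r m => by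
        have e1 : (ofFun (R := R) ![m]).map (Pi.single 0 1) = m := by simp [ofFun, Fintype.linearCombination_apply_single, Fintype.linearCombination_apply]
        have h := descFun_eq s (ofFun (R := R) ![m]) (r • Pi.single 0 1)
        rw [map_smul, e1] at h
        exact h.trans ((LinearMap.map_smul (s.ι.app _).hom _ _).trans
          (congrArg (r • ·) ((descFun_eq s _ _).symm.trans (congrArg (descFun s) e1)))) }
  fac s A := ModuleCat.hom_ext (LinearMap.ext fun v => descFun_eq s A v)
  uniq s g hg := ModuleCat.hom_ext (LinearMap.ext fun m => by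
    show g.hom m = descFun s m
    rw [descFun, ← hg (ofFun ![m])]
    show g.hom m = g.hom ((ofFun (R := R) ![m]).map fun _ => 1)
    simp [ofFun, Fintype.linearCombination_apply_single, Fintype.linearCombination_apply])

theorem isFiltered [Module.Flat R M] : IsFiltered (FreeOver R M) where
  nonempty := ⟨ofFun ![]⟩
  cocone_objs A B := by
    let e : (Fin (A.n + B.n) → R) ≃ₗ[R] ((Fin A.n → R) × (Fin B.n → R)) :=
      (LinearEquiv.funCongrLeft R R finSumFinEquiv).trans (LinearEquiv.sumArrowLequivProdArrow (Fin A.n) (Fin B.n) R R)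
    refine ⟨⟨A.n + B.n, A.map.coprod B.map ∘ₗ e.toLinearMap⟩,
      ⟨e.symm.toLinearMap ∘ₗ LinearMap.inl R _ _, ?_⟩, ⟨e.symm.toLinearMap ∘ₗ LinearMap.inr R _ _, ?_⟩, trivial⟩
    · ext v; simp
    · ext v; simp
  cocone_maps A B f g := by
    have h : B.map ∘ₗ (f.1 - g.1) = 0 := by rw [LinearMap.comp_sub, f.2, g.2, sub_self]
    obtain ⟨k, a, y, hya, ha⟩ := Module.Flat.exists_factorization_of_comp_eq_zero_of_free h
    let e := Finsupp.linearEquivFunOnFinite R R (Fin k)
    refine ⟨⟨k, y ∘ₗ e.symm.toLinearMap⟩, ⟨e.toLinearMap ∘ₗ a, ?_⟩, ?_⟩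
    · rw [hya]; ext v; simp
    · refine Subtype.ext (sub_eq_zero.1 ?_)
      show (e.toLinearMap ∘ₗ a) ∘ₗ f.1 - (e.toLinearMap ∘ₗ a) ∘ₗ g.1 = 0
      rw [← LinearMap.comp_sub, LinearMap.comp_assoc, ha, LinearMap.comp_zero]

theorem exists_system [Module.Flat R M] :
    ∃ (J : Type u) (_ : Preorder J) (_ : IsDirected J (fun a b => a ≤ b)) (_ : Nonempty J)
      (F : J ⥤ ModuleCat.{u} R), (∀ j, Module.Finite R (F.obj j) ∧ Module.Free R (F.obj j)) ∧
      Nonempty (Limits.colimit F ≅ ModuleCat.of R M) := by
  haveI := isFiltered (R := R) (M := M)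
  obtain ⟨α, _, _, _, G, _⟩ := IsFiltered.exists_directed (FreeOver R M)
  refine ⟨α, inferInstance, inferInstance, inferInstance, G ⋙ free, fun j => ⟨?_, ?_⟩,
    ⟨Functor.Final.colimitIso G free ≪≫ colimit.isoColimitCocone (⟨cocone, isColimitCocone⟩ : ColimitCocone (free (R := R) (M := M)))⟩⟩
  · exact inferInstanceAs (Module.Finite R (Fin (G.obj j).n → R))
  · exact inferInstanceAs (Module.Free R (Fin (G.obj j).n → R))

theorem flat_of_system {J : Type u} [Preorder J] [IsDirected J (fun a b => a ≤ b)] [Nonempty J]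
    (F : J ⥤ ModuleCat.{u} R) (hF : ∀ j, Module.Flat R (F.obj j))
    (e : Limits.colimit F ≅ ModuleCat.of R M) : Module.Flat R M := by
  classical
  haveI : IsFiltered J := inferInstance
  refine Module.Flat.of_forall_isTrivialRelation fun {l f x} h => ?_
  choose j z hz using fun i => Concrete.colimit_exists_rep F (e.inv.hom (x i))
  obtain ⟨j₀, hj₀⟩ := Finite.exists_le j
  let w : Fin l → F.obj j₀ := fun i => (F.map (homOfLE (hj₀ i))).hom (z i)
  have hw : ∀ i, (colimit.ι F j₀).hom (w i) = e.inv.hom (x i) := fun i => by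
    rw [← hz i]
    exact LinearMap.congr_fun (congrArg ModuleCat.Hom.hom (colimit.w F (homOfLE (hj₀ i)))) (z i)
  have h0 : (colimit.ι F j₀).hom (∑ i, f i • w i) = (colimit.ι F j₀).hom 0 := by
    rw [map_sum, map_zero]
    simp only [map_smul, hw]
    rw [← Finset.sum_congr rfl fun i _ => map_smul e.inv.hom (f i) (x i), ← map_sum, h, map_zero]
  obtain ⟨k, p, q, hk⟩ := Concrete.colimit_exists_of_rep_eq F (∑ i, f i • w i) 0 h0
  have hk' : ∑ i, f i • (F.map p).hom (w i) = 0 := by
    have e' : (F.map p).hom (∑ i, f i • w i) = (F.map q).hom 0 := hk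
    simpa [map_sum] using e'
  haveI := hF k
  obtain ⟨n, a, y, hy, ha⟩ := Module.Flat.isTrivialRelation_of_sum_smul_eq_zero hk'
  refine ⟨n, a, fun t => e.hom.hom ((colimit.ι F k).hom (y t)), fun i => ?_, ha⟩
  have h1 : (colimit.ι F k).hom ((F.map p).hom (w i)) = e.inv.hom (x i) := by
    rw [← hw i]
    exact LinearMap.congr_fun (congrArg ModuleCat.Hom.hom (colimit.w F p)) (w i)
  have h2 : e.hom.hom (e.inv.hom (x i)) = x i :=
    LinearMap.congr_fun (congrArg ModuleCat.Hom.hom e.inv_hom_id) (x i)
  have hy' : (F.map p).hom (w i) = ∑ t, a i t • y t := hy i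
  rw [← h2, ← h1, hy', map_sum, map_sum]
  simp

end Groth.Agent.CAlgOdd.Lazard
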