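import Groth.Agent.InvMod.PicNil
import Mathlib.RingTheory.Noetherian.Nilpotent

/-!
# Lifting finite projective modules along a locally nilpotent ideal
-/

universe u v

open scoped TensorProduct

namespace Groth.Agent.CAlgOdd

open Groth.Agent.InvMod

variable {R A : Type u} [CommRing R] [CommRing A] [Algebra R A]

/-- A finite projective module lifts along a nilpotent thickening. -/
theorem exists_lift_of_locally_nilpotent (hf : Function.Surjective (algebraMap R A))
    (hI : ∀ x ∈ RingHom.ker (algebraMap R A), IsNilpotent x) (N : Type u) [AddCommGroup N] [Module A N]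
    [Module.Finite A N] [Module.Projective A N] :
    ∃ (P : Type u) (_ : AddCommGroup P) (_ : Module R P), Module.Finite R P ∧ Module.Projective R P ∧
      Nonempty ((A ⊗[R] P) ≃ₗ[A] N) := by
  classical
  obtain ⟨n, π, s, hπ, hs, hπs⟩ := Module.Finite.exists_comp_eq_id_of_projective A N
  let E : Matrix (Fin n) (Fin n) A := LinearMap.toMatrix' (s ∘ₗ π)
  have hEv : ∀ v, E.mulVec v = s (π v) := fun v => by
    rw [← Matrix.toLin'_apply]; simp [E]
  have hE : IsIdempotentElem E := by
    refine Matrix.toLin'.injective (LinearMap.ext fun v => ?_)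
    simp only [Matrix.toLin'_apply, ← Matrix.mulVec_mulVec, hEv]
    rw [show π (s (π v)) = π v from LinearMap.congr_fun hπs (π v)]
  have hnil : ∀ x ∈ RingHom.ker ((algebraMap R A).mapMatrix (m := Fin n)), IsNilpotent x := by
    intro x hx
    have hx0 : x.map (algebraMap R A) = 0 := by simpa [RingHom.mem_ker] using hx
    let J : Ideal R := Ideal.span (Set.range fun ab : Fin n × Fin n => x ab.1 ab.2)
    have hJ : IsNilpotent J := (Ideal.FG.isNilpotent_iff_le_nilradical
      (Submodule.fg_span (Set.finite_range _))).mpr (Ideal.span_le.mpr (by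
        rintro _ ⟨⟨a, b⟩, rfl⟩
        exact mem_nilradical.mpr (hI _ (RingHom.mem_ker.2 (congrFun (congrFun hx0 a) b)))))
    obtain ⟨k, hk⟩ := hJ
    have key : ∀ j, ∀ a b, (x ^ j) a b ∈ J ^ j := by
      intro j
      induction j with
      | zero => simp
      | succ j ih =>
        intro a b
        rw [pow_succ x, pow_succ J, Matrix.mul_apply]
        exact Ideal.sum_mem _ fun c _ => Ideal.mul_mem_mul (ih a c) (Ideal.subset_span ⟨(c, b), rfl⟩)
    refine ⟨k, Matrix.ext fun a b => ?_⟩
    simpa [hk] using key k a b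
  have hmem : E ∈ ((algebraMap R A).mapMatrix (m := Fin n)).range :=
    ⟨E.map (Function.surjInv hf), Matrix.ext fun a b => Function.surjInv_eq hf _⟩
  obtain ⟨E', hE', hEE'⟩ := exists_isIdempotentElem_eq_of_ker_isNilpotent
    ((algebraMap R A).mapMatrix (m := Fin n)) hnil E hmem hE
  let p : (Fin n → R) →ₗ[R] LinearMap.range (Matrix.toLin' E') := (Matrix.toLin' E').rangeRestrict
  have hp : ∀ x : LinearMap.range (Matrix.toLin' E'), p x = x := by
    rintro ⟨_, v, rfl⟩
    refine Subtype.ext ?_
    show E'.mulVec (E'.mulVec v) = E'.mulVec v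
    rw [Matrix.mulVec_mulVec, hE'.eq]
  have : Module.Projective R (LinearMap.range (Matrix.toLin' E')) :=
    Module.Projective.of_split (LinearMap.range (Matrix.toLin' E')).subtype p (LinearMap.ext hp)
  refine ⟨LinearMap.range (Matrix.toLin' E'), inferInstance, inferInstance,
    Module.Finite.of_surjective p (LinearMap.surjective_rangeRestrict _), inferInstance, ⟨?_⟩⟩
  let c : (Fin n → R) →+ (Fin n → A) := (algebraMap R A).toAddMonoidHom.compLeft (Fin n)
  let Φ : (A ⊗[R] LinearMap.range (Matrix.toLin' E')) →ₗ[A] N :=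
    π ∘ₗ (TensorProduct.piScalarRight R A A (Fin n)).toLinearMap ∘ₗ
      (LinearMap.range (Matrix.toLin' E')).subtype.baseChange A
  have hΦ : ∀ x : LinearMap.range (Matrix.toLin' E'), Φ (1 ⊗ₜ x) = π (c x) := by
    intro x
    show π _ = π _
    congr 1
    ext i
    simp [c, Algebra.smul_def]
  let Ψ : N →ₗ[A] A ⊗[R] LinearMap.range (Matrix.toLin' E') :=
    ∑ i, (LinearMap.proj i ∘ₗ s).smulRight (1 ⊗ₜ p (Pi.single i 1))
  have hc : ∀ v, c (E'.mulVec v) = E.mulVec (c v) := by
    intro v
    funext i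
    rw [← hEE']
    exact RingHom.map_mulVec (algebraMap R A) E' v i
  have hΨ : ∀ v : Fin n → R, ∀ m : N, s m = c v →
      Ψ m = 1 ⊗ₜ[R] p v := by
    intro v m hm
    conv_rhs => rw [pi_eq_sum_univ' v, map_sum, TensorProduct.tmul_sum]
    simp only [Ψ, LinearMap.sum_apply, LinearMap.smulRight_apply, LinearMap.comp_apply, LinearMap.proj_apply, hm]
    refine Finset.sum_congr rfl fun i _ => ?_
    rw [map_smul, TensorProduct.tmul_smul]
    exact IsScalarTower.algebraMap_smul A (v i) ((1 : A) ⊗ₜ[R] p (Pi.single i 1))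
  refine LinearEquiv.ofBijective Φ ⟨Function.LeftInverse.injective (g := Ψ) fun z => ?_, fun m => ?_⟩
  · obtain ⟨x, rfl⟩ := one_tmul_surjective hf _ z
    have hx : E'.mulVec (x : Fin n → R) = x := congrArg Subtype.val (hp x)
    rw [hΦ, hΨ (E'.mulVec x) _ (by rw [hc, hEv])]
    rw [hx, hp]
  · obtain ⟨v, hv⟩ : ∃ v, c v = s m :=
      ⟨fun i => Function.surjInv hf (s m i), funext fun i => Function.surjInv_eq hf _⟩
    refine ⟨1 ⊗ₜ p v, ?_⟩
    rw [hΦ, show ((p v : LinearMap.range (Matrix.toLin' E')) : Fin n → R) = E'.mulVec v from rfl, hc, hv, hEv,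
      show π (s m) = m from LinearMap.congr_fun hπs m]
    exact LinearMap.congr_fun hπs m

end Groth.Agent.CAlgOdd
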