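import Groth.Agent.S1621
import Groth.Agent.VarDim.Intersection
import Groth.Prelude.Def_Flat
import Mathlib

/-!
# Local dimension of the spectrum of a finite type algebra over a field
-/

universe u

open TensorProduct AlgebraicGeometry CategoryTheory Order

namespace Groth.Agent.CAlgOdd.LocalDimSpec

open Groth.Agent.VarDim

section LocalDim

variable (k : Type u) {S : Type u} [Field k] [CommRing S] [Algebra k S] [Algebra.FiniteType k S]
include k

/-- The local dimension at `p` is `ht p + dim S/p`. -/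
theorem localDim_eq_add (p : PrimeSpectrum S) :
    FlatMor.localDim (PrimeSpectrum S) p = ((height p + coheight p : ℕ∞) : WithBot ℕ∞) := by
  let X : Scheme.{u} := Spec (CommRingCat.of S)
  let f : X ⟶ Spec (CommRingCat.of k) := Spec.map (CommRingCat.ofHom (algebraMap k S))
  letI : X.Over (Spec (CommRingCat.of k)) := ⟨f⟩
  haveI : LocallyOfFiniteType (X ↘ Spec (CommRingCat.of k)) := by
    show LocallyOfFiniteType f
    rw [HasRingHomProperty.Spec_iff (P := @LocallyOfFiniteType)]
    exact RingHom.finiteType_algebraMap.2 inferInstance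
  let x : X := p
  let e : (PrimeSpectrum S)ᵒᵈ ≃o X :=
    { toFun := fun q => OrderDual.ofDual q
      invFun := fun q => OrderDual.toDual q
      left_inv := fun _ => rfl
      right_inv := fun _ => rfl
      map_rel_iff' := fun {a b} =>
        (PrimeSpectrum.le_iff_specializes (OrderDual.ofDual b) (OrderDual.ofDual a)).symm }
  have hh : height x = coheight p := height_orderIso e (OrderDual.toDual p)
  have hc : coheight x = height p := coheight_orderIso e (OrderDual.toDual p)
  haveI : IsNoetherianRing S := Algebra.FiniteType.isNoetherianRing k S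
  obtain ⟨b, hb⟩ : ∃ b : ℕ, height p = b := by
    have : height p ≠ ⊤ := by
      rw [← PrimeSpectrum.height_eq_orderHeight]
      exact Ideal.height_ne_top_of_isPrime
    exact ⟨_, (ENat.natCast_toNat this).symm⟩
  have hst : ringKrullDim (X.presheaf.stalk x) = b := by
    rw [ringKrullDim_stalk_eq_coheight, hc, hb]
    rfl
  show FlatMor.localDim X x = _
  rw [S1621.localDim_eq k X x b hst, hb, ← hh,
    height_eq_deg (X ↘ (Spec (CommRingCat.of k))) x, Nat.cast_add, add_comm (b : ℕ∞)]
  rfl

theorem coheight_le_of_le {q p : PrimeSpectrum S} (h : q ≤ p) :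
    ((coheight q : ℕ∞) : WithBot ℕ∞) ≤ FlatMor.localDim (PrimeSpectrum S) p := by
  rw [localDim_eq_add k, WithBot.coe_le_coe]
  exact le_add_self.trans (height_add_coheight_mono k h)

/-- The local dimension is attained by a generalization. -/
theorem exists_coheight_eq (p : PrimeSpectrum S) :
    ∃ q ≤ p, FlatMor.localDim (PrimeSpectrum S) p = ((coheight q : ℕ∞) : WithBot ℕ∞) := by
  haveI : IsNoetherianRing S := Algebra.FiniteType.isNoetherianRing k S
  have hfin : height p ≠ ⊤ := by
    rw [← PrimeSpectrum.height_eq_orderHeight]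
    exact Ideal.height_ne_top_of_isPrime
  obtain ⟨b, hb⟩ := ENat.ne_top_iff_exists.1 hfin
  obtain ⟨l, hl, hlen⟩ := exists_series_of_height_eq_coe p hb.symm
  obtain ⟨c, hc⟩ := ENat.ne_top_iff_exists.1 (coheight_ne_top k p)
  obtain ⟨m, hm, hmlen⟩ := exists_series_of_coheight_eq_coe p hc.symm
  have h0 : l.head ≤ p := hl ▸ LTSeries.head_le_last l
  refine ⟨l.head, h0, le_antisymm ?_ (coheight_le_of_le k h0)⟩
  have h1 := length_le_coheight (p := l.smash m (hl.trans hm.symm)) (x := l.head)
    (le_of_eq (RelSeries.head_smash _).symm)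
  rw [RelSeries.smash_length, hlen, hmlen, Nat.cast_add] at h1
  rw [localDim_eq_add k, WithBot.coe_le_coe, ← hb, ← hc]
  exact h1

theorem exists_minimal_nhd (p : PrimeSpectrum S) :
    ∃ g : S, g ∉ p.asIdeal ∧ ∀ q : PrimeSpectrum S, g ∉ q.asIdeal →
      ∀ P ∈ minimalPrimes S, P ≤ q.asIdeal → P ≤ p.asIdeal := by
  haveI : IsNoetherianRing S := Algebra.FiniteType.isNoetherianRing k S
  have hfin : {P : Ideal S | P ∈ minimalPrimes S ∧ ¬ P ≤ p.asIdeal}.Finite :=
    (minimalPrimes.finite_of_isNoetherianRing _).subset fun P hP => hP.1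
  have hnle : ¬ hfin.toFinset.inf id ≤ p.asIdeal := fun h => by
    obtain ⟨P, hP, hle⟩ := (Ideal.IsPrime.inf_le' p.2).1 h
    exact ((hfin.mem_toFinset).1 hP).2 hle
  obtain ⟨g, hg, hgp⟩ := SetLike.not_le_iff_exists.1 hnle
  refine ⟨g, hgp, fun q hq P hP hPq => by_contra fun hne => hq (hPq ?_)⟩
  exact (Finset.inf_le (f := id) (hfin.mem_toFinset.2 ⟨hP, hne⟩)) hg

end LocalDim

variable (k : Type u) [Field k]

/-- Every minimal prime of the tensor product of two domains has the sum of their dimensions. -/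
theorem coheight_minimalPrime_field_tensor (AP AQ : Type u) [CommRing AP] [IsDomain AP] [Algebra k AP]
    [IsNoetherianRing AP] [CommRing AQ] [IsDomain AQ] [Algebra k AQ] [Algebra.FiniteType k AQ]
    {r s : ℕ} (hr : ringKrullDim AP = r) (hs : ringKrullDim AQ = s)
    (q : PrimeSpectrum (AP ⊗[k] AQ)) (hq : q.asIdeal ∈ minimalPrimes (AP ⊗[k] AQ)) :
    coheight q = (r + s : ℕ) := by
  classical
  obtain ⟨s', g, hinj, hfin⟩ := exists_finite_inj_algHom_of_fg k AQ
  let T := MvPolynomial (Fin s') k
  letI : Algebra T AQ := g.toRingHom.toAlgebra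
  have : IsScalarTower k T AQ := IsScalarTower.of_algebraMap_eq fun x => (g.commutes x).symm
  have hTfin : Module.Finite T AQ := hfin
  have : FaithfulSMul T AQ := (faithfulSMul_iff_algebraMap_injective _ _).2 hinj
  have hTint : Algebra.IsIntegral T AQ := Algebra.IsIntegral.of_finite T AQ
  obtain rfl : s' = s := by
    rw [ringKrullDim_eq_of_isIntegral (R := T) (S := AQ), MvPolynomial.ringKrullDim_of_isNoetherianRing,
      ringKrullDim_eq_zero_of_field, zero_add, Nat.card_fin] at hs
    exact_mod_cast hs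
  obtain ⟨N, φ, hφ⟩ := exists_injective_pi (R := T) (M := AQ) fun c hc x y h => by
    simp only [Algebra.smul_def] at h
    exact mul_left_cancel₀ (fun h0 => hc (hinj (h0.trans (map_zero g).symm))) h
  let D := AP ⊗[k] T
  let eD : D ≃ₐ[AP] MvPolynomial (Fin s') AP := MvPolynomial.algebraTensorAlgEquiv k AP
  have : IsDomain D := eD.toRingEquiv.toMulEquiv.isDomain
  have hdimD : ringKrullDim D = ((r + s' : ℕ) : WithBot ℕ∞) := by
    rw [ringKrullDim_eq_of_ringEquiv eD.toRingEquiv, MvPolynomial.ringKrullDim_of_isNoetherianRing, hr,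
      Nat.card_fin, Nat.cast_add]
  let gB : D →ₐ[k] AP ⊗[k] AQ := Algebra.TensorProduct.map (AlgHom.id k AP) g
  let Φ : AP ⊗[k] AQ →ₗ[k] Fin N → D :=
    (TensorProduct.piRight k k AP (fun _ : Fin N => T)).toLinearMap ∘ₗ
      LinearMap.lTensor AP (φ.restrictScalars k)
  have hΦ : Function.Injective Φ :=
    (TensorProduct.piRight k k AP (fun _ : Fin N => T)).injective.comp
      (Module.Flat.lTensor_preserves_injective_linearMap _ hφ)
  have hmul : ∀ (d : D) (b : AP ⊗[k] AQ) (i : Fin N), Φ (gB d * b) i = d * Φ b i := by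
    intro d b i
    induction d using TensorProduct.induction_on with
    | zero => simp
    | add d₁ d₂ h₁ h₂ => rw [map_add, add_mul, map_add, Pi.add_apply, h₁, h₂, add_mul]
    | tmul a t =>
      induction b using TensorProduct.induction_on with
      | zero => simp
      | add b₁ b₂ h₁ h₂ => rw [mul_add, map_add, Pi.add_apply, h₁, h₂, map_add, Pi.add_apply, mul_add]
      | tmul a' x =>
        have e1 : gB (a ⊗ₜ[k] t) = a ⊗ₜ[k] g t := Algebra.TensorProduct.map_tmul _ _ _ _
        have e2 : ∀ (c : AP) (y : AQ), Φ (c ⊗ₜ[k] y) i = c ⊗ₜ[k] φ y i := fun c y => by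
          simp [Φ]
        rw [e1, Algebra.TensorProduct.tmul_mul_tmul, e2, e2, show g t * x = t • x from rfl, map_smul,
          Pi.smul_apply, smul_eq_mul]
        exact (Algebra.TensorProduct.tmul_mul_tmul a a' t (φ x i)).symm
  letI : Algebra D (AP ⊗[k] AQ) := gB.toRingHom.toAlgebra
  have hint : Algebra.IsIntegral D (AP ⊗[k] AQ) := ⟨fun b => by
    induction b using TensorProduct.induction_on with
    | zero => exact isIntegral_zero
    | add b₁ b₂ h₁ h₂ => exact h₁.add h₂
    | tmul a x =>
      rw [show a ⊗ₜ[k] x = (a ⊗ₜ[k] (1 : AQ)) * ((1 : AP) ⊗ₜ[k] x) by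
        rw [Algebra.TensorProduct.tmul_mul_tmul, mul_one, one_mul]]
      refine IsIntegral.mul ?_ ?_
      · have h1 : IsIntegral D (algebraMap D (AP ⊗[k] AQ) (a ⊗ₜ[k] (1 : T))) := isIntegral_algebraMap
        rwa [show algebraMap D (AP ⊗[k] AQ) (a ⊗ₜ[k] (1 : T)) = a ⊗ₜ[k] (1 : AQ) from by
          show gB (a ⊗ₜ[k] (1 : T)) = _
          rw [show gB (a ⊗ₜ[k] (1 : T)) = a ⊗ₜ[k] g 1 from Algebra.TensorProduct.map_tmul _ _ _ _,
            map_one]] at h1
      · obtain ⟨p, hp, hpx⟩ := Algebra.IsIntegral.isIntegral (R := T) x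
        refine ⟨p.map (Algebra.TensorProduct.includeRight (R := k) (A := AP) (B := T)).toRingHom,
          hp.map _, ?_⟩
        rw [Polynomial.eval₂_map]
        have : (algebraMap D (AP ⊗[k] AQ)).comp
            (Algebra.TensorProduct.includeRight (R := k) (A := AP) (B := T)).toRingHom =
            (Algebra.TensorProduct.includeRight (R := k) (A := AP) (B := AQ)).toRingHom.comp
              (algebraMap T AQ) := by
          refine RingHom.ext fun t => ?_
          show gB ((1 : AP) ⊗ₜ[k] t) = (1 : AP) ⊗ₜ[k] g t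
          rw [Algebra.TensorProduct.map_tmul, AlgHom.id_apply]
        rw [this]
        exact (Polynomial.hom_eval₂ _ _ _ _).symm.trans (by rw [hpx, map_zero])⟩
  have hbot : q.asIdeal.comap (algebraMap D (AP ⊗[k] AQ)) = ⊥ := by
    rw [eq_bot_iff]
    intro d hd
    by_contra hd0
    refine notMem_nonZeroDivisors_of_mem_mem_minimalPrimes (Ideal.mem_comap.1 hd) hq ?_
    refine mem_nonZeroDivisors_iff_right.2 fun b hb => hΦ ?_
    rw [map_zero]
    funext i
    have h := hmul d b i
    rw [mul_comm, show b * gB d = 0 from hb, map_zero, Pi.zero_apply] at h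
    exact (mul_eq_zero.1 h.symm).resolve_left hd0
  have : FaithfulSMul D ((AP ⊗[k] AQ) ⧸ q.asIdeal) := by
    refine (faithfulSMul_iff_algebraMap_injective D _).2 ((injective_iff_map_eq_zero _).2 ?_)
    intro d hd
    rw [IsScalarTower.algebraMap_apply D (AP ⊗[k] AQ), Ideal.Quotient.algebraMap_eq,
      Ideal.Quotient.eq_zero_iff_mem, ← Ideal.mem_comap, hbot] at hd
    exact hd
  have hI : Algebra.IsIntegral D ((AP ⊗[k] AQ) ⧸ q.asIdeal) :=
    ⟨fun y => by
      obtain ⟨y, rfl⟩ := Ideal.Quotient.mk_surjective y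
      obtain ⟨p, hp, hpy⟩ := hint.isIntegral y
      refine ⟨p, hp, ?_⟩
      show Polynomial.eval₂ ((Ideal.Quotient.mk q.asIdeal).comp (algebraMap D (AP ⊗[k] AQ)))
        (Ideal.Quotient.mk q.asIdeal y) p = 0
      rw [← Polynomial.hom_eval₂, hpy, map_zero]⟩
  refine WithBot.coe_inj.1 ((coheight_eq_ringKrullDim_quotient q).trans ?_)
  rw [ringKrullDim_eq_of_isIntegral (R := D) (S := (AP ⊗[k] AQ) ⧸ q.asIdeal), hdimD]
  rfl

end Groth.Agent.CAlgOdd.LocalDimSpec
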