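import Groth.Prelude.Def_EGA4b
import Groth.Agent.S6278
import Mathlib

/-!
# Normal rings: total ring of fractions, polynomials, colimits
-/

namespace Groth.Agent.CAlgOdd

universe u

open scoped nonZeroDivisors

variable {R : Type u} [CommRing R]

theorem exists_notMem_inf [Nontrivial R] (hfin : (minimalPrimes R).Finite) {P : Ideal R} (hP : P ∈ minimalPrimes R)
    (S : Set (Ideal R)) (hS : S ⊆ minimalPrimes R) (hPS : P ∉ S) : ∃ t, t ∉ P ∧ ∀ Q ∈ S, t ∈ Q := by
  classical
  have hne : ∀ Q ∈ S, ∃ t, t ∈ Q ∧ t ∉ P := fun Q hQ => by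
    by_contra! hcon
    exact hPS ((le_antisymm (hP.2 (hS hQ).1 fun x hx => hcon x hx) fun x hx => hcon x hx) ▸ hQ : P ∈ S)
  choose! t ht htP using hne
  refine ⟨∏ Q ∈ (hfin.subset hS).toFinset, t Q, fun h => ?_, fun Q hQ => ?_⟩
  · obtain ⟨Q, hQ, hQ'⟩ := (hP.1.1.prod_mem_iff).1 h
    exact htP Q ((hfin.subset hS).mem_toFinset.1 hQ) hQ'
  · exact Ideal.prod_mem Q ((hfin.subset hS).mem_toFinset.2 hQ) (ht Q hQ)

theorem eq_zero_of_mem_minimalPrimes [IsReduced R] {x : R} (h : ∀ Q ∈ minimalPrimes R, x ∈ Q) : x = 0 := by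
  have : x ∈ sInf (minimalPrimes R) := Submodule.mem_sInf.2 h
  rw [show sInf (minimalPrimes R) = (⊥ : Ideal R).radical from Ideal.sInf_minimalPrimes, Ideal.radical_bot_of_isReduced] at this
  exact this

theorem mem_nonZeroDivisors_of_notMem [IsReduced R] {x : R} (h : ∀ Q ∈ minimalPrimes R, x ∉ Q) : x ∈ R⁰ := by
  rw [mem_nonZeroDivisors_iff_right]
  intro z hz
  exact eq_zero_of_mem_minimalPrimes fun Q hQ => (hQ.1.1.mem_or_mem (hz ▸ Q.zero_mem : z * x ∈ Q)).resolve_right (h Q hQ)

theorem normal_of_isIntegrallyClosedIn [IsReduced R] (hfin : (minimalPrimes R).Finite)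
    (h : IsIntegrallyClosedIn R (FractionRing R)) (p : Ideal R) [p.IsPrime] :
    IsDomain (Localization.AtPrime p) ∧ IsIntegrallyClosed (Localization.AtPrime p) := by
  classical
  have hnt : Nontrivial R := ⟨⟨0, 1, fun h01 => (‹p.IsPrime›).ne_top ((Ideal.eq_top_iff_one p).2 (h01 ▸ p.zero_mem))⟩⟩
  set K := FractionRing R
  obtain ⟨P, hP, hPp⟩ := Ideal.exists_minimalPrimes_le (bot_le : (⊥ : Ideal R) ≤ p)
  replace hP : P ∈ minimalPrimes R := hP
  have hPprime : P.IsPrime := hP.1.1
  -- the idempotent of `P`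
  obtain ⟨a, haP, haQ⟩ := exists_notMem_inf hfin hP (minimalPrimes R \ {P}) Set.sdiff_subset (by simp)
  obtain ⟨b, hbP, hb⟩ : ∃ b ∈ P, ∀ Q, Q ∈ minimalPrimes R ∧ Q ≠ P → b ∉ Q := by
    have h1 : ∀ Q ∈ minimalPrimes R, ∃ t, t ∉ Q ∧ ∀ Q' ∈ minimalPrimes R \ {Q}, t ∈ Q' := fun Q hQ =>
      exists_notMem_inf hfin hQ _ Set.sdiff_subset (by simp)
    choose! t ht ht' using h1
    refine ⟨∑ Q ∈ (hfin.subset (Set.sdiff_subset (t := {P}))).toFinset, t Q, Ideal.sum_mem _ fun Q hQ => ?_, ?_⟩
    · obtain ⟨hQmin, hne⟩ := (hfin.subset Set.sdiff_subset).mem_toFinset.1 hQ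
      exact ht' Q hQmin P ⟨hP, fun h => hne h.symm⟩
    · rintro Q ⟨hQmin, hne⟩ hmem
      have hQm : Q ∈ (hfin.subset (Set.sdiff_subset (t := {P}))).toFinset :=
        (hfin.subset Set.sdiff_subset).mem_toFinset.2 ⟨hQmin, hne⟩
      rw [← Finset.add_sum_erase _ _ hQm] at hmem
      refine ht Q hQmin (by
        have hrest : ∑ x ∈ ((hfin.subset (Set.sdiff_subset (t := {P}))).toFinset).erase Q, t x ∈ Q :=
          Ideal.sum_mem _ fun x hx => by
            obtain ⟨hxne, hx'⟩ := Finset.mem_erase.1 hx
            obtain ⟨hxmin, -⟩ := (hfin.subset Set.sdiff_subset).mem_toFinset.1 hx'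
            exact ht' x hxmin Q ⟨hQmin, fun h => hxne h.symm⟩
        simpa using sub_mem hmem hrest)
  have hden : a + b ∈ R⁰ := mem_nonZeroDivisors_of_notMem fun Q hQ hab => by
    by_cases hQP : Q = P
    · subst hQP; exact haP (by simpa using sub_mem hab hbP)
    · exact hb Q ⟨hQ, hQP⟩ (by simpa using sub_mem hab (haQ Q ⟨hQ, hQP⟩))
  have hab0 : a * b = 0 := eq_zero_of_mem_minimalPrimes fun Q hQ => by
    by_cases hQP : Q = P
    · subst hQP; exact Q.mul_mem_left _ hbP
    · exact Q.mul_mem_right _ (haQ Q ⟨hQ, hQP⟩)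
  obtain ⟨e, he⟩ : ∃ e : R, algebraMap R K e = IsLocalization.mk' K a (⟨a + b, hden⟩ : R⁰) := by
    refine IsIntegrallyClosedIn.algebraMap_eq_of_integral ?_
    refine ⟨Polynomial.X ^ 2 - Polynomial.X, Polynomial.monic_X_pow_sub (by rw [Polynomial.degree_X]; norm_num), ?_⟩
    rw [← Polynomial.aeval_def, map_sub, map_pow, Polynomial.aeval_X, sub_eq_zero, sq, ← IsLocalization.mk'_mul,
      IsLocalization.mk'_eq_iff_eq]
    exact congrArg _ (by push_cast; linear_combination -(a + b) * hab0)
  have he' : e * (a + b) = a := IsFractionRing.injective R K (by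
    rw [map_mul, he]; exact IsLocalization.mk'_spec K a (⟨a + b, hden⟩ : R⁰))
  have heP : 1 - e ∈ P := by
    have : (1 - e) * a ∈ P := by
      rw [show (1 - e) * a = e * b by linear_combination -he']
      exact P.mul_mem_left _ hbP
    exact (hPprime.mem_or_mem this).resolve_right haP
  have heQ : ∀ Q ∈ minimalPrimes R, Q ≠ P → e ∈ Q := fun Q hQ hne => by
    have : e * b ∈ Q := by
      rw [show e * b = (1 - e) * a by linear_combination he']
      exact Q.mul_mem_left _ (haQ Q ⟨hQ, hne⟩)
    exact (hQ.1.1.mem_or_mem this).resolve_right (hb Q ⟨hQ, hne⟩)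
  have hep : e ∉ p := fun hep => (‹p.IsPrime›).ne_top ((Ideal.eq_top_iff_one p).2 (by simpa using add_mem (hPp heP) hep))
  -- `x ∈ P` dies in the localization
  have hzero : ∀ x ∈ P, algebraMap R (Localization.AtPrime p) x = 0 := fun x hx => by
    rw [IsLocalization.map_eq_zero_iff p.primeCompl]
    exact ⟨⟨e, hep⟩, eq_zero_of_mem_minimalPrimes fun Q hQ => by
      by_cases hQP : Q = P
      · subst hQP; exact Q.mul_mem_left _ hx
      · exact Q.mul_mem_right _ (heQ Q hQ hQP)⟩
  have hne0 : ∀ x, x ∉ P → algebraMap R (Localization.AtPrime p) x ≠ 0 := fun x hx h0 => by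
    obtain ⟨t, ht⟩ := (IsLocalization.map_eq_zero_iff p.primeCompl _ x).1 h0
    exact ((hPprime.mem_or_mem (ht ▸ P.zero_mem : (t : R) * x ∈ P)).elim (fun h' => t.2 (hPp h')) hx)
  have hdom : IsDomain (Localization.AtPrime p) := by
    have : NoZeroDivisors (Localization.AtPrime p) := ⟨fun {x y} hxy => by
      obtain ⟨x, s, rfl⟩ := IsLocalization.exists_mk'_eq p.primeCompl x
      obtain ⟨y, t, rfl⟩ := IsLocalization.exists_mk'_eq p.primeCompl y
      rw [← IsLocalization.mk'_mul, IsLocalization.mk'_eq_zero_iff] at hxy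
      obtain ⟨u, hu⟩ := hxy
      have hmem : (u : R) * (x * y) ∈ P := hu ▸ P.zero_mem
      rcases hPprime.mem_or_mem ((hPprime.mem_or_mem hmem).resolve_left fun h' => u.2 (hPp h')) with h' | h'
      · exact Or.inl (by rw [IsLocalization.mk'_eq_mul_mk'_one, hzero x h', zero_mul])
      · exact Or.inr (by rw [IsLocalization.mk'_eq_mul_mk'_one, hzero y h', zero_mul])⟩
    exact NoZeroDivisors.to_isDomain _
  refine ⟨hdom, ?_⟩
  set Rp := Localization.AtPrime p
  rw [isIntegrallyClosed_iff (FractionRing Rp)]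
  intro z hz
  obtain ⟨s, hs⟩ := IsIntegral.exists_multiple_integral_of_isLocalization p.primeCompl z hz
  obtain ⟨num, den, hden0, hzd⟩ := IsFractionRing.div_surjective (A := Rp) (s • z)
  obtain ⟨⟨a', u⟩, ha'⟩ := IsLocalization.surj p.primeCompl num
  obtain ⟨⟨b', v⟩, hb'⟩ := IsLocalization.surj p.primeCompl den
  dsimp only at ha' hb'
  -- write `s • z` as a quotient of two elements of `R`
  set A' := a' * v with hA'
  set B' := b' * u with hB'
  have hval : algebraMap R (FractionRing Rp) B' * (s • z) = algebraMap R (FractionRing Rp) A' := by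
    have hd : algebraMap Rp (FractionRing Rp) den ≠ 0 := (map_ne_zero_iff _ (IsFractionRing.injective Rp (FractionRing Rp))).2 (nonZeroDivisors.ne_zero hden0)
    have e1 : algebraMap R Rp B' = den * (algebraMap R Rp v * algebraMap R Rp u) := by rw [hB', map_mul, ← hb']; ring
    have e2 : algebraMap R Rp A' = num * (algebraMap R Rp v * algebraMap R Rp u) := by rw [hA', map_mul, ← ha']; ring
    rw [← hzd, IsScalarTower.algebraMap_apply R Rp (FractionRing Rp) A', IsScalarTower.algebraMap_apply R Rp (FractionRing Rp) B', e1, e2,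
      map_mul, map_mul _ num]
    linear_combination (algebraMap Rp (FractionRing Rp) (algebraMap R Rp v * algebraMap R Rp u)) * mul_div_cancel₀ (algebraMap Rp (FractionRing Rp) num) hd
  have hBP : B' ∉ P := fun hB => by
    have h0 := hzero B' hB
    rw [hB', map_mul, ← hb'] at h0
    exact mul_ne_zero (mul_ne_zero (nonZeroDivisors.ne_zero hden0) (IsLocalization.map_units Rp v).ne_zero)
      (IsLocalization.map_units Rp u).ne_zero h0
  have hd2 : e * B' + (1 - e) ∈ R⁰ := mem_nonZeroDivisors_of_notMem fun Q hQ hmem => by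
    by_cases hQP : Q = P
    · subst hQP
      have : e * B' ∈ Q := by simpa using sub_mem hmem heP
      rcases hPprime.mem_or_mem this with h' | h'
      · exact hPprime.ne_top ((Ideal.eq_top_iff_one Q).2 (by simpa using add_mem heP h'))
      · exact hBP h'
    · have h1 : 1 - e ∈ Q := by simpa using sub_mem hmem (Q.mul_mem_right B' (heQ Q hQ hQP))
      exact hQ.1.1.ne_top ((Ideal.eq_top_iff_one Q).2 (by simpa using add_mem h1 (heQ Q hQ hQP)))
  -- it is integral
  obtain ⟨g, hg, hgz⟩ := hs
  obtain ⟨r, hr⟩ : ∃ r : R, algebraMap R K r = IsLocalization.mk' K (e * A') (⟨_, hd2⟩ : R⁰) := by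
    refine IsIntegrallyClosedIn.algebraMap_eq_of_integral ⟨Polynomial.X * g, Polynomial.monic_X.mul hg, ?_⟩
    set G := Polynomial.X * g
    set N := G.natDegree
    -- clear denominators
    let d := e * B' + (1 - e)
    let F : R := ∑ j ∈ Finset.range (N + 1), G.coeff j * (e * A') ^ j * d ^ (N - j)
    have hF : algebraMap R K F = algebraMap R K d ^ N *
        Polynomial.eval₂ (algebraMap R K) (IsLocalization.mk' K (e * A') (⟨_, hd2⟩ : R⁰)) G := by
      rw [Polynomial.eval₂_eq_sum_range, Finset.mul_sum, map_sum]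
      refine Finset.sum_congr rfl fun j hj => ?_
      rw [Finset.mem_range] at hj
      have hsplit : algebraMap R K d ^ N = algebraMap R K d ^ j * algebraMap R K d ^ (N - j) := by
        rw [← pow_add]; congr 1; omega
      rw [map_mul, map_mul, map_pow, map_pow, hsplit,
        ← IsLocalization.mk'_spec K (e * A') (⟨_, hd2⟩ : R⁰), mul_pow]
      ring
    have hF0 : F = 0 := eq_zero_of_mem_minimalPrimes fun Q hQ => by
      by_cases hQP : Q = P
      · subst hQP
        by_contra hFP
        refine hne0 F hFP ?_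
        apply IsFractionRing.injective Rp (FractionRing Rp)
        rw [← IsScalarTower.algebraMap_apply, map_zero]
        have he1 : algebraMap R (FractionRing Rp) e = 1 := by
          have h1 := hzero _ heP
          rw [map_sub, map_one, sub_eq_zero] at h1
          rw [IsScalarTower.algebraMap_apply R Rp (FractionRing Rp), ← h1, map_one]
        have hdB : algebraMap R (FractionRing Rp) d = algebraMap R (FractionRing Rp) B' := by
          simp only [d, map_add, map_mul, map_sub, map_one, he1]; ring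
        calc algebraMap R (FractionRing Rp) F = algebraMap R (FractionRing Rp) B' ^ N * Polynomial.eval₂ (algebraMap R (FractionRing Rp)) (s • z) G := by
              rw [Polynomial.eval₂_eq_sum_range, Finset.mul_sum, map_sum]
              refine Finset.sum_congr rfl fun j hj => ?_
              rw [Finset.mem_range] at hj
              have hsplit : algebraMap R (FractionRing Rp) B' ^ N = algebraMap R (FractionRing Rp) B' ^ j * algebraMap R (FractionRing Rp) B' ^ (N - j) := by
                rw [← pow_add]; congr 1; omega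
              rw [map_mul, map_mul, map_pow, map_pow, map_mul, he1, one_mul, hdB, hsplit, ← hval, mul_pow]
              ring
          _ = 0 := by
              have hG0 : Polynomial.eval₂ (algebraMap R (FractionRing Rp)) (s • z) G = 0 := by
                rw [Polynomial.eval₂_mul]
                have : Polynomial.eval₂ (algebraMap R (FractionRing Rp)) (s • z) g = 0 := hgz
                rw [this, mul_zero]
              rw [hG0, mul_zero]
      · refine Ideal.sum_mem _ fun j _ => ?_
        rcases Nat.eq_zero_or_pos j with rfl | hj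
        · rw [show G.coeff 0 = 0 from Polynomial.coeff_X_mul_zero g]; simp
        · refine Ideal.mul_mem_right _ _ (Ideal.mul_mem_left _ _ ?_)
          exact Ideal.pow_mem_of_mem _ (Q.mul_mem_right _ (heQ Q hQ hQP)) j hj
    rw [hF0, map_zero] at hF
    exact (IsUnit.mul_right_eq_zero ((IsLocalization.map_units K (⟨_, hd2⟩ : R⁰)).pow N)).1 hF.symm
  have hr' : e * A' = r * (e * B' + (1 - e)) := IsFractionRing.injective R K (by
    rw [map_mul (algebraMap R K) r, hr, IsLocalization.mk'_spec])
  refine ⟨IsLocalization.mk' Rp r s, ?_⟩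
  have hsz : s • z = algebraMap R (FractionRing Rp) r := by
    have he1 : algebraMap R (FractionRing Rp) e = 1 := by
      have h1 := hzero _ heP
      rw [map_sub, map_one, sub_eq_zero] at h1
      rw [IsScalarTower.algebraMap_apply R Rp (FractionRing Rp), ← h1, map_one]
    have h2 := congrArg (algebraMap R (FractionRing Rp)) hr'
    simp only [map_mul, map_add, map_sub, map_one, he1, one_mul, sub_self, add_zero] at h2
    have hB0 : algebraMap R (FractionRing Rp) B' ≠ 0 := fun h0 => hne0 B' hBP (IsFractionRing.injective Rp (FractionRing Rp) (by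
      rw [← IsScalarTower.algebraMap_apply, h0, map_zero]))
    exact mul_left_cancel₀ hB0 (by rw [hval, h2, mul_comm])
  have hs' : algebraMap R (FractionRing Rp) (s : R) ≠ 0 := fun h0 => (IsLocalization.map_units Rp s).ne_zero
    (IsFractionRing.injective Rp (FractionRing Rp) (by rw [← IsScalarTower.algebraMap_apply, h0, map_zero]))
  apply mul_left_cancel₀ hs'
  rw [IsScalarTower.algebraMap_apply R Rp (FractionRing Rp) (s : R), ← map_mul, IsLocalization.mk'_spec',
    ← IsScalarTower.algebraMap_apply, ← hsz, Submonoid.smul_def, Algebra.smul_def, ← IsScalarTower.algebraMap_apply]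

theorem normal_iff [IsReduced R] (hfin : (minimalPrimes R).Finite) :
    (∀ (p : Ideal R) [p.IsPrime], IsDomain (Localization.AtPrime p) ∧ IsIntegrallyClosed (Localization.AtPrime p)) ↔
      IsIntegrallyClosedIn R (FractionRing R) :=
  ⟨fun h => Groth.Agent.S6278.result R h, fun h p _ => normal_of_isIntegrallyClosedIn hfin h p⟩

open Polynomial in
/-- A polynomial ring over a normal ring is normal. -/
theorem isNormalRing_polynomial (hR : EGA4.IsNormalRing R) : EGA4.IsNormalRing R[X] := by
  intro q hq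
  let p : Ideal R := q.comap C
  have hp : p.IsPrime := Ideal.IsPrime.comap C
  obtain ⟨hdom, hic⟩ := hR p
  let Rp := Localization.AtPrime p
  letI : Algebra R[X] Rp[X] := (mapRingHom (algebraMap R Rp)).toAlgebra
  have hloc : IsLocalization (p.primeCompl.map C) Rp[X] := Polynomial.isLocalization p.primeCompl Rp
  have hdisj : Disjoint ((p.primeCompl.map C : Submonoid R[X]) : Set R[X]) (q : Set R[X]) := by
    rw [Set.disjoint_left]
    rintro _ ⟨s, hs, rfl⟩ hq'
    exact hs hq'
  let Q : Ideal Rp[X] := q.map (algebraMap R[X] Rp[X])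
  have hQ : Q.IsPrime := IsLocalization.isPrime_of_isPrime_disjoint _ _ q hq hdisj
  have hcomap : Q.comap (algebraMap R[X] Rp[X]) = q :=
    IsLocalization.comap_map_of_isPrime_disjoint _ _ hq hdisj
  have hloc2 : IsLocalization.AtPrime (Localization.AtPrime Q) q := by
    have h := IsLocalization.isLocalization_isLocalization_atPrime_isLocalization (p.primeCompl.map C)
      (Localization.AtPrime Q) Q
    convert h using 2
    exact hcomap.symm
  let e : Localization.AtPrime q ≃ₐ[R[X]] Localization.AtPrime Q := IsLocalization.algEquiv q.primeCompl _ _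
  have hd : IsDomain (Localization.AtPrime Q) :=
    IsLocalization.isDomain_of_le_nonZeroDivisors _ Q.primeCompl_le_nonZeroDivisors
  have hi : IsIntegrallyClosed (Localization.AtPrime Q) :=
    isIntegrallyClosed_of_isLocalization _ Q.primeCompl Q.primeCompl_le_nonZeroDivisors
  have eR : Localization.AtPrime q ≃+* Localization.AtPrime Q := e.toRingEquiv
  exact ⟨eR.toMulEquiv.isDomain, IsIntegrallyClosed.of_equiv (R := Localization.AtPrime Q) (S := Localization.AtPrime q) eR.symm⟩

theorem mk'_eq_mk'_of_map {A B : Type u} [CommRing A] [CommRing B] (g : A →+* B) (q : Ideal B) [q.IsPrime]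
    (y : Localization.AtPrime (q.comap g)) : ∃ (x : A) (s : A) (hs : g s ∉ q),
      y = IsLocalization.mk' _ x (⟨s, hs⟩ : (q.comap g).primeCompl) := by
  obtain ⟨x, ⟨s, hs⟩, rfl⟩ := IsLocalization.exists_mk'_eq (q.comap g).primeCompl y
  exact ⟨x, s, hs, rfl⟩

theorem isNormalRing_directLimit {ι : Type u} [Preorder ι] [Nonempty ι] [IsDirected ι (· ≤ ·)] (G : ι → Type u)
    [∀ i, CommRing (G i)] (f : ∀ i j, i ≤ j → G i →+* G j) [DirectedSystem G fun i j h => f i j h]
    (hG : ∀ i, EGA4.IsNormalRing (G i)) : EGA4.IsNormalRing (Ring.DirectLimit G fun i j h => f i j h) := by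
  classical
  intro q hq
  set B := Ring.DirectLimit G fun i j h => f i j h
  let φ : ∀ i, G i →+* B := fun i => Ring.DirectLimit.of G (fun i j h => f i j h) i
  have hφ : ∀ i j (h : i ≤ j) x, φ j (f i j h x) = φ i x := fun i j h x => Ring.DirectLimit.of_f ..
  have hex : ∀ b : B, ∃ i x, φ i x = b := Ring.DirectLimit.exists_of
  have hz : ∀ i x, φ i x = 0 → ∃ j, ∃ h : i ≤ j, f i j h x = 0 := fun i x hx => Ring.DirectLimit.of.zero_exact hx
  have hnt : Nontrivial (Localization.AtPrime q) := inferInstance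
  -- lift finitely many elements to one stage
  have hlift : ∀ {n : ℕ} (b : Fin n → B), ∃ i, ∃ x : Fin n → G i, ∀ k, φ i (x k) = b k := by
    intro n b
    choose i x hx using fun k => hex (b k)
    obtain ⟨j, hj⟩ := Finite.exists_le i
    exact ⟨j, fun k => f (i k) j (hj k) (x k), fun k => by rw [hφ]; exact hx k⟩
  have hdom : IsDomain (Localization.AtPrime q) := by
    have : NoZeroDivisors (Localization.AtPrime q) := ⟨fun {x y} hxy => by
      obtain ⟨x, s, rfl⟩ := IsLocalization.exists_mk'_eq q.primeCompl x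
      obtain ⟨y, t, rfl⟩ := IsLocalization.exists_mk'_eq q.primeCompl y
      rw [← IsLocalization.mk'_mul, IsLocalization.mk'_eq_zero_iff] at hxy
      obtain ⟨u, hu⟩ := hxy
      obtain ⟨i, v, hv⟩ := hlift ![x, y, (u : B)]
      have hv0 : φ i (v 0) = x := hv 0
      have hv1 : φ i (v 1) = y := hv 1
      have hv2 : φ i (v 2) = (u : B) := hv 2
      obtain ⟨j, hij, hj⟩ := hz i (v 2 * (v 0 * v 1)) (by rw [map_mul, map_mul, hv0, hv1, hv2]; exact hu)
      let p := q.comap (φ j)
      obtain ⟨hd, -⟩ := hG j p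
      have h0 : algebraMap (G j) (Localization.AtPrime p) (f i j hij (v 0) * f i j hij (v 1)) = 0 := by
        rw [IsLocalization.map_eq_zero_iff p.primeCompl]
        exact ⟨⟨f i j hij (v 2), fun hm => u.2 (by
          have hm' : φ j (f i j hij (v 2)) ∈ q := hm
          rwa [hφ, hv2] at hm')⟩, by rw [← map_mul, ← map_mul]; exact hj⟩
      rw [map_mul, mul_eq_zero] at h0
      have key : ∀ w : G i, algebraMap (G j) (Localization.AtPrime p) (f i j hij w) = 0 →
          ∀ (s : q.primeCompl), IsLocalization.mk' (Localization.AtPrime q) (φ i w) s = 0 := by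
        intro w hw s
        obtain ⟨⟨c, hc⟩, hcw⟩ := (IsLocalization.map_eq_zero_iff p.primeCompl _ _).1 hw
        rw [IsLocalization.mk'_eq_zero_iff]
        exact ⟨⟨φ j c, hc⟩, by rw [← hφ i j hij w, ← map_mul, hcw, map_zero]⟩
      exact h0.imp (fun h' => hv0 ▸ key _ h' s) (fun h' => hv1 ▸ key _ h' t)⟩
    exact NoZeroDivisors.to_isDomain _
  refine ⟨hdom, ?_⟩
  set Bq := Localization.AtPrime q
  rw [isIntegrallyClosed_iff (FractionRing Bq)]
  intro z hz'
  obtain ⟨P, hP, hPz⟩ := hz'
  obtain ⟨num, den, hden, hzd⟩ := IsFractionRing.div_surjective (A := Bq) z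
  set n := P.natDegree
  -- the equation, without denominators, in `B`
  have heq : ∑ k ∈ Finset.range (n + 1), P.coeff k * num ^ k * den ^ (n - k) = 0 := by
    apply IsFractionRing.injective Bq (FractionRing Bq)
    rw [map_zero, map_sum]
    have hd0 : algebraMap Bq (FractionRing Bq) den ≠ 0 := (map_ne_zero_iff _ (IsFractionRing.injective Bq (FractionRing Bq))).2 (nonZeroDivisors.ne_zero hden)
    have : algebraMap Bq (FractionRing Bq) den ^ n * Polynomial.eval₂ (algebraMap Bq (FractionRing Bq)) z P = 0 := by rw [hPz, mul_zero]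
    rw [Polynomial.eval₂_eq_sum_range, Finset.mul_sum] at this
    rw [← this]
    refine Finset.sum_congr rfl fun k hk => ?_
    rw [Finset.mem_range] at hk
    rw [← hzd, map_mul, map_mul, map_pow, map_pow, div_pow,
      show algebraMap Bq (FractionRing Bq) den ^ n = algebraMap Bq (FractionRing Bq) den ^ k * algebraMap Bq (FractionRing Bq) den ^ (n - k) by
        rw [← pow_add]; congr 1; omega]
    have hdk := mul_div_cancel₀ (algebraMap Bq (FractionRing Bq) num ^ k) (pow_ne_zero k hd0)
    linear_combination -(algebraMap Bq (FractionRing Bq) (P.coeff k) * algebraMap Bq (FractionRing Bq) den ^ (n - k)) * hdk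
  -- descend all the data to one stage
  let El : Fin (n + 1 + 2) → Bq := Fin.append (fun k : Fin (n + 1) => P.coeff k) ![num, den]
  choose xs ss hxs using fun k => IsLocalization.exists_mk'_eq q.primeCompl (El k)
  obtain ⟨i, v, hv⟩ := hlift (Fin.append xs fun k => (ss k : B))
  have hs : ∀ k, φ i (v (Fin.natAdd _ k)) ∉ q := fun k => by
    rw [hv, Fin.append_right]; exact (ss k).2
  let ψ : ∀ j (hij : i ≤ j) (k : Fin (n + 1 + 2)), Localization.AtPrime (q.comap (φ j)) := fun j hij k =>
    IsLocalization.mk' _ (f i j hij (v (Fin.castAdd _ k))) (⟨f i j hij (v (Fin.natAdd _ k)), fun hm => hs k (by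
      have hm' : φ j (f i j hij (v (Fin.natAdd _ k))) ∈ q := hm
      rwa [hφ] at hm')⟩ : (q.comap (φ j)).primeCompl)
  let Φ : ∀ j, Localization.AtPrime (q.comap (φ j)) →+* Bq := fun j => Localization.localRingHom _ q (φ j) rfl
  have hΦψ : ∀ j hij k, Φ j (ψ j hij k) = El k := fun j hij k => by
    simp only [Φ, ψ]
    rw [Localization.localRingHom_mk', ← hxs k, IsLocalization.mk'_eq_iff_eq]
    congr 1
    simp only [hφ, hv, Fin.append_left, Fin.append_right]
  -- the equation at the stage `i` dies later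
  let E : ∀ j, i ≤ j → Localization.AtPrime (q.comap (φ j)) := fun j hij =>
    ∑ k : Fin (n + 1), ψ j hij (Fin.castAdd 2 k) * ψ j hij (Fin.natAdd (n + 1) 0) ^ (k : ℕ) *
      ψ j hij (Fin.natAdd (n + 1) 1) ^ (n - k)
  have hE : Φ i (E i le_rfl) = 0 := by
    simp only [E, map_sum, map_mul, map_pow, hΦψ, El, Fin.append_left, Fin.append_right, Matrix.cons_val_zero,
      Matrix.cons_val_one]
    rw [Fin.sum_univ_eq_sum_range (fun k => P.coeff k * num ^ k * den ^ (n - k))]
    exact heq
  obtain ⟨x₀, s₀, hs₀, hx₀⟩ := mk'_eq_mk'_of_map (φ i) q (E i le_rfl)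
  rw [hx₀] at hE
  simp only [Φ] at hE
  rw [Localization.localRingHom_mk'] at hE
  obtain ⟨⟨u, hu⟩, hu0⟩ := (IsLocalization.mk'_eq_zero_iff _ _).1 hE
  obtain ⟨i', w, hw⟩ := hlift ![u]
  have hw0 : φ i' (w 0) = u := hw 0
  obtain ⟨i'', hi', hi⟩ := exists_ge_ge i' i
  obtain ⟨j, hij', hj⟩ := hz i'' (f i' i'' hi' (w 0) * f i i'' hi x₀) (by
    rw [map_mul, hφ, hφ, hw0]; exact hu0)
  have hij : i ≤ j := hi.trans hij'
  let T : Localization.AtPrime (q.comap (φ i)) →+* Localization.AtPrime (q.comap (φ j)) :=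
    Localization.localRingHom _ _ (f i j hij) (by
      ext x; simp [Ideal.mem_comap, hφ])
  have hTψ : ∀ k, T (ψ i le_rfl k) = ψ j hij k := fun k => by
    simp only [T, ψ, Localization.localRingHom_mk']
    congr 1
    · exact (DirectedSystem.map_map (f := fun i j h => f i j h) le_rfl hij _).trans rfl
    · exact Subtype.ext (DirectedSystem.map_map (f := fun i j h => f i j h) le_rfl hij _)
  have hEj : E j hij = 0 := by
    have h1 : T (E i le_rfl) = E j hij := by simp only [E, map_sum, map_mul, map_pow, hTψ]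
    rw [← h1, hx₀]
    simp only [T]
    rw [Localization.localRingHom_mk', IsLocalization.mk'_eq_zero_iff]
    refine ⟨⟨f i'' j hij' (f i' i'' hi' (w 0)), fun hm => hu ?_⟩, ?_⟩
    · have hm' : φ j (f i'' j hij' (f i' i'' hi' (w 0))) ∈ q := hm
      rwa [hφ, hφ, hw0] at hm'
    · rw [← DirectedSystem.map_map (f := fun i j h => f i j h) hi hij' x₀, ← map_mul]
      exact hj
  -- conclude at the stage `j`
  obtain ⟨hdj, hicj⟩ := hG j (q.comap (φ j))
  set a := ψ j hij (Fin.natAdd (n + 1) 0)
  set b := ψ j hij (Fin.natAdd (n + 1) 1)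
  have hΦa : Φ j a = num := by rw [hΦψ]; simp [El]
  have hΦb : Φ j b = den := by rw [hΦψ]; simp [El]
  have hlead : P.coeff n = 1 := hP.coeff_natDegree
  have hb0 : b ≠ 0 := fun h0 => nonZeroDivisors.ne_zero hden (by rw [← hΦb, h0, map_zero])
  -- replace the leading coefficient by one
  set cn := ψ j hij (Fin.castAdd 2 (Fin.last n)) with hcn
  have hcnu : IsUnit cn := by
    have h1 : Φ j cn = 1 := by rw [hΦψ]; simp [El, hlead]
    have : IsLocalHom (Φ j) := Localization.isLocalHom_localRingHom _ _ _ rfl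
    exact isUnit_of_map_unit (Φ j) cn (h1 ▸ isUnit_one)
  let Pol : Polynomial (Localization.AtPrime (q.comap (φ j))) :=
    Polynomial.X ^ n + ∑ k : Fin n, Polynomial.C ((↑hcnu.unit⁻¹ : _) * ψ j hij (Fin.castAdd 2 (Fin.castSucc k))) * Polynomial.X ^ (k : ℕ)
  have hint : IsIntegral (Localization.AtPrime (q.comap (φ j))) (algebraMap _ (FractionRing (Localization.AtPrime (q.comap (φ j)))) a / algebraMap _ (FractionRing (Localization.AtPrime (q.comap (φ j)))) b) := by
    refine ⟨Pol, Polynomial.monic_X_pow_add ((Polynomial.degree_sum_fin_lt _).trans_eq rfl), ?_⟩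
    have hbL : algebraMap _ (FractionRing (Localization.AtPrime (q.comap (φ j)))) b ≠ 0 := (map_ne_zero_iff _ (IsFractionRing.injective _ (FractionRing (Localization.AtPrime (q.comap (φ j)))))).2 hb0
    have hbn : algebraMap _ (FractionRing (Localization.AtPrime (q.comap (φ j)))) b ^ n ≠ 0 := pow_ne_zero _ hbL
    apply mul_left_cancel₀ hbn
    rw [mul_zero]
    simp only [Pol, Polynomial.eval₂_add, Polynomial.eval₂_X_pow, Polynomial.eval₂_finsetSum, Polynomial.eval₂_mul,
      Polynomial.eval₂_C]
    have h1 := congrArg (algebraMap _ (FractionRing (Localization.AtPrime (q.comap (φ j))))) hEj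
    simp only [E, Fin.sum_univ_castSucc, map_add, map_sum, map_mul, map_pow, map_zero, Fin.val_last, Nat.sub_self,
      pow_zero, mul_one, Fin.val_castSucc] at h1
    have hu1 : algebraMap _ (FractionRing (Localization.AtPrime (q.comap (φ j)))) (↑hcnu.unit⁻¹ : Localization.AtPrime (q.comap (φ j))) * algebraMap _ (FractionRing (Localization.AtPrime (q.comap (φ j)))) cn = 1 := by
      rw [← map_mul, IsUnit.val_inv_mul, map_one]
    have h2 := congrArg (algebraMap _ (FractionRing (Localization.AtPrime (q.comap (φ j)))) (↑hcnu.unit⁻¹ : Localization.AtPrime (q.comap (φ j))) * ·) h1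
    simp only [mul_zero, mul_add, Finset.mul_sum] at h2
    rw [mul_add, Finset.mul_sum, ← h2, add_comm]
    refine congrArg₂ _ (Finset.sum_congr rfl fun k _ => ?_) ?_
    · rw [div_pow, map_mul,
        show algebraMap _ (FractionRing (Localization.AtPrime (q.comap (φ j)))) b ^ n = algebraMap _ (FractionRing (Localization.AtPrime (q.comap (φ j)))) b ^ (k : ℕ) * algebraMap _ (FractionRing (Localization.AtPrime (q.comap (φ j)))) b ^ (n - k) by
          rw [← pow_add]; congr 1; omega]
      field_simp
      simp only [a, b]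
      ring
    · rw [← mul_assoc, hu1, one_mul, div_pow, mul_div_cancel₀ _ hbn]
  obtain ⟨c, hc⟩ := IsIntegrallyClosed.algebraMap_eq_of_integral hint
  refine ⟨Φ j c, ?_⟩
  have hac : a = c * b := IsFractionRing.injective _ (FractionRing (Localization.AtPrime (q.comap (φ j)))) (by
    rw [map_mul, hc, div_mul_cancel₀ _ ((map_ne_zero_iff _ (IsFractionRing.injective _ (FractionRing (Localization.AtPrime (q.comap (φ j)))))).2 hb0)])
  rw [← hzd, ← hΦa, hac, map_mul, hΦb, map_mul,
    mul_div_cancel_right₀ _ ((map_ne_zero_iff _ (IsFractionRing.injective Bq (FractionRing Bq))).2 (nonZeroDivisors.ne_zero hden))]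

end Groth.Agent.CAlgOdd
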