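import Mathlib
import Groth.Agent.Hensel.EtaleNbhdLift
import Groth.Agent.Hensel.Hfp
import Groth.Agent.Hensel.Henselization

/-!
Lifting coprime monic factorizations, idempotents of integral algebras, homomorphisms and
projective modules to étale neighbourhoods of a pair.
-/

universe u

namespace Groth.Agent.CAlgOdd.PairLift

open Polynomial TensorProduct Groth.Agent.Hensel

variable {A : Type u} [CommRing A] (I : Ideal A)

theorem exists_monic_coprime_lift (f : A[X]) (hf : f.Monic) (g h : (A ⧸ I)[X]) (hg : g.Monic)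
    (hh : h.Monic) (hgh : f.map (Ideal.Quotient.mk I) = g * h) (hcop : IsCoprime g h) :
    ∃ (A' : Type u) (_ : CommRing A') (_ : Algebra A A'), Algebra.Etale A A' ∧ IsPairNbhd I A' ∧
      ∃ g' h' : A'[X], g'.Monic ∧ h'.Monic ∧ IsCoprime g' h' ∧
        f.map (algebraMap A A') = g' * h' ∧
        g'.map (Ideal.Quotient.mk (I.map (algebraMap A A'))) =
          g.map (Ideal.quotientMap (I.map (algebraMap A A')) (algebraMap A A') Ideal.le_comap_map) ∧
        h'.map (Ideal.Quotient.mk (I.map (algebraMap A A'))) =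
          h.map (Ideal.quotientMap (I.map (algebraMap A A')) (algebraMap A A') Ideal.le_comap_map) := by
  rcases subsingleton_or_nontrivial (A ⧸ I) with hs | hs
  · have : IsLocalization.Away (1 : A) A :=
      IsLocalization.away_of_isUnit_of_bijective A isUnit_one Function.bijective_id
    have : Algebra.Etale A A := Algebra.Etale.of_isLocalizationAway (1 : A)
    obtain ⟨V, iV, iAV, hE, γ, τV, hV, hτ⟩ := exists_isPairNbhd I A (Algebra.ofId A (A ⧸ I))
    refine ⟨V, iV, iAV, hE, hV, f.map (algebraMap A V), 1, hf.map _, monic_one, isCoprime_one_right,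
      (mul_one _).symm, ?_, ?_⟩ <;>
    · have : Subsingleton (V ⧸ I.map (algebraMap A V)) := hV.2.subsingleton
      exact Subsingleton.elim _ _
  have hn : f.natDegree = g.natDegree + h.natDegree := by
    rw [← hf.natDegree_map (Ideal.Quotient.mk I), hgh, hg.natDegree_mul hh]
  let P : MonicDegreeEq A f.natDegree := .mk f hf rfl
  let σ := (UniversalCoprimeFactorizationRing.homEquiv (A ⧸ I) g.natDegree h.natDegree hn P).symm
    ⟨(.mk g hg rfl, .mk h hh rfl), hgh.symm, hcop⟩
  let U := UniversalCoprimeFactorizationRing g.natDegree h.natDegree hn P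
  obtain ⟨V, iV, iAV, hE, γ, τV, hV, hτ⟩ := exists_isPairNbhd I U σ
  set q := UniversalCoprimeFactorizationRing.homEquiv V g.natDegree h.natDegree hn P γ with hq
  have h1 := UniversalCoprimeFactorizationRing.homEquiv_comp_fst V g.natDegree h.natDegree hn P γ τV
  have h2 := UniversalCoprimeFactorizationRing.homEquiv_comp_snd V g.natDegree h.natDegree hn P γ τV
  rw [hτ, Equiv.apply_symm_apply] at h1 h2
  have h1' : q.1.1.1.map τV.toRingHom = g := congr(($h1).1).symm
  have h2' : q.1.2.1.map τV.toRingHom = h := congr(($h2).1).symm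
  have hmk : ∀ p : V[X], p.map (Ideal.Quotient.mk (I.map (algebraMap A V))) =
      (p.map τV.toRingHom).map
        (Ideal.quotientMap (I.map (algebraMap A V)) (algebraMap A V) Ideal.le_comap_map) := fun p => by
    rw [Polynomial.map_map]
    congr 1
    exact RingHom.ext fun x => mk_eq_quotientMap I hV τV x
  refine ⟨V, iV, iAV, hE, hV, q.1.1.1, q.1.2.1, q.1.1.monic, q.1.2.monic, q.2.2, ?_, ?_, ?_⟩
  · rw [q.2.1]; rfl
  · rw [hmk, h1']
  · rw [hmk, h2']

theorem exists_annihilating_monic [Nontrivial A] {B : Type u} [CommRing B] [Algebra A B]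
    [Algebra.IsIntegral A B]
    (b : B) (hb : b * b - b ∈ I.map (algebraMap A B)) :
    ∃ p : A[X], p.Monic ∧ 0 < p.natDegree ∧ (∀ k, k < p.natDegree → p.coeff k ∈ I) ∧
      aeval (b * b - b) p = 0 := by
  classical
  have hb' : b * b - b ∈ Ideal.span (algebraMap A B '' I) := hb
  obtain ⟨n, r, x, hx⟩ := (Submodule.mem_span_set'.mp hb')
  let S : Subalgebra A B := Algebra.adjoin A (insert (b * b - b) (Set.range r))
  have : Module.Finite A S := ⟨(Submodule.fg_top _).mpr (fg_adjoin_of_finite
    ((Set.finite_range r).insert (b * b - b)) fun _ _ => Algebra.IsIntegral.isIntegral _)⟩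
  let c : S := ⟨b * b - b, Algebra.subset_adjoin (Set.mem_insert _ _)⟩
  choose i hi hxi using fun j => (x j).2
  have hc : c = ∑ j, i j • (⟨r j, Algebra.subset_adjoin (Set.mem_insert_of_mem _ ⟨j, rfl⟩)⟩ : S) := by
    apply Subtype.ext
    simp [c, ← hx, ← hxi, Algebra.smul_def, mul_comm]
  obtain ⟨p, hp, -, hpI, hp0⟩ :=
    LinearMap.exists_monic_and_natDegree_eq_and_coeff_mem_pow_and_aeval_eq_zero A
      (Algebra.lmul A S c) I (by
        rintro z ⟨w, rfl⟩
        rw [Algebra.coe_lmul_eq_mul, LinearMap.mul_apply', hc, Finset.sum_mul]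
        refine Submodule.sum_mem _ fun j _ => ?_
        rw [smul_mul_assoc]
        exact Submodule.smul_mem_smul (hi j) Submodule.mem_top)
  have hzero : aeval (b * b - b) p = 0 := by
    have h1 : Algebra.lmul A S (aeval c p) = 0 := by rw [← aeval_algHom_apply]; exact hp0
    have h2 := LinearMap.congr_fun h1 1
    have h3 : aeval c p = 0 := by simpa using h2
    have h4 := congrArg S.val h3
    rwa [← aeval_algHom_apply, map_zero] at h4
  refine ⟨p * X, hp.mul monic_X, ?_, fun k hk => ?_, by rw [map_mul, hzero, zero_mul]⟩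
  · rw [hp.natDegree_mul monic_X, natDegree_X]; omega
  · rcases k with _ | k
    · simp
    · rw [coeff_mul_X]
      rcases subsingleton_or_nontrivial A with _ | _
      · rw [Subsingleton.elim (p.coeff k) 0]; exact zero_mem _
      rw [hp.natDegree_mul monic_X, natDegree_X] at hk
      exact Ideal.pow_le_self (by omega) (hpI k)

theorem exists_etale_idempotent_lift {B : Type u} [CommRing B] [Algebra A B]
    [Algebra.IsIntegral A B] (b : B) (hb : b * b - b ∈ I.map (algebraMap A B)) :
    ∃ (A' : Type u) (_ : CommRing A') (_ : Algebra A A'), Algebra.Etale A A' ∧ IsPairNbhd I A' ∧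
      ∃ e' : A' ⊗[A] B, IsIdempotentElem e' ∧
        e' - 1 ⊗ₜ b ∈ I.map (algebraMap A (A' ⊗[A] B)) := by
  rcases subsingleton_or_nontrivial (A ⧸ I) with hs | hs
  · have : IsLocalization.Away (1 : A) A :=
      IsLocalization.away_of_isUnit_of_bijective A isUnit_one Function.bijective_id
    have : Algebra.Etale A A := Algebra.Etale.of_isLocalizationAway (1 : A)
    obtain ⟨V, iV, iAV, hE, γ, τV, hV, hτ⟩ := exists_isPairNbhd I A (Algebra.ofId A (A ⧸ I))
    have hI : I = ⊤ := Ideal.Quotient.subsingleton_iff.mp hs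
    refine ⟨V, iV, iAV, hE, hV, 0, IsIdempotentElem.zero, ?_⟩
    rw [hI, Ideal.map_top]
    exact Submodule.mem_top
  haveI : Nontrivial A := (Ideal.Quotient.mk I).domain_nontrivial
  obtain ⟨p, hp, hpos, hpI, hp0⟩ := exists_annihilating_monic I b hb
  set N := p.natDegree with hN
  let w : A[X] := X ^ 2 - X
  have hwd : w.natDegree = 2 := by
    simp only [w]; compute_degree!
  have hw : w.Monic := by
    simp only [w]; monicity!
  have hpmap : p.map (Ideal.Quotient.mk I) = X ^ N := by
    ext k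
    rw [coeff_map, coeff_X_pow]
    split_ifs with e
    · rw [e, hN, hp.coeff_natDegree, map_one]
    · rcases lt_or_gt_of_ne e with e | e
      · exact Ideal.Quotient.eq_zero_iff_mem.mpr (hpI k e)
      · rw [coeff_eq_zero_of_natDegree_lt e, map_zero]
  have hcop : IsCoprime ((X : (A ⧸ I)[X]) ^ N) ((X - 1) ^ N) :=
    IsCoprime.pow (show IsCoprime (X : (A ⧸ I)[X]) (X - 1) from ⟨1, -1, by ring⟩)
  obtain ⟨V, iV, iAV, hE, hV, g', h', -, -, ⟨u, v, huv⟩, hprod, hg', hh'⟩ :=
    exists_monic_coprime_lift I (p.comp w) (hp.comp hw (by rw [hwd]; norm_num))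
      (X ^ N) ((X - 1) ^ N) (monic_X_pow N) ((monic_X_sub_C (1 : A ⧸ I)).pow N |> fun h => by simpa using h)
      (by
        rw [Polynomial.map_comp, hpmap, pow_comp, X_comp, ← mul_pow]
        simp only [w, Polynomial.map_sub, Polynomial.map_pow, map_X]
        ring)
      hcop
  let x : V ⊗[A] B := 1 ⊗ₜ b
  have hzero : aeval x g' * aeval x h' = 0 := by
    rw [← map_mul, ← hprod, aeval_map_algebraMap, aeval_comp]
    have : aeval x w = (Algebra.TensorProduct.includeRight : B →ₐ[A] V ⊗[A] B) (b * b - b) := by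
      simp [w, x, sq, TensorProduct.tmul_sub]
    rw [this, aeval_algHom_apply, hp0, map_zero]
  have hone : aeval x u * aeval x g' + aeval x v * aeval x h' = 1 := by
    rw [← map_mul, ← map_mul, ← map_add, huv, map_one]
  refine ⟨V, iV, iAV, hE, hV, aeval x u * aeval x g', ?_, ?_⟩
  · show _ * _ = _
    linear_combination (aeval x u * aeval x g') * hone - aeval x u * aeval x v * hzero
  · let K := I.map (algebraMap A (V ⊗[A] B))
    have hmk : ∀ (q : V[X]) (q₀ : (A ⧸ I)[X]) (q₁ : A[X]),
        q.map (Ideal.Quotient.mk (I.map (algebraMap A V))) =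
          q₀.map (Ideal.quotientMap (I.map (algebraMap A V)) (algebraMap A V) Ideal.le_comap_map) →
        q₁.map (Ideal.Quotient.mk I) = q₀ →
        aeval x q - aeval x q₁ ∈ K := by
      intro q q₀ q₁ hq hq₁
      rw [← hq₁, Polynomial.map_map, Ideal.quotientMap_comp_mk, ← Polynomial.map_map] at hq
      have hmem : ∀ k, (q - q₁.map (algebraMap A V)).coeff k ∈ I.map (algebraMap A V) := fun k => by
        rw [← Ideal.Quotient.eq_zero_iff_mem, coeff_sub, map_sub, ← coeff_map, ← coeff_map, hq,
          sub_self]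
      rw [← aeval_map_algebraMap V x q₁, ← map_sub, aeval_eq_sum_range]
      refine Submodule.sum_mem _ fun k _ => ?_
      rw [Algebra.smul_def]
      refine Ideal.mul_mem_right _ _ ?_
      have := Ideal.mem_map_of_mem (algebraMap V (V ⊗[A] B)) (hmem k)
      rwa [Ideal.map_map, ← IsScalarTower.algebraMap_eq] at this
    have e1 := hmk g' _ (X ^ N) hg' (by simp)
    have e2 := hmk h' _ ((X - 1) ^ N) hh' (by simp)
    rw [← Ideal.Quotient.eq] at e1 e2
    simp only [map_pow, map_sub, aeval_X, map_one] at e1 e2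
    have hxx : Ideal.Quotient.mk K x * Ideal.Quotient.mk K x = Ideal.Quotient.mk K x := by
      rw [← map_mul, Ideal.Quotient.eq]
      have := Ideal.mem_map_of_mem
        (Algebra.TensorProduct.includeRight : B →ₐ[A] V ⊗[A] B).toRingHom hb
      rw [Ideal.map_map, AlgHom.toRingHom_eq_coe, AlgHom.comp_algebraMap] at this
      simpa [K, x, TensorProduct.tmul_sub] using this
    have hN0 : N ≠ 0 := by omega
    obtain ⟨M, hM⟩ := Nat.exists_eq_succ_of_ne_zero hN0
    have hxN : Ideal.Quotient.mk K x ^ N = Ideal.Quotient.mk K x :=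
      hM ▸ IsIdempotentElem.pow_succ_eq M hxx
    rw [hxN] at e1
    rw [hM, pow_succ] at e2
    have h1 := congrArg (Ideal.Quotient.mk K) hone
    rw [map_add, map_mul, map_mul, map_one] at h1
    rw [← Ideal.Quotient.eq, map_mul]
    set xx := Ideal.Quotient.mk K x with hxxdef
    rw [e1, e2] at h1
    rw [e1]
    show _ = xx
    linear_combination xx * h1 - (Ideal.Quotient.mk K (aeval x u) +
      Ideal.Quotient.mk K (aeval x v) * (xx - 1) ^ M) * hxx

theorem exists_algHom_descend {H : Type u} [CommRing H] [Algebra A H]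
    (hH : Hens2.IsPairHenselization A I H) {B : Type u} [CommRing B] [Algebra A B]
    [Algebra.FinitePresentation A B] (φ : B →ₐ[A] H) :
    ∃ (U : Type u) (_ : CommRing U) (_ : Algebra A U) (_ : Algebra.Etale A U),
      IsPairNbhd I U ∧ ∃ (φU : U →ₐ[A] H) (ψ : B →ₐ[A] U), φU.comp ψ = φ := by
  classical
  obtain ⟨n, π, hπ, hK⟩ := Algebra.FinitePresentation.out (R := A) (A := B)
  obtain ⟨U₀, iU, iAU, hEU, hU₀, φ₀, hφ₀⟩ := exists_isPairNbhd_finset I hH
    (Finset.univ.image fun i => φ (π (MvPolynomial.X i)))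
  choose y hy using fun i => hφ₀ (φ (π (MvPolynomial.X i)))
    (Finset.mem_image.mpr ⟨i, Finset.mem_univ _, rfl⟩)
  obtain ⟨rels, hrels⟩ := hK
  have key : ∀ s : Finset (MvPolynomial (Fin n) A), s ⊆ rels →
      ∃ (U : Type u) (_ : CommRing U) (_ : Algebra A U) (_ : Algebra.Etale A U) (γ : U₀ →ₐ[A] U),
        IsPairNbhd I U ∧ ∀ q ∈ s, γ (MvPolynomial.aeval y q) = 0 := by
    intro s hs
    induction s using Finset.induction with
    | empty => exact ⟨U₀, iU, iAU, hEU, AlgHom.id _ _, hU₀, by simp⟩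
    | insert q t _ ih =>
      rw [Finset.insert_subset_iff] at hs
      obtain ⟨U, _, _, _, γ, hU, hγ⟩ := ih hs.2
      obtain ⟨uu⟩ := existsUnique_algHom_of_isPairNbhd I hH U hU
      obtain ⟨_⟩ := existsUnique_algHom_of_isPairNbhd I hH U₀ hU₀
      let φU : U →ₐ[A] H := uu.default
      obtain ⟨V, iV, iAV, hEV, hV, ψ, hψ⟩ := exists_of_map_eq_zero I hH U hU φU
        (γ (MvPolynomial.aeval y q)) (by
          rw [← AlgHom.comp_apply, Subsingleton.elim (φU.comp γ) φ₀, MvPolynomial.comp_aeval_apply]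
          have e : (MvPolynomial.aeval fun i => φ₀ (y i)) = φ.comp π :=
            MvPolynomial.algHom_ext fun i => by simp [hy]
          rw [e, AlgHom.comp_apply,
            show π q = 0 from (hrels ▸ Ideal.subset_span hs.1 : q ∈ RingHom.ker π.toRingHom),
            map_zero])
      refine ⟨V, iV, iAV, hEV, ψ.comp γ, hV, fun z hz => ?_⟩
      rcases Finset.mem_insert.mp hz with rfl | hz
      · exact hψ
      · rw [AlgHom.comp_apply, hγ z hz, map_zero]
  obtain ⟨U, iU', iAU', hEU', γ, hU, hγ⟩ := key rels subset_rfl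
  obtain ⟨uu⟩ := existsUnique_algHom_of_isPairNbhd I hH U hU
  obtain ⟨_⟩ := existsUnique_algHom_of_isPairNbhd I hH U₀ hU₀
  let φU : U →ₐ[A] H := uu.default
  let ψ : B →ₐ[A] U := AlgHom.liftOfSurjective π hπ (γ.comp (MvPolynomial.aeval y)) (by
    refine le_trans hrels.ge (Ideal.span_le.mpr fun q hq => ?_)
    exact hγ q hq)
  refine ⟨U, iU', iAU', hEU', hU, φU, ψ, ?_⟩
  have : (φU.comp ψ).comp π = φ.comp π := MvPolynomial.algHom_ext fun i => by
    simp only [AlgHom.comp_apply, ψ, AlgHom.liftOfSurjective_apply, MvPolynomial.aeval_X]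
    rw [← AlgHom.comp_apply, Subsingleton.elim (φU.comp γ) φ₀, hy]
  exact AlgHom.ext fun z => by
    obtain ⟨z, rfl⟩ := hπ z
    exact AlgHom.congr_fun this z

/-- Two retracts of a module cut out by the same idempotent are isomorphic. -/
def retractEquiv {R F X Y : Type*} [CommRing R] [AddCommGroup F] [Module R F] [AddCommGroup X]
    [Module R X] [AddCommGroup Y] [Module R Y] (p : F →ₗ[R] X) (i : X →ₗ[R] F) (q : F →ₗ[R] Y)
    (j : Y →ₗ[R] F) (hp : p ∘ₗ i = LinearMap.id) (hq : q ∘ₗ j = LinearMap.id)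
    (h : i ∘ₗ p = j ∘ₗ q) : X ≃ₗ[R] Y :=
  LinearEquiv.ofLinearMap (q ∘ₗ i) (p ∘ₗ j)
    (by rw [LinearMap.comp_assoc, ← LinearMap.comp_assoc j, h, LinearMap.comp_assoc, hq,
      LinearMap.comp_id, hq])
    (by rw [LinearMap.comp_assoc, ← LinearMap.comp_assoc i, ← h, LinearMap.comp_assoc, hp,
      LinearMap.comp_id, hp])

end Groth.Agent.CAlgOdd.PairLift
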