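import Mathlib.RingTheory.IntegralClosure.IsIntegral.AlmostIntegral
import Mathlib.RingTheory.PowerSeries.Inverse
import Mathlib.RingTheory.PowerSeries.Ideal
import Mathlib.RingTheory.DiscreteValuationRing.Basic
import Mathlib.RingTheory.IntegralClosure.IntegrallyClosed

/-!
# Power series over a Noetherian normal domain are normal
-/

universe u v

open PowerSeries
open scoped nonZeroDivisors

namespace Groth.Agent.CAlgOdd

variable {R : Type u} [CommRing R] [IsDomain R] {K : Type v} [Field K] [Algebra R K] [IsFractionRing R K]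

/-- Coefficient of an almost integral power series. -/
theorem coeff_mem_range_of_almostIntegral [IsNoetherianRing R] [IsIntegrallyClosed R] (q : PowerSeries K)
    (hq : @IsAlmostIntegral (PowerSeries R) (PowerSeries K) _ _ (PowerSeries.map (algebraMap R K)).toAlgebra q)
    (i : ℕ) : coeff i q ∈ Set.range (algebraMap R K) := by
  classical
  let : Algebra (PowerSeries R) (PowerSeries K) := (PowerSeries.map (algebraMap R K)).toAlgebra
  induction i using Nat.strong_induction_on with
  | _ i ih =>
    choose a ha using fun j : Fin i => ih j j.2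
    let t : PowerSeries R := PowerSeries.mk fun j => if h : j < i then a ⟨j, h⟩ else 0
    have hmem : q - algebraMap (PowerSeries R) (PowerSeries K) t ∈
        completeIntegralClosure (PowerSeries R) (PowerSeries K) :=
      sub_mem hq (Subalgebra.algebraMap_mem _ t)
    obtain ⟨r, hr, hrn⟩ := hmem
    set g := q - algebraMap (PowerSeries R) (PowerSeries K) t with hg
    have hlow : ∀ j < i, coeff j g = 0 := by
      intro j hj
      rw [hg, map_sub, RingHom.algebraMap_toAlgebra, PowerSeries.coeff_map, PowerSeries.coeff_mk, dif_pos hj,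
        ha ⟨j, hj⟩, sub_self]
    obtain ⟨g', hg'⟩ := PowerSeries.X_pow_dvd_iff.mpr hlow
    have hr0 : r ≠ 0 := nonZeroDivisors.ne_zero hr
    obtain ⟨m, r0, rfl, hcm⟩ : ∃ m r0, r = X ^ m * r0 ∧ coeff m r ≠ 0 :=
      ⟨_, _, (PowerSeries.X_pow_order_mul_divXPowOrder).symm, PowerSeries.coeff_order hr0⟩
    have hc0 : constantCoeff r0 ≠ 0 := by
      rwa [PowerSeries.coeff_X_pow_mul', if_pos le_rfl, Nat.sub_self, coeff_zero_eq_constantCoeff] at hcm
    have hci : coeff i q = constantCoeff g' := by
      have h1 : coeff i g = coeff i q := by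
        rw [hg, map_sub, RingHom.algebraMap_toAlgebra, PowerSeries.coeff_map, PowerSeries.coeff_mk,
          dif_neg (lt_irrefl i), map_zero, sub_zero]
      rw [← h1, hg', PowerSeries.coeff_X_pow_mul', if_pos le_rfl, Nat.sub_self, coeff_zero_eq_constantCoeff]
    have hint : IsAlmostIntegral R (coeff i q) := by
      refine ⟨constantCoeff r0, mem_nonZeroDivisors_of_ne_zero hc0, fun n => ?_⟩
      obtain ⟨c, hc⟩ := hrn n
      refine ⟨coeff (m + i * n) c, ?_⟩
      have h3 : algebraMap (PowerSeries R) (PowerSeries K) (X ^ m * r0) * g ^ n =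
          X ^ (m + i * n) * (PowerSeries.map (algebraMap R K) r0 * g' ^ n) := by
        rw [hg', RingHom.algebraMap_toAlgebra, map_mul, map_pow, PowerSeries.map_X, pow_add, pow_mul]
        ring
      rw [Algebra.smul_def, h3] at hc
      have h2 := congrArg (coeff (m + i * n)) hc
      rw [RingHom.algebraMap_toAlgebra, PowerSeries.coeff_map, PowerSeries.coeff_X_pow_mul', if_pos le_rfl,
        Nat.sub_self, coeff_zero_eq_constantCoeff_apply, map_mul, map_pow, ← coeff_zero_eq_constantCoeff_apply,
        PowerSeries.coeff_map, coeff_zero_eq_constantCoeff_apply] at h2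
      rw [h2, Algebra.smul_def, hci]
    exact IsIntegrallyClosed.isIntegral_iff.mp hint.isIntegral

/-- The power series ring of a Noetherian normal domain is normal. -/
theorem powerSeries_isIntegrallyClosed [IsNoetherianRing R] [IsIntegrallyClosed R] :
    IsIntegrallyClosed (PowerSeries R) := by
  classical
  let P := PowerSeries R
  let K := FractionRing R
  let ι : P →+* PowerSeries K := PowerSeries.map (algebraMap R K)
  let : Algebra P (PowerSeries K) := ι.toAlgebra
  have hι : Function.Injective ι := PowerSeries.map_injective _ (IsFractionRing.injective R K)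
  refine (isIntegrallyClosed_iff (FractionRing P)).mpr fun {y} hy => ?_
  obtain ⟨r, hr, hrn⟩ := hy.isAlmostIntegral
  obtain ⟨a, b, hb, rfl⟩ := IsFractionRing.div_surjective (A := P) y
  choose c hc using hrn
  have hrel : ∀ n, ι r * ι a ^ n = ι (c n) * ι b ^ n := by
    intro n
    have h := hc n
    rw [Algebra.smul_def, div_pow, mul_div_assoc', eq_div_iff (pow_ne_zero n fun h0 => nonZeroDivisors.ne_zero hb
      ((IsFractionRing.injective P (FractionRing P)) (h0.trans (map_zero _).symm))), ← map_pow, ← map_pow, ← map_mul,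
      ← map_mul] at h
    rw [← map_pow, ← map_pow, ← map_mul, ← map_mul, IsFractionRing.injective P (FractionRing P) h]
  have hb0 : ι b ≠ 0 := fun h => nonZeroDivisors.ne_zero hb (hι (h.trans (map_zero ι).symm))
  have hr0 : ι r ≠ 0 := fun h => nonZeroDivisors.ne_zero hr (hι (h.trans (map_zero ι).symm))
  have hdvd : ι b ∣ ι a := by
    rcases ValuationRing.dvd_total (ι b) (ι a) with h | ⟨t, ht⟩
    · exact h
    · have ha0 : ι a ≠ 0 := fun h => hb0 (by rw [ht, h, zero_mul])
      have hpow : ∀ n, t ^ n ∣ ι r := fun n => ⟨ι (c n), by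
        refine mul_right_cancel₀ (pow_ne_zero n ha0) ?_
        rw [hrel n, ht, mul_pow]
        ring⟩
      have hu : IsUnit t := by
        by_contra hu
        obtain ⟨n, hn⟩ := FiniteMultiplicity.of_not_isUnit hu hr0
        exact hn (hpow (n + 1))
      obtain ⟨u, rfl⟩ := hu
      exact ⟨↑u⁻¹, by rw [ht, mul_assoc, Units.mul_inv, mul_one]⟩
  obtain ⟨q, hq⟩ := hdvd
  have hqa : IsAlmostIntegral P q := ⟨r, hr, fun n => ⟨c n, by
    rw [Algebra.smul_def]
    change ι (c n) = ι r * q ^ n
    refine mul_right_cancel₀ (pow_ne_zero n hb0) ?_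
    rw [← hrel n, hq, mul_pow]
    ring⟩⟩
  choose f hf using fun i => coeff_mem_range_of_almostIntegral q hqa i
  refine ⟨PowerSeries.mk f, ?_⟩
  have hq' : ι (PowerSeries.mk f) = q := by
    ext i
    rw [PowerSeries.coeff_map, PowerSeries.coeff_mk, hf]
  have hab : a = b * PowerSeries.mk f := hι (by rw [map_mul, hq', hq])
  rw [hab, map_mul, mul_div_cancel_left₀]
  exact fun h0 => nonZeroDivisors.ne_zero hb ((IsFractionRing.injective P (FractionRing P)) (h0.trans (map_zero _).symm))

end Groth.Agent.CAlgOdd
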