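import Groth.Agent.CAlgUI.DescentProj
import Groth.Agent.CAlgOdd.FlatDescFinite

/-!
# Projectivity descends along finite injective maps out of Noetherian rings
-/

namespace Groth.Agent.CAlgOdd.ProjDesc

open TensorProduct CAlgUI
open scoped Classical

universe u

variable {R S : Type u} [CommRing R] [CommRing S] [Algebra R S]

/-- The components of a family of modules killed by `I`. -/
def MLMod (I : Ideal R) (M : Type u) [AddCommGroup M] [Module R M] : Prop :=
  ∀ (ι : Type u) (Q : ι → Type u) [∀ i, AddCommGroup (Q i)] [∀ i, Module R (Q i)],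
    (∀ i, Module.IsTorsionBySet R (Q i) I) → ∀ t : M ⊗[R] (∀ i, Q i),
    (∀ i, TensorProduct.piRightHom R R M Q t i = 0) → t = 0

theorem piRightHom_piMap {M : Type u} [AddCommGroup M] [Module R M] {ι : Type u} {Q Q' : ι → Type u}
    [∀ i, AddCommGroup (Q i)] [∀ i, Module R (Q i)] [∀ i, AddCommGroup (Q' i)] [∀ i, Module R (Q' i)]
    (f : ∀ i, Q i →ₗ[R] Q' i) (t : M ⊗[R] (∀ i, Q i)) (i : ι) :
    TensorProduct.piRightHom R R M Q' ((LinearMap.piMap f).lTensor M t) i =
      (f i).lTensor M (TensorProduct.piRightHom R R M Q t i) := by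
  induction t using TensorProduct.induction_on with
  | zero => simp
  | tmul m q => simp
  | add a b ha hb => simp [map_add, ha, hb]

theorem exact_piMap {ι : Type u} {Q Q' Q'' : ι → Type u}
    [∀ i, AddCommGroup (Q i)] [∀ i, Module R (Q i)] [∀ i, AddCommGroup (Q' i)] [∀ i, Module R (Q' i)]
    [∀ i, AddCommGroup (Q'' i)] [∀ i, Module R (Q'' i)]
    (f : ∀ i, Q i →ₗ[R] Q' i) (g : ∀ i, Q' i →ₗ[R] Q'' i) (h : ∀ i, Function.Exact (f i) (g i)) :
    Function.Exact (LinearMap.piMap f) (LinearMap.piMap g) := fun x => by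
  constructor
  · intro hx
    have hx' : ∀ i, x i ∈ Set.range (f i) := fun i => (h i _).1 (congrFun hx i)
    choose y hy using hx'
    exact ⟨y, funext hy⟩
  · rintro ⟨y, rfl⟩
    exact funext fun i => (h i).apply_apply_eq_zero (y i)

variable {M : Type u} [AddCommGroup M] [Module R M]

theorem mlMod_of_mul_le [Module.Flat R M] {I J K : Ideal R} (hJK : J * K ≤ I) (hJ : MLMod J M)
    (hK : MLMod K M) : MLMod I M := by
  intro ι Q _ _ hQ t ht
  let N : ∀ i, Submodule R (Q i) := fun i => J • ⊤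
  let f : ∀ i, N i →ₗ[R] Q i := fun i => (N i).subtype
  let g : ∀ i, Q i →ₗ[R] Q i ⧸ N i := fun i => (N i).mkQ
  have h1 : (LinearMap.piMap g).lTensor M t = 0 := by
    refine hJ ι _ (fun i x a => ?_) _ fun i => by rw [piRightHom_piMap, ht, map_zero]
    obtain ⟨x, rfl⟩ := (N i).mkQ_surjective x
    rw [← map_smul, Submodule.mkQ_apply, Submodule.Quotient.mk_eq_zero]
    exact Submodule.smul_mem_smul a.2 Submodule.mem_top
  obtain ⟨w, rfl⟩ := (Module.Flat.lTensor_exact M (exact_piMap f g fun i => LinearMap.exact_subtype_mkQ (N i)) t).1 h1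
  rw [hK ι _ (fun i => ?_) w fun i => ?_, map_zero]
  · intro x a
    refine Subtype.ext ?_
    show (a : R) • (x : Q i) = 0
    obtain ⟨x, hx⟩ := x
    induction hx using Submodule.smul_induction_on' with
    | smul b hb y _ =>
      rw [smul_smul]
      exact @hQ i y ⟨_, hJK (mul_comm b (a : R) ▸ Ideal.mul_mem_mul hb a.2)⟩
    | add y hy z hz ihy ihz => rw [smul_add, ihy, ihz, add_zero]
  · have h2 := ht i
    rw [piRightHom_piMap] at h2
    exact Module.Flat.lTensor_preserves_injective_linearMap (f i) (N i).subtype_injective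
      (h2.trans (map_zero _).symm)

theorem mlMod_prime [IsNoetherianRing R] [Module.Finite R S] [Module.Flat R M]
    (hinj : Function.Injective (algebraMap R S)) (hM : CAlg.IsMittagLeffler S (S ⊗[R] M))
    (P : Ideal R) [P.IsPrime] (IH : ∀ J > P, MLMod J M) : MLMod P M := by
  obtain ⟨θ, c, hθ, hc⟩ : ∃ (θ : S →ₗ[R] R ⧸ P) (c : R), θ 1 = Ideal.Quotient.mk P c ∧ c ∉ P := by
    haveI : Algebra.IsIntegral R S := Algebra.IsIntegral.of_finite R S
    obtain ⟨q, -, hq, hqP⟩ := Ideal.exists_ideal_over_prime_of_isIntegral P (⊥ : Ideal S) (by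
      rw [← RingHom.ker_eq_comap_bot, (RingHom.injective_iff_ker_eq_bot _).1 hinj]; exact bot_le)
    letI : Algebra (R ⧸ P) (S ⧸ q) := Ideal.Quotient.algebraQuotientOfLEComap hqP.ge
    haveI : IsScalarTower R (R ⧸ P) (S ⧸ q) := IsScalarTower.of_algebraMap_eq fun x => rfl
    haveI : Module.Finite R (S ⧸ q) :=
      Module.Finite.of_surjective (Ideal.Quotient.mkₐ R q).toLinearMap Ideal.Quotient.mk_surjective
    haveI : Module.Finite (R ⧸ P) (S ⧸ q) := Module.Finite.of_restrictScalars_finite R _ _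
    have hinj' : Function.Injective (algebraMap (R ⧸ P) (S ⧸ q)) := by
      rw [injective_iff_map_eq_zero]
      intro x hx
      obtain ⟨x, rfl⟩ := Ideal.Quotient.mk_surjective x
      rw [Ideal.Quotient.eq_zero_iff_mem, ← hqP, Ideal.mem_comap]
      exact Ideal.Quotient.eq_zero_iff_mem.1 hx
    obtain ⟨θ, hθ⟩ := FlatDesc.exists_functional (R ⧸ P) (S ⧸ q) hinj'
    obtain ⟨c, hc⟩ := Ideal.Quotient.mk_surjective (θ 1)
    exact ⟨θ.restrictScalars R ∘ₗ (Ideal.Quotient.mkₐ R q).toLinearMap, c, hc.symm,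
      fun h => hθ (hc ▸ Ideal.Quotient.eq_zero_iff_mem.2 h)⟩
  intro ι Q _ _ hQ t ht
  letI : ∀ i, Module (R ⧸ P) (Q i) := fun i => (hQ i).module
  haveI : ∀ i, IsScalarTower R (R ⧸ P) (Q i) := fun i => (hQ i).isScalarTower
  let u : ∀ i, Q i →ₗ[R] S ⊗[R] Q i := fun i => TensorProduct.mk R S (Q i) 1
  let v : ∀ i, S ⊗[R] Q i →ₗ[R] Q i := fun i =>
    TensorProduct.lift ((LinearMap.lsmul (R ⧸ P) (Q i)).restrictScalars₁₂ R R ∘ₗ θ)
  -- the image in the base change vanishes
  let e : ∀ (X : Type u) [AddCommGroup X] [Module S X] [Module R X] [IsScalarTower R S X],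
      (S ⊗[R] M) ⊗[S] X ≃ₗ[R] M ⊗[R] X := fun X _ _ _ _ =>
    (((TensorProduct.comm S (S ⊗[R] M) X).trans
      (TensorProduct.AlgebraTensorModule.cancelBaseChange R S S X M)).restrictScalars R).trans
        (TensorProduct.comm R X M)
  obtain ⟨s, hs⟩ := (e _).surjective ((LinearMap.piMap u).lTensor M t)
  have he : ∀ (s : (S ⊗[R] M) ⊗[S] (∀ i, S ⊗[R] Q i)) (i : ι),
      TensorProduct.piRightHom R R M (fun i => S ⊗[R] Q i) (e _ s) i =
        e _ (TensorProduct.piRightHom S S _ (fun i => S ⊗[R] Q i) s i) := by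
    intro s i
    induction s using TensorProduct.induction_on with
    | zero => simp
    | tmul a q =>
      induction a using TensorProduct.induction_on with
      | zero => simp
      | tmul a m => simp [e]
      | add a b ha hb => simp only [TensorProduct.add_tmul, map_add, Pi.add_apply, ha, hb]
    | add a b ha hb => simp only [map_add, Pi.add_apply, ha, hb]
  have h0 : s = 0 := ml_iff.mp hM ι _ s fun i => (e _).injective (by
    rw [← he, hs, map_zero, piRightHom_piMap, ht, map_zero])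
  have h1 : (LinearMap.piMap u).lTensor M t = 0 := by rw [← hs, h0, map_zero]
  -- hence `c` kills `t`
  let m : ∀ i, Q i →ₗ[R] Q i := fun i => LinearMap.lsmul R (Q i) c
  have hvu : LinearMap.piMap v ∘ₗ LinearMap.piMap u = LinearMap.piMap m := by
    refine LinearMap.ext fun x => funext fun i => ?_
    show v i (u i (x i)) = c • x i
    simp [v, u, hθ, ← Ideal.Quotient.algebraMap_eq, algebraMap_smul]
  have h2 : (LinearMap.piMap m).lTensor M t = 0 := by
    rw [← hvu, LinearMap.lTensor_comp, LinearMap.comp_apply, h1, map_zero]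
  let f : ∀ i, LinearMap.ker (m i) →ₗ[R] Q i := fun i => (LinearMap.ker (m i)).subtype
  obtain ⟨w, rfl⟩ := (Module.Flat.lTensor_exact M
    (exact_piMap f m fun i => LinearMap.exact_subtype_ker_map (m i)) t).1 h2
  have hlt : P < P ⊔ Ideal.span {c} :=
    lt_of_le_of_ne le_sup_left fun h => hc (h ▸ Ideal.mem_sup_right (Ideal.mem_span_singleton_self c))
  rw [IH _ hlt ι _ (fun i => ?_) w fun i => ?_, map_zero]
  · intro x a
    refine Subtype.ext ?_
    show (a : R) • (x : Q i) = 0
    obtain ⟨y, hy, z, hz, hyz⟩ := Submodule.mem_sup.1 a.2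
    obtain ⟨r, rfl⟩ := Ideal.mem_span_singleton'.1 hz
    have hyx : y • (x : Q i) = 0 := @hQ i x.1 ⟨y, hy⟩
    have hcx : c • (x : Q i) = 0 := x.2
    rw [← hyz, add_smul, mul_smul, hyx, hcx, smul_zero, add_zero]
  · have h3 := ht i
    rw [piRightHom_piMap] at h3
    exact Module.Flat.lTensor_preserves_injective_linearMap (f i) Subtype.val_injective
      (h3.trans (map_zero _).symm)

theorem ml_of_finite_injective [IsNoetherianRing R] [Module.Finite R S] [Module.Flat R M]
    (hinj : Function.Injective (algebraMap R S)) (hM : CAlg.IsMittagLeffler S (S ⊗[R] M)) :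
    CAlg.IsMittagLeffler R M := by
  have key : ∀ I : Ideal R, MLMod I M := by
    refine fun I => IsNoetherian.induction (P := fun I : Ideal R => MLMod I M) (fun (I : Ideal R) IH => ?_) I
    by_cases htop : I = ⊤
    · intro ι Q _ _ hQ t _
      haveI : Subsingleton (∀ i, Q i) := subsingleton_of_forall_eq 0 fun x => funext fun i => by
        simpa using @hQ i (x i) ⟨1, htop ▸ Submodule.mem_top⟩
      exact Subsingleton.elim _ _
    by_cases hp : Ideal.IsPrime I
    · exact mlMod_prime hinj hM I IH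
    obtain ⟨a, ha, b, hb, hab⟩ : ∃ a ∉ I, ∃ b ∉ I, a * b ∈ I := by
      simpa using (Ideal.not_isPrime_iff.1 hp).resolve_left htop
    refine mlMod_of_mul_le (J := I ⊔ Ideal.span {a}) (K := I ⊔ Ideal.span {b}) ?_
      (IH _ (lt_of_le_of_ne le_sup_left fun h => ha (h ▸ Ideal.mem_sup_right (Ideal.mem_span_singleton_self a))))
      (IH _ (lt_of_le_of_ne le_sup_left fun h => hb (h ▸ Ideal.mem_sup_right (Ideal.mem_span_singleton_self b))))
    rw [Ideal.sup_mul, Ideal.mul_sup, Ideal.mul_sup, Ideal.span_singleton_mul_span_singleton]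
    exact sup_le (sup_le Ideal.mul_le_left Ideal.mul_le_left) (sup_le Ideal.mul_le_right ((Ideal.span_singleton_le_iff_mem _).2 hab))
  rw [ml_iff]
  intro ι Q _ _ t ht
  exact key ⊥ ι Q (fun i x a => by rw [(Submodule.mem_bot R).1 a.2, zero_smul]) t ht

section Projective

variable {I : Type u} (Q : I → Submodule S (S ⊗[R] M))

theorem baseChange_subtype_injective [IsNoetherianRing R] [Module.Finite R S]
    (hinj : Function.Injective (algebraMap R S)) [Module.Projective S (S ⊗[R] M)]
    (hQ : DirectSum.IsInternal Q) (A : Set (M ⊕ I))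
    (hA : (mPart R A).baseChange S = iPart Q A) :
    Function.Injective ((mPart R A).subtype.baseChange S) := by
  let L := mPart R A
  let q : S ⊗[R] M →ₗ[S] S ⊗[R] (M ⧸ L) := L.mkQ.baseChange S
  have hq : Function.Surjective q := LinearMap.lTensor_surjective S L.mkQ_surjective
  have hker : LinearMap.ker q = iPart Q A := by
    rw [← hA]
    exact LinearMap.exact_iff.1 (lTensor_exact (R := R) S (f := L.subtype) (g := L.mkQ)
      (LinearMap.exact_subtype_mkQ L) L.mkQ_surjective :
      Function.Exact (L.subtype.baseChange S) q)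
  obtain ⟨π, hπ₁, hπ₂, hπ₃⟩ := exists_proj_of_isInternal Q hQ (Sum.inr ⁻¹' A)ᶜ
  have hle : iPart Q A ≤ LinearMap.ker π :=
    iSup₂_le fun i hi y hy => LinearMap.mem_ker.2 (hπ₃ i (fun h => h hi) y hy)
  have hsec : ∀ x, q (π x) = q x := by
    have hle' : (⨆ i, Q i) ≤ LinearMap.eqLocus (q ∘ₗ π) q := by
      refine iSup_le fun i y hy => ?_
      rw [LinearMap.mem_eqLocus, LinearMap.comp_apply]
      by_cases hi : i ∈ Sum.inr ⁻¹' A
      · rw [hπ₃ i (fun h => h hi) y hy, map_zero, eq_comm, ← LinearMap.mem_ker, hker]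
        exact le_iSup₂ (f := fun j (_ : j ∈ Sum.inr ⁻¹' A) => Q j) i hi hy
      · rw [hπ₁ y (le_iSup₂ (f := fun j (_ : j ∈ (Sum.inr ⁻¹' A)ᶜ) => Q j) i hi hy)]
    exact fun x => hle' (hQ.submodule_iSup_eq_top ▸ Submodule.mem_top)
  let σ : (S ⊗[R] M) ⧸ LinearMap.ker q →ₗ[S] S ⊗[R] M := (LinearMap.ker q).liftQ π (hker ▸ hle)
  let e := q.quotKerEquivOfSurjective hq
  haveI : Module.Projective S (S ⊗[R] (M ⧸ L)) := by
    refine Module.Projective.of_split (σ ∘ₗ e.symm.toLinearMap) q (LinearMap.ext fun y => ?_)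
    obtain ⟨x, rfl⟩ := hq y
    have : e.symm (q x) = Submodule.Quotient.mk x := by
      rw [LinearEquiv.symm_apply_eq]; rfl
    simp [this, σ, hsec]
  haveI : Module.Flat R (M ⧸ L) := FlatDesc.flat_of_finite_injective _ S hinj
  exact (LinearMap.lTensor_inj_iff_rTensor_inj S L.subtype).2
    (ui_of_flat_quotient L.subtype_injective (LinearMap.exact_subtype_mkQ L) L.mkQ_surjective S)

theorem projective_step (hQ : DirectSum.IsInternal Q) [Module.Projective S (S ⊗[R] M)]
    (A B : Set (M ⊕ I)) (hAB : A ⊆ B)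
    (hA : (mPart R A).baseChange S = iPart Q A) (hB : (mPart R B).baseChange S = iPart Q B)
    (hJ : Function.Injective ((mPart R B).subtype.baseChange S)) :
    Module.Projective S (S ⊗[R] (↥(mPart R B) ⧸ (mPart R A).comap (mPart R B).subtype)) := by
  let L := mPart R B
  let L₀ := (mPart R A).comap L.subtype
  have hle : mPart R A ≤ L := Submodule.span_mono (Set.preimage_mono hAB)
  have hmap : L₀.map L.subtype = mPart R A := by
    rw [Submodule.map_comap_subtype, inf_eq_right.2 hle]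
  obtain ⟨π, hπ₁, hπ₂, hπ₃⟩ := exists_proj_of_isInternal Q hQ (Sum.inr ⁻¹' (B \ A))
  obtain ⟨π', hπ'₁, hπ'₂, hπ'₃⟩ := exists_proj_of_isInternal Q hQ (Sum.inr ⁻¹' A)
  let J : S ⊗[R] L →ₗ[S] S ⊗[R] M := L.subtype.baseChange S
  have hJrange : LinearMap.range J = iPart Q B := hB
  -- `π` kills exactly `iPart Q A` on `iPart Q B`
  have hkill : ∀ x ∈ iPart Q A, π x = 0 := by
    intro x hx
    suffices h : iPart Q A ≤ LinearMap.ker π from LinearMap.mem_ker.1 (h hx)
    refine iSup₂_le fun i hi y hy => ?_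
    exact LinearMap.mem_ker.2 (hπ₃ i (fun h => h.2 hi) y hy)
  let g : S ⊗[R] L →ₗ[S] S ⊗[R] M := π ∘ₗ J
  have hsplit : ∀ x ∈ iPart Q B, x = π' x + π x := by
    intro x hx
    suffices h : iPart Q B ≤ LinearMap.eqLocus LinearMap.id (π' + π) from h hx
    refine iSup₂_le fun i hi y hy => ?_
    rw [LinearMap.mem_eqLocus, LinearMap.id_apply, LinearMap.add_apply]
    by_cases hiA : i ∈ Sum.inr ⁻¹' A
    · rw [hπ'₁ y (le_iSup₂ (f := fun j (_ : j ∈ Sum.inr ⁻¹' A) => Q j) i hiA hy),
        hkill y (le_iSup₂ (f := fun j (_ : j ∈ Sum.inr ⁻¹' A) => Q j) i hiA hy), add_zero]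
    · rw [hπ₁ y (le_iSup₂ (f := fun j (_ : j ∈ Sum.inr ⁻¹' (B \ A)) => Q j) i ⟨hi, hiA⟩ hy),
        hπ'₃ i hiA y hy, zero_add]
  -- the kernel of `g` is the base change of `L₀`
  let q : S ⊗[R] L →ₗ[S] S ⊗[R] (↥L ⧸ L₀) := L₀.mkQ.baseChange S
  have hq : Function.Surjective q := LinearMap.lTensor_surjective S L₀.mkQ_surjective
  have hex : Function.Exact (L₀.subtype.baseChange S) q :=
    lTensor_exact (R := R) (M := ↥L₀) (N := ↥L) (P := ↥L ⧸ L₀) S (f := L₀.subtype) (g := L₀.mkQ)
      (LinearMap.exact_subtype_mkQ L₀) L₀.mkQ_surjective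
  have hkerq : LinearMap.ker q = LinearMap.range (L₀.subtype.baseChange S) :=
    LinearMap.exact_iff.1 hex
  have himg : (LinearMap.ker q).map J = iPart Q A := by
    rw [hkerq, ← hA, ← hmap, ← LinearMap.range_comp, ← LinearMap.baseChange_comp,
      Submodule.baseChange, ← LinearMap.range_comp_of_range_eq_top (f := ((Submodule.equivMapOfInjective
        L.subtype L.subtype_injective L₀).toLinearMap.baseChange S)) _ (LinearMap.range_eq_top.2
        (LinearMap.lTensor_surjective S (LinearEquiv.surjective _))), ← LinearMap.baseChange_comp]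
    rfl
  have hker : LinearMap.ker g = LinearMap.ker q := by
    refine le_antisymm (fun z hz => ?_) (fun z hz => ?_)
    · have hz' : π (J z) = 0 := hz
      have hJz : J z ∈ iPart Q A := by
        rw [hsplit (J z) (hJrange ▸ ⟨z, rfl⟩), hz', add_zero]
        exact hπ'₂ _
      rw [← himg] at hJz
      obtain ⟨w, hw, hwz⟩ := hJz
      rwa [← hJ hwz]
    · exact LinearMap.mem_ker.2 (hkill (J z) (himg ▸ ⟨z, hz, rfl⟩))
  have hrange : LinearMap.range g = ⨆ i ∈ Sum.inr ⁻¹' (B \ A), Q i := by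
    refine le_antisymm ?_ fun x hx => ?_
    · rintro _ ⟨z, rfl⟩
      exact hπ₂ _
    · obtain ⟨z, hz⟩ : x ∈ LinearMap.range J := by
        rw [hJrange]
        exact (biSup_mono fun i hi => hi.1 : (⨆ i ∈ Sum.inr ⁻¹' (B \ A), Q i) ≤ iPart Q B) hx
      exact ⟨z, (congrArg π hz).trans (hπ₁ x hx)⟩
  haveI : Module.Projective S (LinearMap.range g) :=
    Module.Projective.of_split (R := S) (M := S ⊗[R] M) (LinearMap.range g).subtype
      (π.codRestrict (LinearMap.range g) fun x => hrange ▸ hπ₂ x)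
      (LinearMap.ext fun y => Subtype.ext (hπ₁ _ (hrange ▸ y.2)))
  exact Module.Projective.of_equiv ((g.quotKerEquivRange.symm.trans (Submodule.quotEquivOfEq _ _ hker)).trans
    (q.quotKerEquivOfSurjective hq))

theorem projective_descent_aux [IsNoetherianRing R] [Module.Finite R S]
    (hinj : Function.Injective (algebraMap R S)) [Module.Projective S (S ⊗[R] M)]
    [LinearOrder M] [WellFoundedLT M] {I : Type u} (Q : I → Submodule S (S ⊗[R] M))
    (hQ : DirectSum.IsInternal Q) (hQc : ∀ i, CAlg.IsCountablyGenerated S (Q i)) :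
    Module.Projective R M := by
  obtain ⟨D, hDc, hD⟩ := exists_adapted Q hQ fun i =>
    exists_countable_span_of_isCountablyGenerated (hQc i)
  choose c hc₀ hcc hcD using fun m : M =>
    exists_countable_closed_set ({Sum.inl m} : Set (M ⊕ I)) (Set.countable_singleton _) D hDc
  let A : WithTop M → Set (M ⊕ I) := fun t => ⋃ m ∈ {m : M | (m : WithTop M) < t}, c m
  have hAclosed : ∀ t, ∀ x ∈ A t, D x ⊆ A t := by
    intro t x hx y hy
    obtain ⟨a, ha, hax⟩ := Set.mem_iUnion₂.1 hx
    exact Set.mem_iUnion₂.2 ⟨a, ha, hcD a x hax hy⟩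
  have hAmono : Monotone A := fun s t h =>
    Set.biUnion_subset_biUnion_left fun i hi => lt_of_lt_of_le hi h
  let Mf : WithTop M → Submodule R M := fun t => mPart R (A t)
  have hmono : Monotone Mf := fun s t h => Submodule.span_mono (Set.preimage_mono (hAmono h))
  have hlim : ∀ s, Order.IsSuccPrelimit s → Mf s = ⨆ t : {t // t < s}, Mf t.1 := by
    intro s hs
    refine le_antisymm (Submodule.span_le.2 fun m hm => ?_) (iSup_le fun t => hmono t.2.le)
    obtain ⟨a, ha, ham⟩ := Set.mem_iUnion₂.1 hm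
    obtain ⟨t, hat, hts⟩ : ∃ t, (a : WithTop M) < t ∧ t < s := by
      by_contra hcon
      exact hs _ ⟨ha, fun c h1 h2 => hcon ⟨c, h1, h2⟩⟩
    exact Submodule.mem_iSup_of_mem ⟨t, hts⟩
      (Submodule.subset_span (Set.mem_iUnion₂.2 ⟨a, hat, ham⟩))
  have htop : (⨆ s, Mf s) = ⊤ := eq_top_iff.2 fun m _ => Submodule.mem_iSup_of_mem ⊤
    (Submodule.subset_span (Set.mem_iUnion₂.2 ⟨m, WithTop.coe_lt_top m, hc₀ m rfl⟩))
  have hstep : ∀ s t : WithTop M, s ⋖ t → ∃ C : Submodule R M,
      Mf s ⊓ C = ⊥ ∧ Mf s ⊔ C = Mf t ∧ Module.Projective R C := by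
    intro s t hst
    cases s with
    | top => exact absurd hst.lt not_top_lt
    | coe a =>
      let L := Mf t
      let L₀ := (Mf a).comap L.subtype
      haveI hproj : Module.Projective S (S ⊗[R] (↥L ⧸ L₀)) :=
        projective_step Q hQ (A a) (A t) (hAmono hst.lt.le) (hD _ (hAclosed _)) (hD _ (hAclosed _))
          (baseChange_subtype_injective Q hinj hQ (A t) (hD _ (hAclosed _)))
      haveI : Module.Flat R (↥L ⧸ L₀) := FlatDesc.flat_of_finite_injective _ S hinj
      have hcg : CAlg.IsCountablyGenerated R (↥L ⧸ L₀) := by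
        refine ⟨L₀.mkQ '' (Subtype.val ⁻¹' (Sum.inl ⁻¹' c a)),
          (((hcc a).preimage Sum.inl_injective).preimage Subtype.val_injective).image _, ?_⟩
        rw [eq_top_iff]
        rintro x -
        obtain ⟨⟨y, hy⟩, rfl⟩ := L₀.mkQ_surjective x
        have hy' : y ∈ Mf t := hy
        induction hy' using Submodule.span_induction with
        | mem z hz =>
          obtain ⟨b, hb, hbz⟩ := Set.mem_iUnion₂.1 hz
          rcases lt_or_eq_of_le (not_lt.1 fun h => hst.2 h hb) with h | h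
          · have h0 : L₀.mkQ ⟨z, hy⟩ = 0 := (Submodule.Quotient.mk_eq_zero L₀).2
              (Submodule.subset_span (Set.mem_iUnion₂.2 ⟨b, h, hbz⟩))
            rw [h0]
            exact zero_mem _
          · obtain rfl : b = a := WithTop.coe_eq_coe.1 h
            exact Submodule.subset_span ⟨⟨z, hy⟩, hbz, rfl⟩
        | zero => rw [show (⟨0, hy⟩ : L) = 0 from rfl, map_zero]; exact zero_mem _
        | add p q hp hq ihp ihq =>
          rw [show (⟨p + q, hy⟩ : L) = ⟨p, hp⟩ + ⟨q, hq⟩ from rfl, map_add]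
          exact add_mem (ihp hp) (ihq hq)
        | smul r p hp ih =>
          rw [show (⟨r • p, hy⟩ : L) = r • ⟨p, hp⟩ from rfl, map_smul]
          exact Submodule.smul_mem _ r (ih hp)
      haveI hP : Module.Projective R (↥L ⧸ L₀) :=
        projective_of_flat_ml_countablyGenerated (ml_of_finite_injective (S := S) hinj ml_of_projective) hcg
      obtain ⟨σ, hσ⟩ := Module.projective_lifting_property L₀.mkQ LinearMap.id L₀.mkQ_surjective
      have hinj : Function.Injective (L.subtype ∘ₗ σ) :=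
        L.subtype_injective.comp fun x y h => by
          simpa [← LinearMap.comp_apply, hσ] using congrArg L₀.mkQ h
      refine ⟨LinearMap.range (L.subtype ∘ₗ σ), ?_, le_antisymm (sup_le (hmono hst.lt.le) ?_) ?_,
        Module.Projective.of_equiv (LinearEquiv.ofInjective _ hinj)⟩
      · rw [eq_bot_iff]
        rintro z ⟨hz, x, rfl⟩
        have hx : L₀.mkQ (σ x) = 0 := (Submodule.Quotient.mk_eq_zero L₀).2 hz
        rw [← LinearMap.comp_apply, hσ, LinearMap.id_apply] at hx
        simp [hx]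
      · rintro _ ⟨x, rfl⟩
        exact (σ x).2
      · intro y hy
        have h1 : L₀.mkQ (⟨y, hy⟩ - σ (L₀.mkQ ⟨y, hy⟩)) = 0 := by
          rw [map_sub, ← LinearMap.comp_apply L₀.mkQ σ, hσ, LinearMap.id_apply, sub_self]
        have h2 : ((⟨y, hy⟩ - σ (L₀.mkQ ⟨y, hy⟩) : L) : M) ∈ Mf a :=
          (Submodule.Quotient.mk_eq_zero L₀).1 h1
        exact Submodule.mem_sup.2 ⟨_, h2, _, ⟨L₀.mkQ ⟨y, hy⟩, rfl⟩, by simp⟩
  choose C hC₁ hC₂ hC₃ using hstep
  refine projective_of_isInternal (fun p : {p : WithTop M × WithTop M // p.1 ⋖ p.2} => C _ _ p.2)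
    ?_ (fun p => hC₃ _ _ p.2)
  convert devissage_isInternal Mf hmono hlim htop (fun p => C _ _ p.2) (fun p => hC₁ _ _ p.2)
    (fun p => hC₂ _ _ p.2)

theorem projective_descent [IsNoetherianRing R] [Module.Finite R S]
    (hinj : Function.Injective (algebraMap R S)) [Module.Projective S (S ⊗[R] M)] :
    Module.Projective R M := by
  obtain ⟨I, Q, hQ, hQc⟩ := exists_countablyGenerated_of_projective (R := S) (M := S ⊗[R] M)
  let : LinearOrder M := WellOrderingRel.isWellOrder.linearOrder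
  have : WellFoundedLT M := ⟨WellOrderingRel.isWellOrder.wf⟩
  exact projective_descent_aux hinj Q hQ hQc

end Projective

end Groth.Agent.CAlgOdd.ProjDesc
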