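import Mathlib
import Groth.Agent.VarDim.Basic

/-!
# Independence of generic linear combinations
-/

universe u
set_option autoImplicit false

namespace Groth.Agent.RatFuncIndep

open MvPolynomial

variable {k : Type u} [Field k]

/-- Two algebraically dependent elements cut out a component of codimension at most one. -/
theorem exists_mem_minimalPrimes_span_singleton {A : Type u} [CommRing A] [IsDomain A] [Algebra k A] (g₀ g₁ : A)
    (h : ¬ AlgebraicIndependent k ![g₀, g₁]) (p : Ideal A) (hp : p ∈ (Ideal.span {g₀, g₁}).minimalPrimes) :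
    ∃ x, p ∈ (Ideal.span {x}).minimalPrimes := by
  classical
  haveI := hp.1.1
  have hg₀ : g₀ ∈ p := hp.1.2 (Ideal.subset_span (Set.mem_insert _ _))
  have hg₁ : g₁ ∈ p := hp.1.2 (Ideal.subset_span (Set.mem_insert_of_mem _ rfl))
  by_cases h0 : g₀ = 0
  · refine ⟨g₁, ?_⟩
    rwa [show Ideal.span {g₀, g₁} = Ideal.span {g₁} by rw [h0, Ideal.span_insert_zero]] at hp
  refine ⟨g₀, ⟨hp.1.1, (Ideal.span_singleton_le_iff_mem _).2 hg₀⟩, fun q ⟨hq, hq0⟩ hqp => hp.2 ⟨hq, ?_⟩ hqp⟩
  have hq₀ : g₀ ∈ q := hq0 (Ideal.mem_span_singleton_self _)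
  suffices g₁ ∈ q by
    rw [Ideal.span_le, Set.insert_subset_iff, Set.singleton_subset_iff]
    exact ⟨hq₀, this⟩
  rw [algebraicIndependent_iff] at h
  push Not at h
  obtain ⟨P, hP, hP0⟩ := h
  let θ : MvPolynomial (Fin 2) k →ₐ[k] Polynomial (Polynomial k) := aeval ![Polynomial.X, Polynomial.C Polynomial.X]
  let Φ : Polynomial (Polynomial k) →+* A := Polynomial.eval₂RingHom (Polynomial.aeval g₁).toRingHom g₀
  let Ψ : Polynomial (Polynomial k) →+* MvPolynomial (Fin 2) k :=
    Polynomial.eval₂RingHom (Polynomial.aeval (X 1 : MvPolynomial (Fin 2) k)).toRingHom (X 0)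
  have hΨ : ∀ P, Ψ (θ P) = P := by
    intro P
    induction P using MvPolynomial.induction_on with
    | C c => simp [θ, Ψ, Polynomial.algebraMap_apply, MvPolynomial.algebraMap_eq]
    | add p q hp hq => rw [map_add, map_add, hp, hq]
    | mul_X p i hp =>
      rw [map_mul, map_mul, hp]
      congr 1
      fin_cases i <;> simp [θ, Ψ]
  have hΦ : ∀ P, Φ (θ P) = aeval ![g₀, g₁] P := by
    intro P
    induction P using MvPolynomial.induction_on with
    | C c => simp [θ, Φ, Polynomial.algebraMap_apply]
    | add p q hp hq => rw [map_add, map_add, map_add, hp, hq]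
    | mul_X p i hp =>
      rw [map_mul, map_mul, map_mul, hp]
      congr 1
      fin_cases i <;> simp [θ, Φ]
  have hQ : θ P ≠ 0 := fun hQ => hP0 (by rw [← hΨ P, hQ, map_zero])
  obtain ⟨Q, hQ1, hQ2⟩ := Polynomial.exists_eq_pow_rootMultiplicity_mul_and_not_dvd (θ P) hQ 0
  rw [Polynomial.C_0, sub_zero] at hQ1 hQ2
  have hQc : Q.coeff 0 ≠ 0 := fun h1 => hQ2 (Polynomial.X_dvd_iff.2 h1)
  have hΦQ : Φ Q = 0 := by
    have h1 : Φ (θ P) = 0 := by rw [hΦ, hP]
    rw [hQ1, map_mul, map_pow, mul_eq_zero] at h1
    exact h1.resolve_left (pow_ne_zero _ (by simpa [Φ] using h0))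
  obtain ⟨u, hu1, hu2⟩ := Polynomial.exists_eq_pow_rootMultiplicity_mul_and_not_dvd (Q.coeff 0) hQc 0
  rw [Polynomial.C_0, sub_zero] at hu1 hu2
  have hu0 : u.coeff 0 ≠ 0 := fun h1 => hu2 (Polynomial.X_dvd_iff.2 h1)
  have hu : Polynomial.aeval g₁ u ∉ p := by
    intro hup
    obtain ⟨r, hr⟩ : Polynomial.X ∣ u - Polynomial.C (u.coeff 0) := Polynomial.X_dvd_iff.2 (by simp)
    have h2 := congrArg (Polynomial.aeval g₁) hr
    rw [map_sub, map_mul, Polynomial.aeval_C, Polynomial.aeval_X] at h2
    refine hp.1.1.ne_top (p.eq_top_of_isUnit_mem ?_ ((IsUnit.mk0 _ hu0).map (algebraMap k A)))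
    rw [show algebraMap k A (u.coeff 0) = Polynomial.aeval g₁ u - g₁ * Polynomial.aeval g₁ r by rw [← h2]; ring]
    exact p.sub_mem hup (p.mul_mem_right _ hg₁)
  obtain ⟨S, hS⟩ : Polynomial.X ∣ Q - Polynomial.C (Q.coeff 0) := Polynomial.X_dvd_iff.2 (by simp)
  have h3 : Polynomial.aeval g₁ (Q.coeff 0) ∈ q := by
    have h4 := congrArg Φ hS
    rw [map_sub, hΦQ, map_mul, zero_sub] at h4
    have h5 : Φ (Polynomial.C (Q.coeff 0)) = Polynomial.aeval g₁ (Q.coeff 0) := by simp [Φ]
    rw [← h5, ← neg_neg (Φ (Polynomial.C (Q.coeff 0))), h4, show Φ Polynomial.X = g₀ by simp [Φ]]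
    exact q.neg_mem (q.mul_mem_right _ hq₀)
  rw [hu1, map_mul, map_pow, Polynomial.aeval_X] at h3
  exact hq.mem_of_pow_mem _ ((hq.mem_or_mem h3).resolve_right fun h6 => hu (hqp h6))

/-- A codimension two component forces algebraic independence. -/
theorem algebraicIndependent_of_codim_two {A : Type u} [CommRing A] [IsDomain A] [Algebra k A]
    [Algebra.FiniteType k A] (g₀ g₁ : A) (p : Ideal A) (hp : p ∈ (Ideal.span {g₀, g₁}).minimalPrimes)
    (hdim : ringKrullDim (A ⧸ p) + 2 = ringKrullDim A) : AlgebraicIndependent k ![g₀, g₁] := by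
  haveI := hp.1.1
  by_contra h
  obtain ⟨x, hx⟩ := exists_mem_minimalPrimes_span_singleton g₀ g₁ h p hp
  haveI : IsNoetherianRing A := Algebra.FiniteType.isNoetherianRing k A
  have hh : p.height ≤ 1 := Ideal.height_le_one_of_isPrincipal_of_mem_minimalPrimes _ _ hx
  obtain ⟨N, hN, -⟩ := Groth.Agent.VarDim.exists_dim_eq_trdeg k A
  let P : PrimeSpectrum A := ⟨p, inferInstance⟩
  have h1 := Groth.Agent.VarDim.height_add_coheight_eq k N A hN P
  rw [← PrimeSpectrum.height_eq_orderHeight] at h1
  rw [hN, ← Groth.Agent.VarDim.coheight_eq_ringKrullDim_quotient P] at hdim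
  have h2 : Order.coheight P + 2 = (N : ℕ∞) := WithBot.coe_injective (by push_cast; exact hdim)
  obtain ⟨c, hc⟩ : ∃ c : ℕ, Order.coheight P = c := by
    refine WithTop.ne_top_iff_exists.1 (fun htop => ?_) |>.imp fun c hc => hc.symm
    rw [show Order.coheight P = (⊤ : ℕ∞) from htop, top_add] at h2
    exact ENat.coe_ne_top N h2.symm
  obtain ⟨d, hd⟩ : ∃ d : ℕ, P.asIdeal.height = d :=
    (WithTop.ne_top_iff_exists.1 (ne_top_of_le_ne_top ENat.one_ne_top hh)).imp fun d hd => hd.symm
  rw [hd, hc] at h1
  rw [hc] at h2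
  have hd1 : d ≤ 1 := by exact_mod_cast hd ▸ hh
  norm_cast at h1 h2
  omega

/-- A generic linear combination of elements, one of which is transcendental over another, is
independent of that element and the variables. -/
theorem algebraicIndependent_linear {K : Type u} [Field K] [Algebra k K] {n : ℕ} (g : Fin n → K) (i₀ i₁ : Fin n)
    (h : AlgebraicIndependent k ![g i₀, g i₁]) :
    AlgebraicIndependent k (Sum.elim (fun i : Fin n => (X i : MvPolynomial (Fin n) K))
      ![∑ i, C (g i) * X i, C (g i₀)]) := by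
  classical
  have hg0 : AlgebraicIndependent k (fun _ : Unit => g i₀) := h.comp (fun _ => 0) (fun _ _ _ => rfl)
  let x : Fin n ⊕ Unit → MvPolynomial (Fin n) K := Sum.elim X (algebraMap K _ ∘ fun _ : Unit => g i₀)
  have hbase : AlgebraicIndependent k x := AlgebraicIndependent.sumElim_comp hg0 (MvPolynomial.algebraicIndependent_X (Fin n) K)
  let R1 := Algebra.adjoin k (Set.range x)
  let L : MvPolynomial (Fin n) K := ∑ i, C (g i) * X i
  have htr : Transcendental R1 L := by
    intro hL
    let τ : MvPolynomial (Fin n) K →ₐ[K] MvPolynomial (Fin n) K := aeval fun i => if i = i₁ then X i + 1 else X i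
    have hτR1 : ∀ y ∈ R1, τ y ∈ R1 := by
      intro y hy
      induction hy using Algebra.adjoin_induction with
      | mem y hy =>
        obtain ⟨(i | u), rfl⟩ := hy
        · have hX : (X i : MvPolynomial (Fin n) K) ∈ R1 := Algebra.subset_adjoin ⟨Sum.inl i, rfl⟩
          simp only [x, Sum.elim_inl, τ, aeval_X]
          split_ifs
          · exact add_mem hX (one_mem _)
          · exact hX
        · simp only [x, Sum.elim_inr, Function.comp_apply, AlgHom.commutes]
          exact Algebra.subset_adjoin ⟨Sum.inr u, rfl⟩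
      | algebraMap r => rw [IsScalarTower.algebraMap_apply k K, AlgHom.commutes, ← IsScalarTower.algebraMap_apply]; exact R1.algebraMap_mem r
      | add a b _ _ ha hb => rw [map_add]; exact add_mem ha hb
      | mul a b _ _ ha hb => rw [map_mul]; exact mul_mem ha hb
    have hτL : τ L = L + C (g i₁) := by
      simp only [L, map_sum, map_mul, τ, aeval_C, aeval_X, MvPolynomial.algebraMap_eq]
      rw [← Finset.sum_erase_add _ _ (Finset.mem_univ i₁), ← Finset.sum_erase_add (s := Finset.univ) (f := fun i => C (g i) * X i) (a := i₁) (h := Finset.mem_univ i₁),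
        if_pos rfl, mul_add, mul_one, add_assoc]
      congr 1
      exact Finset.sum_congr rfl fun i hi => by rw [if_neg (Finset.ne_of_mem_erase hi)]
    let τ1 : R1 →+* R1 := (τ.toRingHom.comp R1.val.toRingHom).codRestrict R1.toSubring fun y => hτR1 y y.2
    have hτinj : Function.Injective τ := by
      let σ : MvPolynomial (Fin n) K →ₐ[K] MvPolynomial (Fin n) K := aeval fun i => if i = i₁ then X i - 1 else X i
      refine Function.LeftInverse.injective (g := σ) fun y => ?_
      have : σ.comp τ = AlgHom.id K _ := MvPolynomial.algHom_ext fun i => by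
        by_cases hi : i = i₁
        · simp [σ, τ, hi]
        · simp [σ, τ, hi]
      exact AlgHom.congr_fun this y
    have hτalg : IsAlgebraic R1 (τ L) := by
      obtain ⟨Pl, hPl, hPL⟩ := hL
      refine ⟨Pl.map τ1, (Polynomial.map_ne_zero_iff fun a b hab => Subtype.ext (hτinj (congrArg Subtype.val hab))).2 hPl, ?_⟩
      rw [Polynomial.aeval_def] at hPL ⊢
      rw [Polynomial.eval₂_map, show (algebraMap R1 (MvPolynomial (Fin n) K)).comp τ1 =
        τ.toRingHom.comp (algebraMap R1 (MvPolynomial (Fin n) K)) from RingHom.ext fun _ => rfl]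
      show Polynomial.eval₂ _ (τ.toRingHom L) Pl = 0
      rw [← Polynomial.hom_eval₂, hPL, map_zero]
    have hg1 : IsAlgebraic R1 (C (g i₁) : MvPolynomial (Fin n) K) := by
      have := hτalg.sub hL
      rwa [hτL, add_sub_cancel_left] at this
    let S0 := Algebra.adjoin k ({g i₀} : Set K)
    have hcoeff : ∀ y ∈ R1, ∀ d, (y : MvPolynomial (Fin n) K).coeff d ∈ S0 := by
      intro y hy
      induction hy using Algebra.adjoin_induction with
      | mem y hy =>
        intro d
        obtain ⟨(i | u), rfl⟩ := hy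
        · simp only [x, Sum.elim_inl, coeff_X']
          split_ifs
          · exact one_mem _
          · exact zero_mem _
        · simp only [x, Sum.elim_inr, Function.comp_apply, MvPolynomial.algebraMap_eq, coeff_C]
          split_ifs
          · exact Algebra.subset_adjoin rfl
          · exact zero_mem _
      | algebraMap r =>
        intro d
        rw [IsScalarTower.algebraMap_apply k K, MvPolynomial.algebraMap_eq, coeff_C]
        split_ifs
        · exact S0.algebraMap_mem r
        · exact zero_mem _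
      | add a b _ _ ha hb => intro d; rw [coeff_add]; exact add_mem (ha d) (hb d)
      | mul a b _ _ ha hb => intro d; rw [coeff_mul]; exact sum_mem fun z _ => mul_mem (ha _) (hb _)
    obtain ⟨Pl, hPl, hPg⟩ := hg1
    obtain ⟨j, hj⟩ : ∃ j, Pl.coeff j ≠ 0 := by
      by_contra hno
      push Not at hno
      exact hPl (Polynomial.ext fun j => by simp [hno j])
    obtain ⟨d, hd⟩ : ∃ d, (Pl.coeff j : MvPolynomial (Fin n) K).coeff d ≠ 0 := by
      by_contra hno
      push Not at hno
      exact hj (Subtype.ext (MvPolynomial.ext _ _ fun d => by simp [hno d]))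
    let Pd : Polynomial S0 := ∑ i ∈ Finset.range (Pl.natDegree + 1),
      Polynomial.monomial i (⟨(Pl.coeff i : MvPolynomial (Fin n) K).coeff d, hcoeff _ (Pl.coeff i).2 d⟩ : S0)
    have htr1 : Transcendental S0 (g i₁) := by
      have h1 := h.transcendental_adjoin (s := {0}) (i := 1) (by simp)
      rwa [Set.image_singleton] at h1
    refine htr1 ⟨Pd, fun h0 => hd ?_, ?_⟩
    · have h1 := congrArg (fun R : Polynomial S0 => ((R.coeff j : S0) : K)) h0
      simp only [Pd, Polynomial.finset_sum_coeff, Polynomial.coeff_monomial, Finset.sum_ite_eq'] at h1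
      rw [if_pos (Finset.mem_range.2 (Nat.lt_succ_of_le (Polynomial.le_natDegree_of_ne_zero hj)))] at h1
      simpa using h1
    · have h1 := congrArg (fun R : MvPolynomial (Fin n) K => R.coeff d) hPg
      simp only [Polynomial.aeval_eq_sum_range, coeff_sum, coeff_zero] at h1
      simp only [Pd, map_sum, Polynomial.aeval_monomial]
      refine Eq.trans (Finset.sum_congr rfl fun i _ => ?_) h1
      rw [Algebra.smul_def]
      show (Pl.coeff i : MvPolynomial (Fin n) K).coeff d * g i₁ ^ i = coeff d ((Pl.coeff i : MvPolynomial (Fin n) K) * C (g i₁) ^ i)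
      rw [← map_pow, mul_comm _ (C _), coeff_C_mul, mul_comm]
  have hopt : AlgebraicIndependent k (fun o : Option (Fin n ⊕ Unit) => o.elim L x) :=
    (hbase.option_iff_transcendental L).2 htr
  refine (algebraicIndependent_equiv' (R := k)
    (⟨Sum.elim (fun i => some (Sum.inl i)) ![none, some (Sum.inr ())],
      fun o => o.elim (Sum.inr 0) (Sum.elim Sum.inl fun _ => Sum.inr 1),
      fun y => by rcases y with i | j; · rfl
                  fin_cases j <;> rfl,
      fun o => by rcases o with _ | (i | u) <;> rfl⟩ : Fin n ⊕ Fin 2 ≃ Option (Fin n ⊕ Unit)) ?_).2 hopt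
  funext y
  rcases y with i | j
  · rfl
  · fin_cases j <;> rfl

end Groth.Agent.RatFuncIndep
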