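import Mathlib
import Groth.Prelude.Def_Found
import Groth.Agent.MorLib.RingUnivHomeo

/-!
# Stabilisation of reduced base changes of finite subalgebras
-/

universe u
set_option autoImplicit false

open TensorProduct

namespace Groth.Agent.RedStable

/-- The images of a family of integral elements in the fraction field of a domain all lie in a finite
module over an N-2 base. -/
theorem exists_fg_of_isN2 {B L : Type u} [CommRing B] [IsNoetherianRing B] [Field L] (f : B →+* L)
    (hN2 : haveI := RingHom.ker_isPrime f; CAlg.IsN2 (B ⧸ RingHom.ker f)) {n : ℕ} (e : Fin n → L)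
    (he : ∀ i, f.IsIntegralElem (e i)) :
    ∃ M : Set L, (∀ x : L, f.IsIntegralElem x →
        (∃ (v : Fin n → B) (s : B), f s ≠ 0 ∧ f s * x = ∑ i, f (v i) * e i) → x ∈ M) ∧
      ∃ (m : ℕ) (g : Fin m → L), ∀ x ∈ M, ∃ w : Fin m → B, x = ∑ j, f (w j) * g j := by
  classical
  haveI := RingHom.ker_isPrime f
  let q := RingHom.ker f
  let Kq := FractionRing (B ⧸ q)
  let f' : B ⧸ q →+* L := RingHom.kerLift f
  have hf' : Function.Injective f' := RingHom.kerLift_injective f
  letI : Algebra (B ⧸ q) L := f'.toAlgebra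
  letI : Algebra Kq L := (IsFractionRing.lift (K := Kq) hf').toAlgebra
  haveI : IsScalarTower (B ⧸ q) Kq L :=
    IsScalarTower.of_algebraMap_eq fun x => (IsFractionRing.lift_algebraMap hf' x).symm
  have hint : ∀ x : L, f.IsIntegralElem x → IsIntegral (B ⧸ q) x := by
    rintro x ⟨P, hP, hPx⟩
    refine ⟨P.map (Ideal.Quotient.mk q), hP.map _, ?_⟩
    rw [Polynomial.eval₂_map]
    exact hPx
  let L0 := IntermediateField.adjoin Kq (Set.range e)
  haveI : FiniteDimensional Kq L0 :=
    IntermediateField.finiteDimensional_adjoin (by rintro _ ⟨i, rfl⟩; exact (hint _ (he i)).tower_top)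
  haveI : Module.Finite (B ⧸ q) (integralClosure (B ⧸ q) L0) := hN2 L0 inferInstance
  obtain ⟨m, g, hg⟩ := Module.Finite.exists_fin (R := B ⧸ q) (M := integralClosure (B ⧸ q) L0)
  refine ⟨(fun y : integralClosure (B ⧸ q) L0 => ((y : L0) : L)) '' Set.univ, fun x hx hxv => ?_,
    m, fun j => ((g j : L0) : L), ?_⟩
  · obtain ⟨v, s, hs, hsx⟩ := hxv
    have hmem : ∀ b : B, f b ∈ L0 := fun b => by
      have : f b = algebraMap Kq L (algebraMap (B ⧸ q) Kq (Ideal.Quotient.mk q b)) := by
        rw [← IsScalarTower.algebraMap_apply (B ⧸ q) Kq L]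
        rfl
      rw [this]
      exact L0.algebraMap_mem _
    have hxL0 : x ∈ L0 := by
      have h1 : x = (f s)⁻¹ * ∑ i, f (v i) * e i := by rw [← hsx, inv_mul_cancel_left₀ hs]
      rw [h1]
      exact mul_mem (inv_mem (hmem s)) (sum_mem fun i _ => mul_mem (hmem _) (IntermediateField.subset_adjoin _ _ ⟨i, rfl⟩))
    have hxi : IsIntegral (B ⧸ q) (⟨x, hxL0⟩ : L0) :=
      (isIntegral_algHom_iff (L0.val.restrictScalars (B ⧸ q)) L0.val.injective).1 (hint x hx)
    exact ⟨⟨_, hxi⟩, trivial, rfl⟩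
  · rintro _ ⟨y, -, rfl⟩
    obtain ⟨w, hw⟩ := (Submodule.mem_span_range_iff_exists_fun _).1 (hg.ge (Submodule.mem_top : y ∈ ⊤))
    choose w' hw' using fun j => Ideal.Quotient.mk_surjective (w j)
    refine ⟨w', ?_⟩
    have h2 := congrArg (fun z : integralClosure (B ⧸ q) L0 => ((z : L0) : L)) hw
    simp only [AddSubmonoidClass.coe_finsetSum, SetLike.val_smul] at h2
    show ((y : L0) : L) = _
    rw [← h2]
    refine Finset.sum_congr rfl fun j _ => ?_
    rw [IntermediateField.coe_smul, Algebra.smul_def, ← hw' j]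
    rfl

variable {A B K' : Type u} [CommRing A] [IsDomain A] [CommRing B] [Algebra A B] [IsNoetherianRing B]
  [Module.Flat A B] [Field K'] [Algebra A K'] [Algebra (FractionRing A) K'] [IsScalarTower A (FractionRing A) K']
  [FiniteDimensional (FractionRing A) K']

/-- A subalgebra of `K'` which is finite and has fraction field `K'`. -/
def Big (C : Subalgebra A K') : Prop := Module.Finite A C ∧ ∀ x : K', ∃ a b : C, (b : K') ≠ 0 ∧ x * b = a

theorem algebraMap_injective : Function.Injective (algebraMap A K') := by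
  rw [IsScalarTower.algebraMap_eq A (FractionRing A) K']
  exact (algebraMap (FractionRing A) K').injective.comp (IsFractionRing.injective A _)

omit [IsNoetherianRing B] [Module.Flat A B] in
theorem exists_integral_frame :
    ∃ (n : ℕ) (e : Fin n → K'), (∀ i, IsIntegral A (e i)) ∧
      ∀ x : K', ∃ (v : Fin n → A) (s : A), s ≠ 0 ∧ algebraMap A K' s * x = ∑ i, algebraMap A K' (v i) * e i := by
  classical
  let b := Module.finBasis (FractionRing A) K'
  haveI : Algebra.IsAlgebraic A K' :=
    (IsFractionRing.comap_isAlgebraic_iff (A := A) (K := FractionRing A) (C := K')).2 inferInstance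
  obtain ⟨t, ht, hint⟩ := Algebra.IsAlgebraic.exists_integral_multiples A (Finset.univ.image b)
  refine ⟨_, fun i => t • b i, fun i => hint _ (Finset.mem_image_of_mem b (Finset.mem_univ i)), fun x => ?_⟩
  obtain ⟨s, hs⟩ := IsLocalization.exist_integer_multiples_of_finite (nonZeroDivisors A) (fun i => b.repr x i)
  choose v hv using hs
  refine ⟨v, t * s, mul_ne_zero ht (nonZeroDivisors.ne_zero s.2), ?_⟩
  conv_lhs => rw [← b.sum_repr x, Finset.mul_sum]
  refine Finset.sum_congr rfl fun i _ => ?_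
  have h1 : algebraMap A K' (v i) = algebraMap A K' (s : A) * algebraMap (FractionRing A) K' (b.repr x i) := by
    rw [IsScalarTower.algebraMap_apply A (FractionRing A) K' (v i), hv i, Algebra.smul_def, map_mul,
      ← IsScalarTower.algebraMap_apply]
  rw [h1]
  simp only [Algebra.smul_def, map_mul]
  ring

omit [IsNoetherianRing B] [Module.Flat A B] in
theorem exists_big : ∃ C : Subalgebra A K', Big C := by
  classical
  obtain ⟨n, e, he, hspan⟩ := exists_integral_frame (A := A) (K' := K')
  let C := Algebra.adjoin A (Set.range e)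
  refine ⟨C, Algebra.finite_adjoin_of_finite_of_isIntegral (Set.finite_range e) (by rintro _ ⟨i, rfl⟩; exact he i), fun x => ?_⟩
  obtain ⟨v, s, hs, hsx⟩ := hspan x
  refine ⟨⟨∑ i, algebraMap A K' (v i) * e i,
    sum_mem fun i _ => mul_mem (C.algebraMap_mem _) (Algebra.subset_adjoin ⟨i, rfl⟩)⟩,
    algebraMap A C s, fun h => hs (algebraMap_injective (h.trans (map_zero _).symm)), ?_⟩
  rw [mul_comm]
  exact hsx

omit [IsNoetherianRing B] in
theorem map_val_injective (C : Subalgebra A K') :
    Function.Injective (Algebra.TensorProduct.map C.val (AlgHom.id A B)) :=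
  Module.Flat.rTensor_preserves_injective_linearMap (M := B) C.val.toLinearMap Subtype.val_injective

omit [IsDomain A] [IsNoetherianRing B] [Module.Flat A B] [Algebra (FractionRing A) K']
  [IsScalarTower A (FractionRing A) K'] [FiniteDimensional (FractionRing A) K'] in
theorem map_val_tmul (C : Subalgebra A K') (c : C) (b : B) :
    Algebra.TensorProduct.map C.val (AlgHom.id A B) (c ⊗ₜ b) = (c : K') ⊗ₜ b := rfl

omit [IsDomain A] [IsNoetherianRing B] [Module.Flat A B] [Algebra (FractionRing A) K']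
  [IsScalarTower A (FractionRing A) K'] [FiniteDimensional (FractionRing A) K'] in
theorem map_val_inclusion {C C' : Subalgebra A K'} (hle : C ≤ C') (x : ↥C ⊗[A] B) :
    Algebra.TensorProduct.map C'.val (AlgHom.id A B) (Algebra.TensorProduct.map (Subalgebra.inclusion hle) (AlgHom.id A B) x) =
      Algebra.TensorProduct.map C.val (AlgHom.id A B) x := by
  induction x using TensorProduct.induction_on with
  | zero => simp
  | tmul c b => rfl
  | add x y hx hy => simp only [map_add, hx, hy]

/-- Minimal primes of the base change lie over minimal primes. -/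
theorem comap_mem_minimalPrimes (Q : Ideal (K' ⊗[A] B)) (hQ : Q ∈ minimalPrimes (K' ⊗[A] B)) :
    Q.comap (Algebra.TensorProduct.includeRight : B →ₐ[A] K' ⊗[A] B) ∈ minimalPrimes B := by
  haveI : Q.IsPrime := hQ.1.1
  letI : Algebra B (K' ⊗[A] B) := Algebra.TensorProduct.rightAlgebra
  haveI : Module.Flat A K' := Module.Flat.trans A (FractionRing A) K'
  haveI : Module.Flat B (K' ⊗[A] B) := Module.Flat.of_linearEquiv
    (Algebra.TensorProduct.commRight A B K').toLinearEquiv.symm
  refine ⟨⟨Ideal.IsPrime.comap _, bot_le⟩, fun p ⟨hp, _⟩ hle => ?_⟩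
  haveI : p.IsPrime := hp
  haveI : Algebra.HasGoingDown B (K' ⊗[A] B) := inferInstance
  obtain ⟨P, hPle, hP, hPp⟩ := Ideal.exists_ideal_le_liesOver_of_le (S := K' ⊗[A] B) (p := p)
    (q := Q.comap (algebraMap B (K' ⊗[A] B))) Q hle
  have hPQ : Q ≤ P := hQ.2 ⟨hP, bot_le⟩ hPle
  intro x hx
  have h1 : algebraMap B (K' ⊗[A] B) x ∈ P := hPQ hx
  rw [hPp.over]
  exact h1

/-- Reduced base changes of the finite subalgebras with full fraction field stabilise. -/
theorem exists_stable (hJ : ∀ (q : Ideal B) [q.IsPrime], q ∈ minimalPrimes B → CAlg.IsN2 (B ⧸ q)) :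
    ∃ Cα : Subalgebra A K', Big Cα ∧
      (∀ C : Subalgebra A K', Big C → ∀ hle : Cα ≤ C,
        (∀ x : ↥Cα ⊗[A] B, IsNilpotent (Algebra.TensorProduct.map (Subalgebra.inclusion hle) (AlgHom.id A B) x) →
          IsNilpotent x) ∧
        (∀ y : ↥C ⊗[A] B, ∃ x : ↥Cα ⊗[A] B,
          IsNilpotent (Algebra.TensorProduct.map (Subalgebra.inclusion hle) (AlgHom.id A B) x - y))) := by
  classical
  let T := K' ⊗[A] B
  letI : Algebra B T := Algebra.TensorProduct.rightAlgebra
  haveI : Algebra.EssFiniteType (FractionRing A) K' := inferInstance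
  haveI : Algebra.EssFiniteType A (FractionRing A) :=
    Algebra.EssFiniteType.of_isLocalization (FractionRing A) (nonZeroDivisors A)
  haveI : Algebra.EssFiniteType A K' := Algebra.EssFiniteType.comp A (FractionRing A) K'
  haveI : Algebra.EssFiniteType B (B ⊗[A] K') := inferInstance
  haveI : IsNoetherianRing (B ⊗[A] K') := Algebra.EssFiniteType.isNoetherianRing B _
  haveI : IsNoetherianRing T := isNoetherianRing_of_ringEquiv _ (Algebra.TensorProduct.comm A B K').toRingEquiv
  haveI : Finite (minimalPrimes T) := Set.finite_coe_iff.2 (minimalPrimes.finite_of_isNoetherianRing T)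
  haveI hpr : ∀ Q : minimalPrimes T, Q.1.IsPrime := fun Q => Q.2.1.1
  let L := fun Q : minimalPrimes T => FractionRing (T ⧸ Q.1)
  let ev : ∀ Q : minimalPrimes T, T →+* L Q := fun Q =>
    (algebraMap (T ⧸ Q.1) (FractionRing (T ⧸ Q.1))).comp (Ideal.Quotient.mk Q.1)
  let Φ : T →+* (∀ Q : minimalPrimes T, L Q) := Pi.ringHom ev
  let fB : B →+* T := (Algebra.TensorProduct.includeRight : B →ₐ[A] T).toRingHom
  let fK : K' →+* T := (Algebra.TensorProduct.includeLeft : K' →ₐ[A] T).toRingHom
  have hA : ∀ a : A, fB (algebraMap A B a) = fK (algebraMap A K' a) := fun a => by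
    simp [fB, fK]
  have hnil : ∀ z : T, IsNilpotent z ↔ Φ z = 0 := by
    intro z
    have h1 : ∀ Q : minimalPrimes T, ev Q z = 0 ↔ z ∈ Q.1 := fun Q => by
      show algebraMap (T ⧸ Q.1) (FractionRing (T ⧸ Q.1)) (Ideal.Quotient.mk Q.1 z) = 0 ↔ _
      rw [map_eq_zero_iff _ (IsFractionRing.injective (T ⧸ Q.1) _), Ideal.Quotient.eq_zero_iff_mem]
    rw [funext_iff]
    constructor
    · exact fun hz Q => (h1 Q).2 ((hz.map (Ideal.Quotient.mk Q.1)).eq_zero |> Ideal.Quotient.eq_zero_iff_mem.1)
    · intro hz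
      rw [← mem_nilradical, nilradical, ← Ideal.sInf_minimalPrimes, Ideal.mem_sInf]
      exact fun Q hQ => (h1 ⟨Q, hQ⟩).1 (hz ⟨Q, hQ⟩)
  obtain ⟨n, e, he, hspan⟩ := exists_integral_frame (A := A) (K' := K')
  have hintT : ∀ x : K', IsIntegral A x → fB.IsIntegralElem (fK x) := by
    rintro x ⟨P, hP, hPx⟩
    refine ⟨P.map (algebraMap A B), hP.map _, ?_⟩
    rw [Polynomial.eval₂_map, show fB.comp (algebraMap A B) = fK.comp (algebraMap A K') from RingHom.ext hA,
      ← Polynomial.hom_eval₂, hPx, map_zero]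
  have hQ : ∀ Q : minimalPrimes T, ∃ M : Set (L Q),
      (∀ x : K', IsIntegral A x → ev Q (fK x) ∈ M) ∧
      ∃ (m : ℕ) (g : Fin m → L Q), ∀ x ∈ M, ∃ w : Fin m → B, x = ∑ j, ev Q (fB (w j)) * g j := by
    intro Q
    let f := (ev Q).comp fB
    have hker : RingHom.ker f = Q.1.comap fB := by
      ext b
      rw [RingHom.mem_ker, Ideal.mem_comap]
      show algebraMap (T ⧸ Q.1) (FractionRing (T ⧸ Q.1)) (Ideal.Quotient.mk Q.1 (fB b)) = 0 ↔ _
      rw [map_eq_zero_iff _ (IsFractionRing.injective (T ⧸ Q.1) _), Ideal.Quotient.eq_zero_iff_mem]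
    haveI := RingHom.ker_isPrime f
    have hN2 : CAlg.IsN2 (B ⧸ RingHom.ker f) :=
      hJ _ (hker.symm ▸ comap_mem_minimalPrimes Q.1 Q.2)
    obtain ⟨M, hM, m, g, hg⟩ := exists_fg_of_isN2 f hN2 (fun i => ev Q (fK (e i))) fun i => by
      obtain ⟨P, hP, hPx⟩ := hintT _ (he i)
      exact ⟨P, hP, by rw [← Polynomial.hom_eval₂, hPx, map_zero]⟩
    refine ⟨M, fun x hx => hM _ ?_ ?_, m, g, hg⟩
    · obtain ⟨P, hP, hPx⟩ := hintT _ hx
      exact ⟨P, hP, by rw [← Polynomial.hom_eval₂, hPx, map_zero]⟩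
    · obtain ⟨v, s, hs, hsx⟩ := hspan x
      refine ⟨fun i => algebraMap A B (v i), algebraMap A B s, ?_, ?_⟩
      · show ev Q (fB (algebraMap A B s)) ≠ 0
        rw [hA]
        exact (((IsUnit.mk0 _ fun h0 => hs (algebraMap_injective (h0.trans (map_zero _).symm))).map fK).map (ev Q)).ne_zero
      · show ev Q (fB (algebraMap A B s)) * ev Q (fK x) = ∑ i, ev Q (fB (algebraMap A B (v i))) * ev Q (fK (e i))
        simp only [hA, ← map_mul, ← map_sum, hsx]
  choose M hM m g hg using hQ
  have halg : ∀ b : B, algebraMap B (∀ Q : minimalPrimes T, L Q) b = Φ (fB b) := fun b => rfl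
  let G : Submodule B (∀ Q : minimalPrimes T, L Q) :=
    Submodule.span B (Set.range fun x : Σ Q : minimalPrimes T, Fin (m Q) => Pi.single x.1 (g x.1 x.2))
  have hG : ∀ x : K', IsIntegral A x → Φ (fK x) ∈ G := by
    intro x hx
    haveI : Fintype (minimalPrimes T) := Fintype.ofFinite _
    choose w hw using fun Q => hg Q _ (hM Q x hx)
    have h1 : Φ (fK x) = ∑ Q, ∑ j, w Q j • (Pi.single Q (g Q j) : ∀ Q : minimalPrimes T, L Q) := by
      funext Q'
      rw [Finset.sum_apply, Finset.sum_eq_single Q' (fun Q _ hne => by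
        rw [Finset.sum_apply]
        refine Finset.sum_eq_zero fun j _ => ?_
        rw [Pi.smul_apply, Pi.single_eq_of_ne (Ne.symm hne), smul_zero]) (by simp), Finset.sum_apply]
      show ev Q' (fK x) = _
      rw [hw Q']
      refine Finset.sum_congr rfl fun j _ => ?_
      rw [Pi.smul_apply, Pi.single_eq_same, Algebra.smul_def]
      rfl
    rw [h1]
    exact Submodule.sum_mem _ fun Q _ => Submodule.sum_mem _ fun j _ =>
      Submodule.smul_mem _ _ (Submodule.subset_span ⟨⟨Q, j⟩, rfl⟩)
  haveI : Module.Finite B G := Module.Finite.span_of_finite B (Set.finite_range _)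
  let N : Subalgebra A K' → Submodule B (∀ Q : minimalPrimes T, L Q) := fun C =>
    Submodule.span B ((fun c : K' => Φ (fK c)) '' (C : Set K'))
  have hNG : ∀ C, Big C → N C ≤ G := fun C hC => Submodule.span_le.2 (by
    rintro _ ⟨c, hc, rfl⟩
    haveI := hC.1
    exact hG c (IsIntegral.map C.val (Algebra.IsIntegral.isIntegral (⟨c, hc⟩ : C))))
  obtain ⟨C₀, hC₀⟩ := exists_big (A := A) (K' := K')
  obtain ⟨_, ⟨Cα, hCα, rfl⟩, hmax⟩ := set_has_maximal_iff_noetherian.2 (inferInstance : IsNoetherian B G)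
    ((fun C => (N C).comap G.subtype) '' {C : Subalgebra A K' | Big C}) ⟨_, C₀, hC₀, rfl⟩
  refine ⟨Cα, hCα, fun C hC hle => ?_⟩
  let μ : ∀ C : Subalgebra A K', ↥C ⊗[A] B →ₐ[A] T := fun C => Algebra.TensorProduct.map C.val (AlgHom.id A B)
  have hcomp : ∀ x, μ C (Algebra.TensorProduct.map (Subalgebra.inclusion hle) (AlgHom.id A B) x) = μ Cα x :=
    map_val_inclusion hle
  have hmem : ∀ (C : Subalgebra A K') (y : ↥C ⊗[A] B), Φ (μ C y) ∈ N C := by
    intro C y
    induction y using TensorProduct.induction_on with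
    | zero => rw [map_zero, map_zero]; exact zero_mem _
    | tmul c b =>
      have h1 : Φ (μ C (c ⊗ₜ b)) = b • Φ (fK (c : K')) := by
        funext Q
        rw [Pi.smul_apply, Algebra.smul_def]
        show ev Q (μ C (c ⊗ₜ b)) = ev Q (fB b) * ev Q (fK (c : K'))
        rw [← map_mul]
        congr 1
        show (c : K') ⊗ₜ[A] b = ((1 : K') ⊗ₜ[A] b) * ((c : K') ⊗ₜ[A] (1 : B))
        rw [Algebra.TensorProduct.tmul_mul_tmul, one_mul, mul_one]
      rw [h1]
      exact Submodule.smul_mem _ _ (Submodule.subset_span ⟨c, c.2, rfl⟩)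
    | add x y hx hy => rw [map_add, map_add]; exact add_mem hx hy
  refine ⟨fun x hx => ?_, fun y => ?_⟩
  · rw [← IsNilpotent.map_iff (map_val_injective (B := B) Cα)]
    have h1 := hx.map (μ C)
    rw [hcomp] at h1
    exact h1
  · have heq : N C ≤ N Cα := by
      intro z hz
      by_contra hzα
      refine hmax _ ⟨C, hC, rfl⟩ (lt_of_le_of_ne (Submodule.comap_mono (Submodule.span_mono (Set.image_mono hle))) ?_)
      intro h
      exact hzα ((SetLike.ext_iff.1 h ⟨z, hNG C hC hz⟩).2 hz)
    have h1 : ∀ z ∈ N Cα, ∃ x, Φ (μ Cα x) = z := by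
      intro z hz
      induction hz using Submodule.span_induction with
      | mem z hz =>
        obtain ⟨c, hc, rfl⟩ := hz
        exact ⟨(⟨c, hc⟩ : Cα) ⊗ₜ 1, congrArg Φ (map_val_tmul Cα ⟨c, hc⟩ 1)⟩
      | zero => exact ⟨0, by rw [map_zero, map_zero]⟩
      | add z w _ _ hz hw =>
        obtain ⟨x, rfl⟩ := hz
        obtain ⟨y, rfl⟩ := hw
        exact ⟨x + y, by rw [map_add, map_add]⟩
      | smul b z _ hz =>
        obtain ⟨x, rfl⟩ := hz
        refine ⟨(1 : Cα) ⊗ₜ b * x, ?_⟩
        rw [map_mul, map_mul, Algebra.smul_def, halg]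
        rfl
    obtain ⟨x, hx⟩ := h1 _ (heq (hmem C y))
    refine ⟨x, (IsNilpotent.map_iff (map_val_injective (B := B) C)).1 ?_⟩
    show IsNilpotent (μ C (_ - y))
    rw [map_sub, hcomp, hnil, map_sub, hx, sub_self]

/-- Stabilised reduced base changes give radicial maps when the base change is faithfully flat. -/
theorem radicial_of_stable [Module.FaithfullyFlat A B] (Cα : Subalgebra A K') (hCα : Big Cα)
    (hst : ∀ C : Subalgebra A K', Big C → ∀ hle : Cα ≤ C, ∀ y : ↥C ⊗[A] B, ∃ x : ↥Cα ⊗[A] B,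
      IsNilpotent (Algebra.TensorProduct.map (Subalgebra.inclusion hle) (AlgHom.id A B) x - y))
    (hint : Cα ≤ integralClosure A K') :
    MorLib.RUH.Radicial (Subalgebra.inclusion hint).toRingHom := by
  classical
  intro k _ f g hfg
  refine RingHom.ext fun c => ?_
  letI : Algebra A k := (f.comp (algebraMap A (integralClosure A K'))).toAlgebra
  let C : Subalgebra A K' := Algebra.adjoin A ((Cα : Set K') ∪ {(c : K')})
  have hleC : Cα ≤ C := fun x hx => Algebra.subset_adjoin (Or.inl hx)
  have hcC : (c : K') ∈ C := Algebra.subset_adjoin (Or.inr rfl)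
  have hCint : C ≤ integralClosure A K' :=
    Algebra.adjoin_le (Set.union_subset hint (Set.singleton_subset_iff.2 c.2))
  haveI := hCα.1
  have hCfin : Module.Finite A C := by
    refine (Module.Finite.iff_fg (N := Subalgebra.toSubmodule C)).2 ?_
    rw [Algebra.adjoin_union_coe_submodule]
    refine Submodule.FG.mul ?_ (IsIntegral.fg_adjoin_singleton c.2)
    rw [Algebra.adjoin_eq]
    exact (Module.Finite.iff_fg (N := Subalgebra.toSubmodule Cα)).1 hCα.1
  have hC : Big C := ⟨hCfin, fun x => by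
    obtain ⟨a, b, hb, hab⟩ := hCα.2 x
    exact ⟨⟨a, hleC a.2⟩, ⟨b, hleC b.2⟩, hb, hab⟩⟩
  let f₁ : ↥C →ₐ[A] k :=
    { f.comp (Subalgebra.inclusion hCint).toRingHom with commutes' := fun a => rfl }
  have hga : ∀ a : A, g (algebraMap A (integralClosure A K') a) = f (algebraMap A (integralClosure A K') a) := fun a =>
    (RingHom.congr_fun hfg (algebraMap A Cα a)).symm
  let g₁ : ↥C →ₐ[A] k :=
    { g.comp (Subalgebra.inclusion hCint).toRingHom with commutes' := fun a => hga a }
  let F := Algebra.TensorProduct.map f₁ (AlgHom.id A B)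
  let G := Algebra.TensorProduct.map g₁ (AlgHom.id A B)
  obtain ⟨x, hx⟩ := hst C hC hleC ((⟨c, hcC⟩ : C) ⊗ₜ 1)
  have hFG : ∀ x, F (Algebra.TensorProduct.map (Subalgebra.inclusion hleC) (AlgHom.id A B) x) =
      G (Algebra.TensorProduct.map (Subalgebra.inclusion hleC) (AlgHom.id A B) x) := by
    intro x
    induction x using TensorProduct.induction_on with
    | zero => simp
    | tmul a b =>
      simp only [F, G, Algebra.TensorProduct.map_tmul]
      congr 1
      exact RingHom.congr_fun hfg a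
    | add x y hx hy => simp only [map_add, hx, hy]
  have h1 : IsNilpotent ((f c - g c) ⊗ₜ[A] (1 : B)) := by
    have h2 := (hx.map G)
    have h3 := (hx.map F)
    rw [map_sub, ← hFG] at h2
    rw [map_sub] at h3
    have h4 := (Commute.all _ _).isNilpotent_sub h2 h3
    simp only [sub_sub_sub_cancel_left] at h4
    simpa [F, G, f₁, g₁, TensorProduct.sub_tmul] using h4
  haveI : Nontrivial (k ⊗[A] B) := inferInstance
  have h5 : IsNilpotent (f c - g c) := (IsNilpotent.map_iff (f := (Algebra.TensorProduct.includeLeft : k →ₐ[A] k ⊗[A] B))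
    (RingHom.injective (Algebra.TensorProduct.includeLeft : k →ₐ[A] k ⊗[A] B).toRingHom)).1 h1
  exact sub_eq_zero.1 h5.eq_zero

end Groth.Agent.RedStable
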