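import Groth.Agent.CAlgOdd.ReflexiveCore
import Groth.Agent.LC.GorLoc

/-!
# Reflexive modules over Noetherian domains (with local cohomology)

The results are in `Groth.Agent.CAlgOdd.ReflexiveCore`.
-/
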