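import Groth.Agent.CAlgMisc.TorsionFree
import Groth.Agent.Alg6.AssDepth
import Groth.Agent.Hensel.DepthFlat

/-!
# Reflexive modules over Noetherian domains
-/

set_option linter.style.haveILetI false

universe u

open TensorProduct

namespace Groth.Agent.CAlgOdd.Refl

variable {R : Type u} [CommRing R] [IsDomain R]
variable {M M' M'' : Type u} [AddCommGroup M] [Module R M] [AddCommGroup M'] [Module R M']
  [AddCommGroup M''] [Module R M'']

theorem isTorsionFree_of_injective [Module.IsTorsionFree R M'] (f : M →ₗ[R] M') (hf : Function.Injective f) :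
    Module.IsTorsionFree R M :=
  Module.isTorsionFree_iff_smul_eq_zero.2 fun c x h => by
    have h' : c • f x = 0 := by rw [← map_smul, h, map_zero]
    exact (smul_eq_zero.1 h').imp id fun hx => hf (hx.trans f.map_zero.symm)

theorem eval_injective [Module.Finite R M] [Module.IsTorsionFree R M] :
    Function.Injective (Module.Dual.eval R M) := by
  obtain ⟨n, f, hf⟩ := Groth.Agent.CAlgMisc.exists_injective_free R M
  rw [injective_iff_map_eq_zero]
  intro x hx
  refine hf ?_
  rw [map_zero]
  funext i
  exact LinearMap.congr_fun hx (LinearMap.proj i ∘ₗ f)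

/-- Some nonzero scalar moves a functional on the dual into the image of evaluation. -/
theorem exists_smul_mem_range [Module.Finite R M] (y : Module.Dual R (Module.Dual R M)) :
    ∃ (c : R) (x : M), c ≠ 0 ∧ Module.Dual.eval R M x = c • y := by
  classical
  obtain ⟨n, β, α, c, d, hc, hd, h⟩ := Groth.Agent.CAlgMisc.exists_approx R M
  let r : Fin n → R := fun i => y (LinearMap.proj i ∘ₗ β)
  refine ⟨d * c, d • α r, mul_ne_zero hd hc, ?_⟩
  ext φ
  have hφ : ∀ m, φ (α (β m)) = c * φ m := by
    intro m
    have := congrArg φ (h m)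
    rw [map_smul, map_zero, map_sub, map_smul, smul_eq_mul, smul_eq_mul, mul_eq_zero] at this
    exact sub_eq_zero.mp (this.resolve_left hd)
  let w : Fin n → R := fun i => φ (α (Pi.single i 1))
  have hα : ∀ v : Fin n → R, φ (α v) = ∑ i, v i * w i := by
    intro v
    conv_lhs => rw [← Finset.univ_sum_single v]
    simp only [map_sum]
    refine Finset.sum_congr rfl fun i _ => ?_
    rw [show (Pi.single i (v i) : Fin n → R) = v i • Pi.single i 1 by
      rw [← Pi.single_smul', smul_eq_mul, mul_one], map_smul, map_smul, smul_eq_mul]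
  have hcomp : c • φ = ∑ i, w i • (LinearMap.proj i ∘ₗ β) := by
    ext m
    rw [LinearMap.smul_apply, smul_eq_mul, ← hφ, hα]
    simp [mul_comm]
  show φ (d • α r) = (d * c) • y φ
  rw [map_smul, hα, mul_smul]
  congr 1
  rw [← map_smul y c φ, hcomp, map_sum]
  simp [r, mul_comm]

/-- A kernel of a map from a reflexive module to a torsion free one is reflexive. -/
theorem isReflexive_of_exact [Module.Finite R M] (f : M →ₗ[R] M') (g : M' →ₗ[R] M'')
    (hf : Function.Injective f) (hfg : Function.Exact f g) [Module.IsReflexive R M']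
    [Module.IsTorsionFree R M''] : Module.IsReflexive R M := by
  haveI := isTorsionFree_of_injective f hf
  refine ⟨eval_injective, fun y => ?_⟩
  obtain ⟨c, x, hc, hx⟩ := exists_smul_mem_range y
  obtain ⟨m', hm'⟩ := (Module.bijective_dual_eval R M').2 (f.dualMap.dualMap y)
  have h1 : c • m' = f x := by
    apply (Module.bijective_dual_eval R M').1
    rw [map_smul, hm', ← map_smul, ← hx]
    rfl
  have h2 : g m' = 0 :=
    (smul_eq_zero.1 (show c • g m' = 0 by rw [← map_smul, h1]; exact hfg.apply_apply_eq_zero x)).resolve_left hc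
  obtain ⟨m, rfl⟩ := (hfg m').1 h2
  refine ⟨m, LinearMap.ext fun φ => mul_left_cancel₀ hc ?_⟩
  have hxm : x = c • m := hf (by rw [map_smul, h1])
  show c * φ m = c * y φ
  have := LinearMap.congr_fun hx φ
  rw [Module.Dual.eval_apply, hxm, map_smul, smul_eq_mul, LinearMap.smul_apply, smul_eq_mul] at this
  exact this

variable [IsNoetherianRing R]

/-- A finite module that is a kernel of a map of finite free modules is reflexive. -/
theorem isReflexive_of_exact_free [Module.Finite R M] {n m : ℕ} (f : M →ₗ[R] (Fin n → R))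
    (g : (Fin n → R) →ₗ[R] (Fin m → R)) (hf : Function.Injective f) (hfg : Function.Exact f g) :
    Module.IsReflexive R M :=
  isReflexive_of_exact f g hf hfg

/-- The dual of a finite module is the kernel of a map of finite free modules. -/
theorem exists_exact_dual (X : Type u) [AddCommGroup X] [Module R X] [Module.Finite R X] :
    ∃ (n m : ℕ) (f : Module.Dual R X →ₗ[R] (Fin n → R)) (g : (Fin n → R) →ₗ[R] (Fin m → R)),
      Function.Injective f ∧ Function.Exact f g := by
  obtain ⟨n, π, hπ⟩ := Module.Finite.exists_fin' R X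
  obtain ⟨m, κ, hκ⟩ := Module.Finite.exists_fin' R (LinearMap.ker π)
  let σ : (Fin m → R) →ₗ[R] (Fin n → R) := (LinearMap.ker π).subtype ∘ₗ κ
  let en : Module.Dual R (Fin n → R) ≃ₗ[R] (Fin n → R) :=
    ((Pi.basisFun R (Fin n)).toDualEquiv).symm
  let em : Module.Dual R (Fin m → R) ≃ₗ[R] (Fin m → R) :=
    ((Pi.basisFun R (Fin m)).toDualEquiv).symm
  refine ⟨n, m, en.toLinearMap ∘ₗ π.dualMap, em.toLinearMap ∘ₗ σ.dualMap ∘ₗ en.symm.toLinearMap, ?_, ?_⟩
  · exact en.injective.comp (LinearMap.dualMap_injective_of_surjective hπ)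
  · intro v
    constructor
    · intro hv
      have h0 : (en.symm v) ∘ₗ σ = 0 := by
        have : em (σ.dualMap (en.symm v)) = 0 := hv
        exact em.map_eq_zero_iff.1 this
      have hle : LinearMap.ker π ≤ LinearMap.ker (en.symm v) := by
        intro z hz
        obtain ⟨w, hw⟩ := hκ ⟨z, hz⟩
        have := LinearMap.congr_fun h0 w
        simpa [σ, hw] using this
      refine ⟨(LinearMap.ker π).liftQ (en.symm v) hle ∘ₗ (LinearMap.quotKerEquivOfSurjective π hπ).symm.toLinearMap, ?_⟩
      show en _ = v
      conv_rhs => rw [← en.apply_symm_apply v]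
      congr 1
      refine LinearMap.ext fun z => ?_
      rw [LinearMap.dualMap_apply, LinearMap.comp_apply, LinearEquiv.coe_coe,
        show (LinearMap.quotKerEquivOfSurjective π hπ).symm (π z) = Submodule.Quotient.mk z from
          (LinearMap.quotKerEquivOfSurjective π hπ).symm_apply_eq.2 rfl, Submodule.liftQ_apply]
    · rintro ⟨φ, rfl⟩
      show em (σ.dualMap (en.symm (en (π.dualMap φ)))) = 0
      rw [en.symm_apply_apply]
      refine em.map_eq_zero_iff.2 (LinearMap.ext fun w => ?_)
      show φ (π (κ w : Fin n → R)) = 0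
      rw [LinearMap.mem_ker.1 (κ w).2, map_zero]

theorem isReflexive_dual (X : Type u) [AddCommGroup X] [Module R X] [Module.Finite R X] :
    Module.IsReflexive R (Module.Dual R X) := by
  obtain ⟨n, m, f, g, hf, hfg⟩ := exists_exact_dual (R := R) X
  exact isReflexive_of_exact_free f g hf hfg

theorem exists_exact_free [Module.Finite R M] [Module.IsReflexive R M] :
    ∃ (n m : ℕ) (f : M →ₗ[R] (Fin n → R)) (g : (Fin n → R) →ₗ[R] (Fin m → R)),
      Function.Injective f ∧ Function.Exact f g := by
  obtain ⟨n, m, f, g, hf, hfg⟩ := exists_exact_dual (R := R) (Module.Dual R M)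
  refine ⟨n, m, f ∘ₗ (Module.evalEquiv R M).toLinearMap, g, hf.comp (Module.evalEquiv R M).injective, fun v => ?_⟩
  refine (hfg v).trans ⟨fun ⟨w, hw⟩ => ⟨(Module.evalEquiv R M).symm w, ?_⟩, fun ⟨w, hw⟩ => ⟨_, hw⟩⟩
  rw [← hw, LinearMap.comp_apply, LinearEquiv.coe_coe, LinearEquiv.apply_symm_apply]

theorem isReflexive_linearMap (N : Type u) [AddCommGroup N] [Module R N] [Module.Finite R M]
    [Module.Finite R N] [Module.IsReflexive R N] : Module.IsReflexive R (M →ₗ[R] N) := by
  haveI := isReflexive_dual (R := R) (M ⊗[R] Module.Dual R N)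
  exact Module.equiv ((LinearEquiv.congrRight (M := M) (Module.evalEquiv R N)).trans
    (TensorProduct.lift.equiv (RingHom.id R) M (Module.Dual R N) R)).symm

/-- Reflexivity of a localization, from reflexivity. -/
theorem isReflexive_localized [Module.Finite R M] [Module.IsReflexive R M] (S : Submonoid R)
    [IsDomain (Localization S)] : Module.IsReflexive (Localization S) (LocalizedModule S M) := by
  haveI : IsNoetherianRing (Localization S) := IsLocalization.isNoetherianRing S _ inferInstance
  haveI : Module.Finite (Localization S) (LocalizedModule S M) :=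
    Module.Finite.of_isLocalizedModule S (LocalizedModule.mkLinearMap S M)
  obtain ⟨n, m, f, g, hf, hfg⟩ := exists_exact_free (R := R) (M := M)
  let ι : ∀ k, (Fin k → R) →ₗ[R] (Fin k → Localization S) := fun k =>
    LinearMap.pi fun i => Algebra.linearMap R (Localization S) ∘ₗ LinearMap.proj i
  refine isReflexive_of_exact_free
    (IsLocalizedModule.mapExtendScalars S (LocalizedModule.mkLinearMap S M) (ι n) (Localization S) f)
    (IsLocalizedModule.mapExtendScalars S (ι n) (ι m) (Localization S) g) ?_ ?_
  · exact IsLocalizedModule.map_injective S _ _ f hf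
  · exact IsLocalizedModule.map_exact S (LocalizedModule.mkLinearMap S M) (ι n) (ι m) f g hfg

/-- If a localization is reflexive, every functional on the dual is moved into the image of
evaluation by some element outside the multiplicative set. -/
theorem exists_smul_eq_eval [Module.Finite R M] (S : Submonoid R) (hS : S ≤ nonZeroDivisors R)
    [Module.IsReflexive (Localization S) (LocalizedModule S M)] (y : Module.Dual R (Module.Dual R M)) :
    ∃ (s : S) (x : M), Module.Dual.eval R M x = (s : R) • y := by
  let A := Localization S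
  let mk := LocalizedModule.mkLinearMap S M
  let h : Module.Dual R M →ₗ[R] Module.Dual A (LocalizedModule S M) :=
    IsLocalizedModule.mapExtendScalars S mk (Algebra.linearMap R A) A
  haveI : Module.FinitePresentation R M := Module.finitePresentation_of_finite R M
  let y' : Module.Dual A (Module.Dual A (LocalizedModule S M)) :=
    IsLocalizedModule.mapExtendScalars S h (Algebra.linearMap R A) A y
  obtain ⟨z, hz⟩ := (Module.bijective_dual_eval A (LocalizedModule S M)).2 y'
  obtain ⟨⟨x, s⟩, hxs⟩ := IsLocalizedModule.surj S mk z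
  refine ⟨s, x, LinearMap.ext fun φ => IsLocalization.injective A hS ?_⟩
  have h1 : y' (h φ) = algebraMap R A (y φ) := IsLocalizedModule.map_apply S h (Algebra.linearMap R A) y φ
  have h2 : h φ (mk x) = algebraMap R A (φ x) := IsLocalizedModule.map_apply S mk (Algebra.linearMap R A) φ x
  rw [LinearMap.smul_apply, Module.Dual.eval_apply, smul_eq_mul, map_mul, ← h1, ← h2, ← hxs, ← hz,
    Module.Dual.eval_apply, Submonoid.smul_def, ← algebraMap_smul A (s : R) z, map_smul, smul_eq_mul]

theorem isReflexive_of_localized_maximal [Module.Finite R M]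
    (h : ∀ (m : Ideal R) (_ : m.IsMaximal),
      Module.IsReflexive (Localization.AtPrime m) (LocalizedModule m.primeCompl M)) :
    Module.IsReflexive R M := by
  have htf : ∀ (c : R) (x : M), c • x = 0 → c = 0 ∨ x = 0 := by
    intro c x hcx
    refine or_iff_not_imp_left.2 fun hc => ?_
    by_contra hx
    obtain ⟨m, hm, hle⟩ := Ideal.exists_le_maximal ((Submodule.span R {x}).annihilator) (fun htop => hx (by
      have h1 : (1 : R) ∈ (Submodule.span R {x}).annihilator := htop ▸ Submodule.mem_top
      simpa [Submodule.mem_annihilator_span_singleton] using h1))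
    haveI := h m hm
    haveI : Module.IsTorsionFree (Localization.AtPrime m) (LocalizedModule m.primeCompl M) := inferInstance
    have h0 : algebraMap R (Localization.AtPrime m) c • LocalizedModule.mkLinearMap m.primeCompl M x = 0 := by
      rw [algebraMap_smul, ← map_smul, hcx, map_zero]
    rcases smul_eq_zero.1 h0 with h1 | h1
    · exact hc (IsLocalization.injective (Localization.AtPrime m) m.primeCompl_le_nonZeroDivisors
        (h1.trans (map_zero _).symm))
    · obtain ⟨t, ht⟩ := (IsLocalizedModule.eq_zero_iff m.primeCompl _).1 h1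
      exact t.2 (hle (Submodule.mem_annihilator_span_singleton _ _ |>.2 ht))
  haveI : Module.IsTorsionFree R M := Module.isTorsionFree_iff_smul_eq_zero.2 htf
  refine ⟨eval_injective, fun y => ?_⟩
  let I : Ideal R := (LinearMap.range (Module.Dual.eval R M)).comap (LinearMap.toSpanSingleton R _ y)
  suffices hI : I = ⊤ by
    obtain ⟨x, hx⟩ : (1 : R) ∈ I := hI ▸ Submodule.mem_top
    exact ⟨x, hx.trans (by simp)⟩
  by_contra hI
  obtain ⟨m, hm, hle⟩ := Ideal.exists_le_maximal I hI
  haveI := h m hm
  obtain ⟨s, x, hx⟩ := exists_smul_eq_eval m.primeCompl m.primeCompl_le_nonZeroDivisors y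
  exact s.2 (hle (show (s : R) ∈ I from ⟨x, hx⟩))

theorem depth_two_of_isReflexive [Module.Finite R M] [Module.IsReflexive R M] [IsLocalRing R]
    (h : 2 ≤ LocCoh.depth R R)
    (hhom : ∀ (X N : Type u) [AddCommGroup X] [Module R X] [Module.Finite R X] [AddCommGroup N] [Module R N]
      [Module.Finite R N], 2 ≤ LocCoh.depth R N → 2 ≤ LocCoh.depth R (X →ₗ[R] N)) :
    2 ≤ LocCoh.depth R M := by
  rw [Groth.Agent.Hensel.depth_congr (Module.evalEquiv R M)]
  exact hhom (Module.Dual R M) R h

theorem ass_eq_bot_of_torsionFree [Module.IsTorsionFree R M] {p : Ideal R} (hp : p ∈ associatedPrimes R M) :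
    p = ⊥ := by
  obtain ⟨hprime, z, hz⟩ := Groth.Agent.Alg6.mem_ass_iff.1 hp
  refine (Submodule.eq_bot_iff p).2 fun a ha => ?_
  refine (smul_eq_zero.1 ((hz a).1 ha)).resolve_right fun hz0 => ?_
  exact hprime.ne_top ((Ideal.eq_top_iff_one p).2 ((hz 1).2 (by rw [hz0, smul_zero])))

theorem isTorsionFree_of_ass [Module.Finite R M] (h : ∀ p ∈ associatedPrimes R M, p = ⊥) :
    Module.IsTorsionFree R M :=
  Module.isTorsionFree_iff_smul_eq_zero.2 fun c x hcx => by
    refine or_iff_not_imp_right.2 fun hx => ?_
    obtain ⟨p, hp, hmem⟩ := Groth.Agent.Alg6.exists_ass_ge (R := R) hx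
    have := hmem c hcx
    rwa [h p hp, Ideal.mem_bot] at this

/-- Reflexivity is detected at each prime by reflexivity there or depth at least two. -/
theorem isReflexive_of_forall_or [Module.Finite R M]
    (h : ∀ (p : Ideal R) [p.IsPrime], p ≠ ⊥ →
      Module.IsReflexive (Localization.AtPrime p) (LocalizedModule p.primeCompl M) ∨
        2 ≤ LocCoh.depth (Localization.AtPrime p) (LocalizedModule p.primeCompl M)) :
    Module.IsReflexive R M := by
  haveI : Module.IsTorsionFree R M := isTorsionFree_of_ass fun p hp => by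
    by_contra hp0
    haveI := hp.isPrime
    rcases h p hp0 with hr | hd
    · obtain ⟨c, hc, hc0⟩ := Submodule.exists_mem_ne_zero_of_ne_bot hp0
      obtain ⟨-, z, hz⟩ := Groth.Agent.Alg6.mem_ass_iff.1 hp
      have h0 : algebraMap R (Localization.AtPrime p) c • LocalizedModule.mkLinearMap p.primeCompl M z = 0 := by
        rw [algebraMap_smul, ← map_smul, (hz c).1 hc, map_zero]
      haveI : Module.IsTorsionFree (Localization.AtPrime p) (LocalizedModule p.primeCompl M) := inferInstance
      rcases smul_eq_zero.1 h0 with h1 | h1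
      · exact hc0 (IsLocalization.injective (Localization.AtPrime p) p.primeCompl_le_nonZeroDivisors
          (h1.trans (map_zero _).symm))
      · obtain ⟨t, ht⟩ := (IsLocalizedModule.eq_zero_iff p.primeCompl _).1 h1
        exact t.2 ((hz t).2 ht)
    · exact (Groth.Agent.Alg6.one_le_depth_atPrime_iff (M := M) p).1 (le_trans one_le_two hd) hp
  refine ⟨eval_injective, fun y => ?_⟩
  by_contra hy
  let C := Module.Dual R (Module.Dual R M) ⧸ LinearMap.range (Module.Dual.eval R M)
  have hy0 : (Submodule.Quotient.mk y : C) ≠ 0 := fun e => hy ((Submodule.Quotient.mk_eq_zero _).1 e)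
  obtain ⟨p, hp, -⟩ := Groth.Agent.Alg6.exists_ass_ge (R := R) hy0
  obtain ⟨hprime, z, hz⟩ := Groth.Agent.Alg6.mem_ass_iff.1 hp
  haveI := hprime
  obtain ⟨w, rfl⟩ := Submodule.Quotient.mk_surjective _ z
  have hz' : ∀ a : R, a ∈ p ↔ ∃ x, Module.Dual.eval R M x = a • w := fun a => by
    rw [hz a, ← Submodule.Quotient.mk_smul, Submodule.Quotient.mk_eq_zero, LinearMap.mem_range]
  obtain ⟨c, x, hc0, hx⟩ := exists_smul_mem_range w
  have hcp : c ∈ p := (hz' c).2 ⟨x, hx⟩
  have hp0 : p ≠ ⊥ := fun e => hc0 (by rwa [e, Ideal.mem_bot] at hcp)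
  rcases h p hp0 with hr | hd
  · obtain ⟨s, x', hx'⟩ := exists_smul_eq_eval p.primeCompl p.primeCompl_le_nonZeroDivisors w
    exact s.2 ((hz' s).2 ⟨x', hx'⟩)
  · have hreg : IsSMulRegular M c := fun a b e =>
      sub_eq_zero.1 ((smul_eq_zero.1
        (show c • (a - b) = 0 by rw [smul_sub]; exact sub_eq_zero.2 e)).resolve_left hc0)
    refine (Groth.Agent.Alg6.two_le_depth_atPrime_iff (M := M) p hcp hreg).1 hd ?_
    refine Groth.Agent.Alg6.mem_ass_iff.2 ⟨hprime, Submodule.Quotient.mk x, fun a => ?_⟩
    rw [hz' a, ← Submodule.Quotient.mk_smul, Groth.Agent.Alg6.mem_pointwise_smul_top_iff]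
    constructor
    · rintro ⟨v, hv⟩
      exact ⟨v, eval_injective (by rw [map_smul, hv, map_smul, hx, smul_comm])⟩
    · rintro ⟨v, hv⟩
      refine ⟨v, LinearMap.ext fun φ => mul_left_cancel₀ hc0 ?_⟩
      have h1 : φ (c • v) = φ (a • x) := congrArg φ hv
      have h2 : φ x = c * w φ := LinearMap.congr_fun hx φ
      rw [map_smul, map_smul, smul_eq_mul, smul_eq_mul, h2] at h1
      show c * φ v = c * (a * w φ)
      rw [h1]; ring

/-- Over a domain whose localization at `p` is a field or discrete valuation ring, torsion free finite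
modules are reflexive at `p`. -/
theorem isReflexive_localized_of_pid [Module.Finite R M] [Module.IsTorsionFree R M] (p : Ideal R) [p.IsPrime]
    [IsPrincipalIdealRing (Localization.AtPrime p)] :
    Module.IsReflexive (Localization.AtPrime p) (LocalizedModule p.primeCompl M) := by
  haveI : Module.Finite (Localization.AtPrime p) (LocalizedModule p.primeCompl M) :=
    Module.Finite.of_isLocalizedModule p.primeCompl (LocalizedModule.mkLinearMap _ M)
  haveI : Module.IsTorsionFree (Localization.AtPrime p) (LocalizedModule p.primeCompl M) := by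
    refine Module.isTorsionFree_iff_smul_eq_zero.2 fun c z hcz => or_iff_not_imp_left.2 fun hc => ?_
    obtain ⟨a, s, rfl⟩ := IsLocalization.exists_mk'_eq p.primeCompl c
    induction z using LocalizedModule.induction_on with
    | h m t =>
      rw [← Localization.mk_eq_mk', LocalizedModule.mk_smul_mk, IsLocalizedModule.mk_eq_mk', IsLocalizedModule.mk'_eq_zero'] at hcz
      obtain ⟨r, hr⟩ := hcz
      rw [Submonoid.smul_def, smul_smul] at hr
      have ha : a ≠ 0 := fun e => hc (by rw [e, IsLocalization.mk'_zero])
      have hr0 : (r : R) ≠ 0 := fun e => r.2 (by rw [e]; exact p.zero_mem)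
      rw [(smul_eq_zero.1 hr).resolve_left (mul_ne_zero hr0 ha),
        LocalizedModule.zero_mk]
  infer_instance

end Groth.Agent.CAlgOdd.Refl
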