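import Groth.Prelude.Def_CAlgX
import Mathlib.RingTheory.Localization.BaseChange
import Mathlib.LinearAlgebra.TensorProduct.Tower

/-!
# Universal injectivity over a localization
-/

universe u

open TensorProduct

namespace Groth.Agent.CAlgOdd

variable {A As : Type u} [CommRing A] [CommRing As] [Algebra A As] (S : Submonoid A) [IsLocalization S As]
variable {M N : Type u} [AddCommGroup M] [AddCommGroup N] [Module A M] [Module A N] [Module As M] [Module As N]
  [IsScalarTower A As M] [IsScalarTower A As N]

include S in
theorem universallyInjective_iff_localization (g : M →ₗ[As] N) :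
    CAlgX.UniversallyInjective A (g.restrictScalars A) ↔ CAlgX.UniversallyInjective As g := by
  constructor
  · intro h Q _ _
    let : Module A Q := Module.compHom Q (algebraMap A As)
    have : IsScalarTower A As Q := IsScalarTower.of_algebraMap_smul fun _ _ => rfl
    let eM := IsLocalization.moduleTensorEquiv S As M Q
    let eN := IsLocalization.moduleTensorEquiv S As N Q
    have hnat : ∀ z, eN (g.rTensor Q z) = (g.restrictScalars A).rTensor Q (eM z) := by
      intro z
      induction z using TensorProduct.induction_on with
      | zero => simp
      | tmul m q => rfl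
      | add a b ha hb => simp [ha, hb]
    exact fun a b hab => eM.injective (h Q (by rw [← hnat, ← hnat, hab]))
  · intro h Q _ _
    let eM : M ⊗[As] (As ⊗[A] Q) ≃ₗ[As] M ⊗[A] Q :=
      AlgebraTensorModule.cancelBaseChange A As As M Q
    let eN : N ⊗[As] (As ⊗[A] Q) ≃ₗ[As] N ⊗[A] Q :=
      AlgebraTensorModule.cancelBaseChange A As As N Q
    have hnat : ∀ z, eN (g.rTensor (As ⊗[A] Q) z) = (g.restrictScalars A).rTensor Q (eM z) := by
      intro z
      induction z using TensorProduct.induction_on with
      | zero => simp
      | tmul m q =>
        induction q using TensorProduct.induction_on with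
        | zero => simp
        | tmul a q => simp [eM, eN]
        | add a b ha hb => simp only [TensorProduct.tmul_add, map_add, ha, hb]
      | add a b ha hb => simp [ha, hb]
    intro a b hab
    obtain ⟨a, rfl⟩ := eM.surjective a
    obtain ⟨b, rfl⟩ := eM.surjective b
    rw [← hnat, ← hnat] at hab
    rw [h (As ⊗[A] Q) (eN.injective hab)]

end Groth.Agent.CAlgOdd
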